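import Cfsg.Agent.Fusion.RankThree.Tools
import Cfsg.Agent.PGroups.SpecialCoprime
import Cfsg.Agent.Transfer.Basic

/-!
Models of normal subgroups of index `p` in a `p`-group of sectional rank at most three: invariant
subgroups, closures and the stabilisers of invariant series.
-/

set_option autoImplicit false
set_option linter.unusedSectionVars false
set_option linter.style.haveILetI false

namespace Cfsg.Lib.Fusion.RankThreePair

open Subgroup Cfsg.Lib.Fusion.RankThree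
open scoped commutatorElement

universe u

variable {p : ℕ} [hp : Fact p.Prime] {T : Type u} [Group T]

/-- The elements of order dividing `p` of the centre. -/
def zOmega (p : ℕ) (T : Type u) [Group T] : Subgroup T where
  carrier := {x | x ∈ center T ∧ x ^ p = 1}
  one_mem' := ⟨one_mem _, one_pow _⟩
  mul_mem' := fun {a b} ha hb => ⟨mul_mem ha.1 hb.1, by
    rw [(show Commute a b from (mem_center_iff.1 hb.1 a)).mul_pow, ha.2, hb.2, mul_one]⟩
  inv_mem' := fun {a} ha => ⟨inv_mem ha.1, by rw [inv_pow, ha.2, inv_one]⟩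

instance zOmega_normal : (zOmega p T).Normal :=
  ⟨fun x hx g => by rwa [mem_center_iff.1 hx.1 g, mul_inv_cancel_right]⟩

/-- The subgroup generated by commutators and `p`-th powers. -/
def phi (p : ℕ) (X : Subgroup T) : Subgroup T := ⁅X, X⁆ ⊔ pw p X

theorem phi_le_self (X : Subgroup T) : phi p X ≤ X :=
  sup_le (Subgroup.commutator_le_self X) (pw_le_self X)

theorem phi_mono {X Y : Subgroup T} (h : X ≤ Y) : phi p X ≤ phi p Y :=
  sup_le_sup (Subgroup.commutator_mono h h) (pw_mono h)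

instance phi_normal (X : Subgroup T) [X.Normal] : (phi p X).Normal :=
  @Subgroup.sup_normal _ _ _ _ inferInstance inferInstance

/-- `phi` consists of nongenerators. -/
theorem le_of_sup_phi [Finite T] (hT : IsPGroup p T) {X Y : Subgroup T} (hYX : Y ≤ X)
    (h : X ≤ Y ⊔ phi p X) : X ≤ Y := by
  have hX := hT.to_subgroup X
  have hphi : phi p X ≤ (frattini X).map X.subtype := by
    refine sup_le (Subgroup.commutator_le.2 fun a ha b hb => ?_) (pw_le_iff.2 fun a ha => ?_)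
    · exact ⟨⁅⟨a, ha⟩, ⟨b, hb⟩⁆, Cfsg.Lib.PGroups.commutator_le_frattini hX
        (commutator_mem_commutator (mem_top _) (mem_top _)), rfl⟩
    · exact ⟨⟨a, ha⟩ ^ p, Cfsg.Lib.PGroups.pow_mem_frattini hX _, rfl⟩
  have htop : Y.subgroupOf X ⊔ frattini X = ⊤ := by
    refine eq_top_iff.2 fun x _ => ?_
    have h1 : (x : T) ∈ (Y.subgroupOf X ⊔ frattini X).map X.subtype := by
      rw [Subgroup.map_sup, Subgroup.map_subgroupOf_eq_of_le hYX]
      exact sup_le_sup_left hphi _ (h x.2)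
    exact (Subgroup.mem_map_iff_mem X.subtype_injective).1 h1
  intro x hx
  exact mem_subgroupOf.1 ((frattini_nongenerating htop).ge (mem_top (⟨x, hx⟩ : X)))

/-- An elementary abelian subgroup has order at most `p ^ 3`. -/
theorem elem_card_le (hr : RankThreeLE p T) (A : Subgroup T) (hc : ∀ x ∈ A, ∀ y ∈ A, Commute x y)
    (he : ∀ x ∈ A, x ^ p = 1) : Nat.card A ≤ p ^ 3 := by
  have h := hr A ⊥ bot_le (fun x hx y hy => Subgroup.mem_bot.2
    (commutatorElement_eq_one_iff_commute.2 (hc x hx y hy))) fun x hx => Subgroup.mem_bot.2 (he x hx)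
  rwa [Subgroup.card_bot, mul_one] at h

theorem pow_p_of_sup [Finite T] (hp2 : p ≠ 2) {A B : Subgroup T} (hA : ∀ x ∈ A, x ^ p = 1)
    (hB : ∀ x ∈ B, x ^ p = 1) (hc : ∀ x ∈ A ⊔ B, ∀ y ∈ A ⊔ B, ∀ z ∈ A ⊔ B, Commute ⁅x, y⁆ z) :
    ∀ x ∈ A ⊔ B, x ^ p = 1 := by
  intro x hx
  let U : Subgroup T :=
    { carrier := {x | x ∈ A ⊔ B ∧ x ^ p = 1}
      one_mem' := ⟨one_mem _, one_pow _⟩
      mul_mem' := fun {a b} ha hb => ⟨mul_mem ha.1 hb.1, by
        rw [Cfsg.Lib.PGroups.mul_pow_of_commute_commutator (hc b hb.1 a ha.1 a ha.1)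
          (hc b hb.1 a ha.1 b hb.1), ha.2, hb.2, one_mul, one_mul]
        obtain ⟨k, hk⟩ := Cfsg.Lib.PGroups.dvd_choose_two hp.out hp2
        have h1 : ⁅b, a⁆ ^ p = 1 := by
          rw [← Cfsg.Lib.PGroups.commutator_pow_left_of_commute (hc b hb.1 a ha.1 b hb.1) p, hb.2,
            commutatorElement_one_left]
        rw [hk, pow_mul, h1, one_pow]⟩
      inv_mem' := fun {a} ha => ⟨inv_mem ha.1, by rw [inv_pow, ha.2, inv_one]⟩ }
  exact ((sup_le (fun y hy => ⟨mem_sup_left hy, hA y hy⟩) fun y hy => ⟨mem_sup_right hy, hB y hy⟩ :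
    A ⊔ B ≤ U) hx).2

/-- A model of a normal subgroup of index `p`. -/
structure Mdl (p : ℕ) (T : Type u) [Group T] where
  /-- The model group. -/
  G : Type u
  [grp : Group G]
  [fin : Finite G]
  /-- The embedding. -/
  ι : T →* G
  inj : Function.Injective ι
  /-- The subgroup. -/
  E : Subgroup T
  index_eq : E.index = p
  normal : (E.map ι).Normal
  cent : centralizer ((E.map ι : Subgroup G) : Set G) ≤ E.map ι
  sylow : ¬ p ∣ ι.range.index
  notNormal : ¬ ι.range.Normal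

attribute [instance] Mdl.grp Mdl.fin

namespace Mdl

variable (M : Mdl p T)

/-- Conjugation by an element of the model, read in `T`. -/
noncomputable def cj (g : M.G) (x : T) : T := Function.invFun M.ι (g * M.ι x * g⁻¹)

theorem ι_cj {g : M.G} {x : T} (hx : x ∈ M.E) : M.ι (M.cj g x) = g * M.ι x * g⁻¹ := by
  obtain ⟨y, -, hy⟩ := M.normal.conj_mem _ (mem_map_of_mem M.ι hx) g
  exact Function.invFun_eq ⟨y, hy⟩

theorem cj_mem {g : M.G} {x : T} (hx : x ∈ M.E) : M.cj g x ∈ M.E := by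
  obtain ⟨y, hyE, hy⟩ := M.normal.conj_mem _ (mem_map_of_mem M.ι hx) g
  rw [show M.cj g x = y from M.inj ((M.ι_cj hx).trans hy.symm)]
  exact hyE

theorem cj_eq {g : M.G} {x y : T} (hx : x ∈ M.E) (h : M.ι y = g * M.ι x * g⁻¹) : M.cj g x = y :=
  M.inj ((M.ι_cj hx).trans h.symm)

theorem cj_range {t x : T} (hx : x ∈ M.E) : M.cj (M.ι t) x = t * x * t⁻¹ :=
  M.cj_eq hx (by rw [map_mul, map_mul, map_inv])

theorem cj_one_left {x : T} (hx : x ∈ M.E) : M.cj 1 x = x :=
  M.cj_eq hx (by group)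

theorem cj_mul_left {g h : M.G} {x : T} (hx : x ∈ M.E) : M.cj (g * h) x = M.cj g (M.cj h x) :=
  M.cj_eq hx (by rw [M.ι_cj (M.cj_mem hx), M.ι_cj hx]; group)

theorem cj_mul {g : M.G} {x y : T} (hx : x ∈ M.E) (hy : y ∈ M.E) :
    M.cj g (x * y) = M.cj g x * M.cj g y :=
  M.cj_eq (mul_mem hx hy) (by rw [map_mul, map_mul, M.ι_cj hx, M.ι_cj hy]; group)

theorem cj_one {g : M.G} : M.cj g 1 = 1 := M.cj_eq (one_mem _) (by simp)

theorem cj_inv {g : M.G} {x : T} (hx : x ∈ M.E) : M.cj g x⁻¹ = (M.cj g x)⁻¹ :=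
  M.cj_eq (inv_mem hx) (by rw [map_inv, map_inv, M.ι_cj hx]; group)

theorem cj_pow {g : M.G} {x : T} (hx : x ∈ M.E) (n : ℕ) : M.cj g (x ^ n) = M.cj g x ^ n :=
  M.cj_eq (pow_mem hx n) (by rw [map_pow, map_pow, M.ι_cj hx, conj_pow])

theorem cj_comm {g : M.G} {x y : T} (hx : x ∈ M.E) (hy : y ∈ M.E) :
    M.cj g ⁅x, y⁆ = ⁅M.cj g x, M.cj g y⁆ :=
  M.cj_eq (M.E.mul_mem (M.E.mul_mem (M.E.mul_mem hx hy) (inv_mem hx)) (inv_mem hy)) (by
    rw [map_commutatorElement, map_commutatorElement, M.ι_cj hx, M.ι_cj hy]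
    simp only [commutatorElement_def]
    group)

theorem cj_inj {g : M.G} {x y : T} (hx : x ∈ M.E) (hy : y ∈ M.E) (h : M.cj g x = M.cj g y) :
    x = y := by
  have := congrArg (M.cj g⁻¹) h
  rwa [← M.cj_mul_left hx, ← M.cj_mul_left hy, inv_mul_cancel, M.cj_one_left hx,
    M.cj_one_left hy] at this

theorem cj_cj_inv {g : M.G} {x : T} (hx : x ∈ M.E) : M.cj g (M.cj g⁻¹ x) = x := by
  rw [← M.cj_mul_left hx, mul_inv_cancel, M.cj_one_left hx]

theorem cj_inv_cj {g : M.G} {x : T} (hx : x ∈ M.E) : M.cj g⁻¹ (M.cj g x) = x := by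
  rw [← M.cj_mul_left hx, inv_mul_cancel, M.cj_one_left hx]

/-- Invariance under the model. -/
def Inv (X : Subgroup T) : Prop := X ≤ M.E ∧ ∀ (g : M.G), ∀ x ∈ X, M.cj g x ∈ X

theorem inv_map_normal {X : Subgroup T} (h : M.Inv X) : (X.map M.ι).Normal :=
  ⟨by rintro _ ⟨x, hx, rfl⟩ g; exact ⟨_, h.2 g x hx, M.ι_cj (h.1 hx)⟩⟩

theorem inv_of_map_normal {X : Subgroup T} (hX : X ≤ M.E) (h : (X.map M.ι).Normal) : M.Inv X :=
  ⟨hX, fun g x hx => by
    obtain ⟨y, hy, e⟩ := h.conj_mem _ (mem_map_of_mem M.ι hx) g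
    rwa [M.cj_eq (hX hx) e]⟩

theorem inv_normal {X : Subgroup T} (h : M.Inv X) : X.Normal :=
  ⟨fun x hx t => M.cj_range (h.1 hx) ▸ h.2 (M.ι t) x hx⟩

theorem inv_E : M.Inv M.E := ⟨le_rfl, fun _ _ hx => M.cj_mem hx⟩

theorem E_normal : M.E.Normal := M.inv_normal M.inv_E

theorem inv_bot : M.Inv ⊥ := ⟨bot_le, fun g x hx => by rw [mem_bot.1 hx, M.cj_one]; exact one_mem _⟩

theorem inv_inf {X Y : Subgroup T} (hX : M.Inv X) (hY : M.Inv Y) : M.Inv (X ⊓ Y) :=
  ⟨inf_le_left.trans hX.1, fun g x hx => ⟨hX.2 g x hx.1, hY.2 g x hx.2⟩⟩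

theorem inv_sup {X Y : Subgroup T} (hX : M.Inv X) (hY : M.Inv Y) : M.Inv (X ⊔ Y) := by
  refine M.inv_of_map_normal (sup_le hX.1 hY.1) ?_
  rw [Subgroup.map_sup]
  exact @Subgroup.sup_normal _ _ _ _ (M.inv_map_normal hX) (M.inv_map_normal hY)

theorem inv_commutator {X Y : Subgroup T} (hX : M.Inv X) (hY : M.Inv Y) : M.Inv ⁅X, Y⁆ := by
  haveI := M.inv_map_normal hX
  haveI := M.inv_map_normal hY
  refine M.inv_of_map_normal ((Subgroup.commutator_mono hX.1 hY.1).trans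
    (Subgroup.commutator_le_self _)) ?_
  rw [Subgroup.map_commutator]
  infer_instance

theorem inv_pw {X : Subgroup T} (hX : M.Inv X) : M.Inv (pw p X) := by
  haveI := M.inv_map_normal hX
  refine M.inv_of_map_normal ((pw_le_self X).trans hX.1) ?_
  rw [map_pw]
  infer_instance

theorem inv_phi {X : Subgroup T} (hX : M.Inv X) : M.Inv (phi p X) :=
  M.inv_sup (M.inv_commutator hX hX) (M.inv_pw hX)

theorem inv_centralizer {X : Subgroup T} (hX : M.Inv X) : M.Inv (M.E ⊓ centralizer (X : Set T)) :=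
  ⟨inf_le_left, fun g c hc => ⟨M.cj_mem hc.1, mem_centralizer_iff.2 fun x hx => by
    have h1 : M.cj g⁻¹ x * c = c * M.cj g⁻¹ x := mem_centralizer_iff.1 hc.2 _ (hX.2 g⁻¹ x hx)
    have h2 := congrArg (M.cj g) h1
    rwa [M.cj_mul (M.cj_mem (hX.1 hx)) hc.1, M.cj_mul hc.1 (M.cj_mem (hX.1 hx)),
      M.cj_cj_inv (hX.1 hx)] at h2⟩⟩

/-- The image of a subgroup under an element of the model. -/
noncomputable def conjSub (g : M.G) (X : Subgroup T) : Subgroup T :=
  ((X.map M.ι).map (MulAut.conj g).toMonoidHom).comap M.ι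

theorem mem_conjSub {g : M.G} {X : Subgroup T} (hX : X ≤ M.E) {y : T} :
    y ∈ M.conjSub g X ↔ ∃ x ∈ X, M.cj g x = y := by
  constructor
  · rintro ⟨_, ⟨x, hx, rfl⟩, e⟩
    exact ⟨x, hx, M.cj_eq (hX hx) e.symm⟩
  · rintro ⟨x, hx, rfl⟩
    exact ⟨M.ι x, mem_map_of_mem _ hx, (M.ι_cj (hX hx)).symm⟩

theorem conjSub_le {g : M.G} {X : Subgroup T} (hX : X ≤ M.E) : M.conjSub g X ≤ M.E := fun y hy => by
  obtain ⟨x, hx, rfl⟩ := (M.mem_conjSub hX).1 hy
  exact M.cj_mem (hX hx)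

theorem cj_mem_conjSub {g : M.G} {X : Subgroup T} (hX : X ≤ M.E) {x : T} (hx : x ∈ X) :
    M.cj g x ∈ M.conjSub g X := (M.mem_conjSub hX).2 ⟨x, hx, rfl⟩

theorem card_conjSub {g : M.G} {X : Subgroup T} (hX : X ≤ M.E) :
    Nat.card (M.conjSub g X) = Nat.card X := by
  refine (Nat.card_congr (Equiv.ofBijective
    (fun x : X => (⟨M.cj g x, M.cj_mem_conjSub hX x.2⟩ : M.conjSub g X)) ⟨fun x y h => ?_,
      fun y => ?_⟩)).symm
  · exact Subtype.ext (M.cj_inj (hX x.2) (hX y.2) (congrArg Subtype.val h))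
  · obtain ⟨x, hx, e⟩ := (M.mem_conjSub hX).1 y.2
    exact ⟨⟨x, hx⟩, Subtype.ext e⟩

theorem conjSub_mono {g : M.G} {X Y : Subgroup T} (h : X ≤ Y) : M.conjSub g X ≤ M.conjSub g Y :=
  Subgroup.comap_mono (Subgroup.map_mono (Subgroup.map_mono h))

theorem conjSub_eq_of_inv [Finite T] {g : M.G} {X : Subgroup T} (hX : M.Inv X) : M.conjSub g X = X :=
  Subgroup.eq_of_le_of_card_ge (fun y hy => by
    obtain ⟨x, hx, rfl⟩ := (M.mem_conjSub hX.1).1 hy
    exact hX.2 g x hx) (M.card_conjSub hX.1).ge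

theorem conjSub_normal {g : M.G} {X : Subgroup T} (hX : X ≤ M.E) (hn : X.Normal) :
    ∀ e ∈ M.E, ∀ y ∈ M.conjSub g X, e * y * e⁻¹ ∈ M.conjSub g X := fun e he y hy => by
  obtain ⟨x, hx, rfl⟩ := (M.mem_conjSub hX).1 hy
  refine (M.mem_conjSub hX).2 ⟨_, hn.conj_mem x hx (M.cj g⁻¹ e), ?_⟩
  rw [M.cj_mul (mul_mem (M.cj_mem he) (hX hx)) (inv_mem (M.cj_mem he)), M.cj_mul (M.cj_mem he) (hX hx),
    M.cj_inv (M.cj_mem he), M.cj_cj_inv he]

/-- The least invariant subgroup above a subgroup. -/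
noncomputable def cl (X : Subgroup T) : Subgroup T :=
  (normalClosure ((X.map M.ι : Subgroup M.G) : Set M.G)).comap M.ι

theorem le_cl (X : Subgroup T) : X ≤ M.cl X := fun x hx =>
  le_normalClosure (mem_map_of_mem M.ι hx)

theorem cl_le_of_conj {X Y : Subgroup T} (hX : X ≤ M.E)
    (h : ∀ (g : M.G), ∀ x ∈ X, M.cj g x ∈ Y) : M.cl X ≤ Y := by
  have h1 : normalClosure ((X.map M.ι : Subgroup M.G) : Set M.G) ≤ Y.map M.ι := by
    refine (closure_le _).2 fun y hy => ?_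
    obtain ⟨_, ⟨x, hx, rfl⟩, hxy⟩ := Group.mem_conjugatesOfSet_iff.1 hy
    obtain ⟨g, rfl⟩ := isConj_iff.1 hxy
    exact ⟨_, h g x hx, M.ι_cj (hX hx)⟩
  intro x hx
  exact (Subgroup.mem_map_iff_mem M.inj).1 (h1 hx)

theorem cl_le {X Y : Subgroup T} (hY : M.Inv Y) (h : X ≤ Y) : M.cl X ≤ Y :=
  M.cl_le_of_conj (h.trans hY.1) fun g x hx => hY.2 g x (h hx)

theorem cl_le_E {X : Subgroup T} (hX : X ≤ M.E) : M.cl X ≤ M.E := M.cl_le M.inv_E hX

theorem inv_cl {X : Subgroup T} (hX : X ≤ M.E) : M.Inv (M.cl X) := by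
  refine ⟨M.cl_le_E hX, fun g x hx => ?_⟩
  show M.ι _ ∈ normalClosure _
  rw [M.ι_cj (M.cl_le_E hX hx)]
  exact normalClosure_normal.conj_mem _ hx g

theorem conjSub_le_cl {g : M.G} {X : Subgroup T} (hX : X ≤ M.E) : M.conjSub g X ≤ M.cl X :=
  fun y hy => by
    obtain ⟨x, hx, rfl⟩ := (M.mem_conjSub hX).1 hy
    exact (M.inv_cl hX).2 g x (M.le_cl X hx)

theorem inv_of_conjSub_le {X : Subgroup T} (hX : X ≤ M.E) (h : ∀ g, M.conjSub g X ≤ X) : M.Inv X :=
  ⟨hX, fun g _ hx => h g (M.cj_mem_conjSub hX hx)⟩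

/-- A subgroup that is not invariant has a conjugate different from it. -/
theorem exists_conjSub_ne {X : Subgroup T} (hX : X ≤ M.E) (h : ¬ M.Inv X) :
    ∃ g, M.conjSub g X ≠ X := by
  by_contra hh
  push Not at hh
  exact h (M.inv_of_conjSub_le hX fun g => (hh g).le)

/-! ### The centre and its closure -/

theorem centralizer_E_le : centralizer (M.E : Set T) ≤ M.E := fun x hx => by
  refine (Subgroup.mem_map_iff_mem M.inj).1 (M.cent (mem_centralizer_iff.2 ?_))
  rintro _ ⟨e, he, rfl⟩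
  rw [← map_mul, ← map_mul, mem_centralizer_iff.1 hx e he]

theorem center_le : center T ≤ M.E := fun _ hz =>
  M.centralizer_E_le (mem_centralizer_iff.2 fun e _ => mem_center_iff.1 hz e)

theorem zOmega_le : zOmega p T ≤ M.E := fun _ hz => M.center_le hz.1

/-- The closure of the elements of order dividing `p` of the centre. -/
noncomputable def V : Subgroup T := M.cl (zOmega p T)

theorem inv_V : M.Inv M.V := M.inv_cl M.zOmega_le

theorem zOmega_le_V : zOmega p T ≤ M.V := M.le_cl _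

theorem V_spec : ∀ v ∈ M.V, (∀ e ∈ M.E, Commute v e) ∧ v ^ p = 1 := by
  let W : Subgroup T :=
    { carrier := {x | x ∈ M.E ∧ (∀ e ∈ M.E, Commute x e) ∧ x ^ p = 1}
      one_mem' := ⟨one_mem _, fun _ _ => Commute.one_left _, one_pow _⟩
      mul_mem' := fun {a b} ha hb => ⟨mul_mem ha.1 hb.1, fun e he => (ha.2.1 e he).mul_left (hb.2.1 e he),
        by rw [(ha.2.1 b hb.1).mul_pow, ha.2.2, hb.2.2, mul_one]⟩
      inv_mem' := fun {a} ha => ⟨inv_mem ha.1, fun e he => (ha.2.1 e he).inv_left,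
        by rw [inv_pow, ha.2.2, inv_one]⟩ }
  have h : M.V ≤ W := M.cl_le_of_conj M.zOmega_le fun g x hx => by
    refine ⟨M.cj_mem (M.zOmega_le hx), fun e he => ?_, ?_⟩
    · have h1 := congrArg (M.cj g) (mem_center_iff.1 hx.1 (M.cj g⁻¹ e))
      rw [M.cj_mul (M.cj_mem he) (M.zOmega_le hx), M.cj_mul (M.zOmega_le hx) (M.cj_mem he),
        M.cj_cj_inv he] at h1
      exact h1.symm
    · rw [← M.cj_pow (M.zOmega_le hx), hx.2, M.cj_one]
  exact fun v hv => (h hv).2

theorem V_comm : ∀ x ∈ M.V, ∀ y ∈ M.V, Commute x y :=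
  fun x hx y hy => (M.V_spec x hx).1 y (M.inv_V.1 hy)

theorem V_pow : ∀ x ∈ M.V, x ^ p = 1 := fun x hx => (M.V_spec x hx).2

theorem V_card (hr : RankThreeLE p T) : Nat.card M.V ≤ p ^ 3 := elem_card_le hr M.V M.V_comm M.V_pow

theorem E_le_centralizer_V : M.E ≤ centralizer (M.V : Set T) := fun e he =>
  mem_centralizer_iff.2 fun v hv => (M.V_spec v hv).1 e he

/-! ### Index `p` -/

theorem eq_top_of_lt [Finite T] {X : Subgroup T} (hX : M.E ≤ X) {x : T} (hx : x ∈ X)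
    (hxE : x ∉ M.E) : X = ⊤ := by
  have h := Subgroup.relIndex_mul_index hX
  rw [M.index_eq] at h
  rcases (Nat.dvd_prime hp.out).1 (Dvd.intro_left _ h) with h1 | h1
  · exact Subgroup.index_eq_one.1 h1
  · rw [h1, Nat.mul_eq_right hp.out.ne_zero] at h
    exact absurd (Subgroup.relIndex_eq_one.1 h hx) hxE

theorem exists_not_mem : ∃ x, x ∉ M.E := by
  by_contra h
  push Not at h
  have := M.index_eq
  rw [show M.E = ⊤ from eq_top_iff.2 fun x _ => h x, Subgroup.index_top] at this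
  exact hp.out.ne_one this.symm

theorem pow_mem_E (x : T) : x ^ p ∈ M.E := by
  haveI := M.E_normal
  have h := M.E.pow_index_mem x
  rwa [M.index_eq] at h

theorem commutator_mem_E (x y : T) : ⁅x, y⁆ ∈ M.E := by
  haveI := M.E_normal
  haveI : IsCyclic (T ⧸ M.E) := isCyclic_of_prime_card (p := p) (by
    rw [← Subgroup.index_eq_card, M.index_eq])
  rw [← QuotientGroup.eq_one_iff]
  show QuotientGroup.mk' M.E ⁅x, y⁆ = 1
  rw [map_commutatorElement, commutatorElement_eq_one_iff_mul_comm]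
  exact mul_comm' _ _

theorem centralizer_V_eq [Finite T] (hV : M.V ≠ zOmega p T) : centralizer (M.V : Set T) = M.E := by
  refine le_antisymm ?_ M.E_le_centralizer_V
  by_contra hne
  obtain ⟨x, hx, hxE⟩ := SetLike.not_le_iff_exists.1 hne
  have htop := M.eq_top_of_lt M.E_le_centralizer_V hx hxE
  refine hV (le_antisymm (fun v hv => ⟨mem_center_iff.2 fun t => ?_, M.V_pow v hv⟩) M.zOmega_le_V)
  exact (mem_centralizer_iff.1 (htop.ge (mem_top t)) v hv).symm

theorem V_fixed_le [Finite T] {x : T} (hxE : x ∉ M.E) {v : T} (hv : v ∈ M.V) (h : Commute x v) :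
    v ∈ zOmega p T := by
  refine ⟨mem_center_iff.2 fun t => ?_, M.V_pow v hv⟩
  have htop := M.eq_top_of_lt (X := centralizer {v})
    (fun e he => mem_centralizer_singleton_iff.2 ((M.V_spec v hv).1 e he).eq.symm)
    (mem_centralizer_singleton_iff.2 h.eq) hxE
  exact mem_centralizer_singleton_iff.1 (htop.ge (mem_top t))

/-- The normal closure of the image of `T`. -/
noncomputable def L : Subgroup M.G := normalClosure (M.ι.range : Set M.G)

theorem range_eq_of_mem {x : T} (hxE : x ∉ M.E) [Finite T] {K : Subgroup M.G}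
    (hEK : M.E.map M.ι ≤ K) (hx : M.ι x ∈ K) : M.ι.range ≤ K := by
  have htop := M.eq_top_of_lt (X := K.comap M.ι) (Subgroup.map_le_iff_le_comap.1 hEK) hx hxE
  rintro _ ⟨t, rfl⟩
  exact htop.ge (mem_top t)

/-- No element outside stabilises an invariant series. -/
theorem stab [Finite T] (hT : IsPGroup p T) {x : T} {n : ℕ} (C : ℕ → Subgroup T) (h0 : C 0 = M.E)
    (hn : C n = ⊥) (hC : ∀ i < n, M.Inv (C i))
    (hx : ∀ i < n, ∀ e ∈ C i, ⁅x, e⁆ ∈ C (i + 1)) : x ∈ M.E := by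
  by_contra hxE
  have hCn : ∀ i ≤ n, M.Inv (C i) := fun i hi => by
    rcases hi.eq_or_lt with rfl | h
    · exact hn ▸ M.inv_bot
    · exact hC i h
  let K : Subgroup M.G :=
    { carrier := {g | ∀ i < n, ∀ e ∈ C i, M.cj g e * e⁻¹ ∈ C (i + 1)}
      one_mem' := fun i hi e he => by
        rw [M.cj_one_left ((hC i hi).1 he), mul_inv_cancel]; exact one_mem _
      mul_mem' := fun {a b} ha hb i hi e he => by
        have h1 := mul_mem (ha i hi _ ((hC i hi).2 b e he)) (hb i hi e he)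
        rwa [← M.cj_mul_left ((hC i hi).1 he), ← mul_assoc, inv_mul_cancel_right] at h1
      inv_mem' := fun {a} ha i hi e he => by
        have h1 := inv_mem (ha i hi _ ((hC i hi).2 a⁻¹ e he))
        rwa [M.cj_cj_inv ((hC i hi).1 he), mul_inv_rev, inv_inv] at h1 }
  have hK : K.Normal := ⟨fun k hk g i hi e he => by
    have he' := (hC i hi).2 g⁻¹ e he
    have h1 := (hCn (i + 1) hi).2 g _ (hk i hi _ he')
    have hE := (hC i hi).1 he
    rwa [M.cj_mul (M.cj_mem (M.cj_mem hE)) (inv_mem (M.cj_mem hE)), M.cj_inv (M.cj_mem hE),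
      M.cj_cj_inv hE, ← M.cj_mul_left (M.cj_mem hE), ← M.cj_mul_left hE] at h1⟩
  have hKp : IsPGroup p K := by
    rintro ⟨g, hg⟩
    obtain ⟨gp, gq, -, hgq, he, ⟨i, hi⟩, hcop⟩ := Cfsg.Lib.Transfer.exists_pPart p g
    have hq : gq ∈ K := (Subgroup.zpowers_le.mpr hg) hgq
    have hfix : ∀ k i, i ≤ n → n ≤ i + k → ∀ e ∈ C i, M.cj gq e = e := by
      intro k
      induction k with
      | zero =>
        intro i hi hk e he
        obtain rfl : i = n := by omega
        rw [hn, mem_bot] at he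
        rw [he, M.cj_one]
      | succ k ih =>
        intro i hi hk e he
        rcases hi.eq_or_lt with rfl | hlt
        · rw [hn, mem_bot] at he
          rw [he, M.cj_one]
        have heE := (hC i hlt).1 he
        obtain ⟨v, hv⟩ : ∃ v, v = M.cj gq e * e⁻¹ := ⟨_, rfl⟩
        have hvC : v ∈ C (i + 1) := hv ▸ hq i hlt e he
        have hvE : v ∈ M.E := (hCn (i + 1) hlt).1 hvC
        have hvfix := ih (i + 1) hlt (by omega) v hvC
        have hiter : ∀ m : ℕ, M.cj (gq ^ m) e = v ^ m * e := by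
          intro m
          induction m with
          | zero => rw [pow_zero, pow_zero, one_mul, M.cj_one_left heE]
          | succ m ihm =>
            rw [pow_succ', M.cj_mul_left heE, ihm, M.cj_mul (pow_mem hvE m) heE, M.cj_pow hvE, hvfix,
              pow_succ, mul_assoc, hv, inv_mul_cancel_right]
        have h1 := hiter (orderOf gq)
        rw [pow_orderOf_eq_one, M.cj_one_left heE] at h1
        obtain ⟨j, hj⟩ := hT v
        have hv1 : v = 1 := orderOf_eq_one_iff.mp (Nat.eq_one_of_dvd_coprimes (hcop.pow_right j)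
          (orderOf_dvd_of_pow_eq_one (right_eq_mul.mp h1)) (orderOf_dvd_of_pow_eq_one hj))
        rw [hv1] at hv
        exact mul_inv_eq_one.1 hv.symm
    have hcen : gq ∈ M.E.map M.ι := M.cent (mem_centralizer_iff.2 (by
      rintro _ ⟨e, he', rfl⟩
      have h1 := M.ι_cj (g := gq) he'
      rw [hfix n 0 (Nat.zero_le _) (by omega) e (h0 ▸ he')] at h1
      exact eq_mul_inv_iff_mul_eq.1 h1))
    obtain ⟨e, -, hee⟩ := hcen
    obtain ⟨j, hj⟩ := hT e
    have hgq1 : gq = 1 := orderOf_eq_one_iff.mp (Nat.eq_one_of_dvd_coprimes (hcop.pow_right j)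
      dvd_rfl (orderOf_dvd_of_pow_eq_one (by rw [← hee, ← map_pow, hj, map_one])))
    rw [hgq1, mul_one] at he
    refine ⟨i, Subtype.ext ?_⟩
    show g ^ p ^ i = 1
    rw [← hi, he, pow_orderOf_eq_one]
  have hxK : M.ι x ∈ K := fun i hi e he => by
    rw [M.cj_range ((hC i hi).1 he)]; exact hx i hi e he
  haveI := M.normal
  haveI := hK
  have hsup : IsPGroup p (K ⊔ M.E.map M.ι : Subgroup M.G) :=
    hKp.to_sup_of_normal_right ((hT.to_subgroup M.E).map _)
  have hrle : M.ι.range ≤ K ⊔ M.E.map M.ι := M.range_eq_of_mem hxE le_sup_right (mem_sup_left hxK)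
  have hTp : IsPGroup p M.ι.range := by
    intro a
    obtain ⟨t, ht⟩ := a.2
    obtain ⟨k, hk⟩ := hT t
    exact ⟨k, Subtype.ext (by rw [SubgroupClass.coe_pow, ← ht, ← map_pow, hk, map_one]; rfl)⟩
  have heq : M.ι.range = K ⊔ M.E.map M.ι := (hTp.toSylow M.sylow).3 hsup hrle |>.symm
  exact M.notNormal (heq ▸ Subgroup.sup_normal K (M.E.map M.ι))

/-- Stabilising a series of length three. -/
theorem stab3 [Finite T] (hT : IsPGroup p T) {x : T} {A B : Subgroup T} (hA : M.Inv A) (hB : M.Inv B)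
    (h1 : ∀ e ∈ M.E, ⁅x, e⁆ ∈ A) (h2 : ∀ e ∈ A, ⁅x, e⁆ ∈ B) (h3 : ∀ e ∈ B, ⁅x, e⁆ = 1) :
    x ∈ M.E := by
  refine M.stab hT (n := 3) (fun i => match i with | 0 => M.E | 1 => A | 2 => B | _ => ⊥) rfl rfl
    (fun i hi => ?_) fun i hi e he => ?_
  · match i with
    | 0 => exact M.inv_E
    | 1 => exact hA
    | 2 => exact hB
  · match i with
    | 0 => exact h1 e he
    | 1 => exact h2 e he
    | 2 => exact mem_bot.2 (h3 e he)

/-- Stabilising a series of length two. -/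
theorem stab2 [Finite T] (hT : IsPGroup p T) {x : T} {A : Subgroup T} (hA : M.Inv A)
    (h1 : ∀ e ∈ M.E, ⁅x, e⁆ ∈ A) (h2 : ∀ e ∈ A, ⁅x, e⁆ = 1) : x ∈ M.E :=
  M.stab3 hT hA M.inv_bot h1 (fun e he => by rw [h2 e he]; exact one_mem _)
    fun e he => by rw [mem_bot.1 he, commutatorElement_one_right]

end Mdl

end Cfsg.Lib.Fusion.RankThreePair
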