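import Cfsg.Agent.Fusion.RankThreePair.Delicate

/-!
A system whose models all sit on subgroups of index `p` has the shape of `Sp₄(p)`.
-/

set_option autoImplicit false
set_option linter.unusedSectionVars false
set_option linter.style.haveILetI false

namespace Cfsg.Lib.Fusion.RankThreePair

open Subgroup Cfsg.Lib.Fusion.RankThree
open scoped commutatorElement

universe u v

variable {p : ℕ} [hp : Fact p.Prime] {T : Type u} [Group T] [Finite T]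

/-- An automorphism carries the closure of the centre to that of the image. -/
theorem Sys.move_V (𝔖 : Sys.{u, v} p T) (hinj : ∀ i j, (𝔖.mdl i).E = (𝔖.mdl j).E → i = j)
    {b : MulAut T} (hb : b ∈ 𝔖.B) (i : 𝔖.Idx) :
    ∃ j, (𝔖.mdl j).V = (𝔖.mdl i).V.map b.toMonoidHom ∧
      ∀ X : Subgroup T, (𝔖.mdl i).Inv X → (𝔖.mdl j).Inv (X.map b.toMonoidHom) := by
  obtain ⟨j, hjE, hjI⟩ := 𝔖.move b hb i
  obtain ⟨i', hi'E, hi'I⟩ := 𝔖.move b⁻¹ (inv_mem hb) j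
  have hid : ∀ X : Subgroup T, (X.map b.toMonoidHom).map (b⁻¹ : MulAut T).toMonoidHom = X := fun X => by
    rw [Subgroup.map_map]
    convert Subgroup.map_id X
    exact MonoidHom.ext fun x => MulAut.inv_apply_self _ b x
  have hi' : i' = i := hinj _ _ (by rw [hi'E, hjE, hid])
  rw [hi'] at hi'I
  refine ⟨j, le_antisymm ?_ ?_, hjI⟩
  · refine (𝔖.mdl j).cl_le (hjI _ (𝔖.mdl i).inv_V) ?_
    exact (Sys.char_zOmega b).ge.trans (Subgroup.map_mono (𝔖.mdl i).zOmega_le_V)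
  · have h1 : (𝔖.mdl i).V ≤ (𝔖.mdl j).V.map (b⁻¹ : MulAut T).toMonoidHom :=
      (𝔖.mdl i).cl_le (hi'I _ (𝔖.mdl j).inv_V)
        ((Sys.char_zOmega b⁻¹).ge.trans (Subgroup.map_mono (𝔖.mdl j).zOmega_le_V))
    refine (Subgroup.map_mono h1).trans ?_
    rw [Subgroup.map_map]
    intro x hx
    obtain ⟨y, hy, rfl⟩ := hx
    show b (b⁻¹ y) ∈ _
    rwa [MulAut.apply_inv_self _ b y]

theorem Elem3.map {A : Subgroup T} (h : Elem3 p A) (b : MulAut T) : Elem3 p (A.map b.toMonoidHom) where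
  card := (Subgroup.card_map_of_injective b.injective).trans h.card
  comm := by rintro _ ⟨x, hx, rfl⟩ _ ⟨y, hy, rfl⟩; exact (h.comm x hx y hy).map b.toMonoidHom
  pow := by rintro _ ⟨x, hx, rfl⟩; rw [← map_pow, h.pow x hx, map_one]

/-- The shape of `Sp₄(p)` from a family of models of subgroups of index `p`. -/
theorem shape_of_sys (hT : IsPGroup p T) (hp2 : p ≠ 2) (hr : RankThreeLE p T)
    (hbig : Nat.card T = p ^ 3 → ∀ x y : T, Commute x y) (hT1 : Nontrivial T) (𝔖 : Sys.{u, v} p T)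
    (hinj : ∀ i j, (𝔖.mdl i).E = (𝔖.mdl j).E → i = j) :
    Shape p T ∧ ∃ i, IsPearlShape p (𝔖.mdl i).E := by
  classical
  by_contra hgood
  set Z := zOmega p T
  obtain ⟨z, -, hz, hz1⟩ := exists_mem_zOmega hT (N := (⊤ : Subgroup T)) fun h => by
    obtain ⟨x, hx⟩ := exists_ne (1 : T)
    exact hx (mem_bot.1 (h ▸ mem_top x))
  obtain ⟨i₀, hi₀⟩ : ∃ i, (𝔖.mdl i).V ≠ Z := by
    by_contra h
    push Not at h
    exact hz1 (mem_bot.1 (𝔖.core Z (fun i => h i ▸ (𝔖.mdl i).inv_V)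
      (fun b _ => Sys.char_zOmega b) ▸ hz))
  have hA : ∀ i j, i ≠ j → (𝔖.mdl i).V ≠ Z → (𝔖.mdl i).V ≤ (𝔖.mdl j).E := by
    intro i j hij _
    by_contra hnle
    obtain ⟨a, ha, haE⟩ := SetLike.not_le_iff_exists.1 hnle
    have hne : (𝔖.mdl i).E ≠ (𝔖.mdl j).E := fun e => hij (hinj i j e)
    by_cases h : ∃ v ∈ (𝔖.mdl i).V ⊓ (𝔖.mdl j).E, v ∉ Z
    · obtain ⟨h1, h2⟩ := pairA_regular hT hp2 hr hne ha haE h
      exact hgood ⟨h1, j, h2⟩
    · push Not at h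
      exact pairA_transvection hT hp2 hr hbig 𝔖 i j hne ha haE h
  have hW : ∀ i j, i ≠ j → (𝔖.mdl i).V ≠ Z → (𝔖.mdl i).Inv ((𝔖.mdl j).cl (𝔖.mdl i).V) ∧
      (𝔖.mdl j).Inv ((𝔖.mdl j).cl (𝔖.mdl i).V) ∧ Nat.card ((𝔖.mdl j).cl (𝔖.mdl i).V) ≤ p ^ 3 ∧
      (((𝔖.mdl j).cl (𝔖.mdl i).V = (𝔖.mdl i).V) ∨
        (Nat.card (𝔖.mdl i).V = p ^ 2 → Elem3 p ((𝔖.mdl j).cl (𝔖.mdl i).V))) := by
    intro i j hij hV
    obtain ⟨h1, h2, h3⟩ := pair_invariant hT hp2 hr (fun e => hij (hinj i j e)) hV (hA i j hij hV)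
    refine ⟨h1, (𝔖.mdl j).inv_cl (hA i j hij hV), elem_card_le hr _ h2 h3, ?_⟩
    by_cases he : (𝔖.mdl j).cl (𝔖.mdl i).V = (𝔖.mdl i).V
    · exact Or.inl he
    · refine Or.inr fun hc => ⟨le_antisymm (elem_card_le hr _ h2 h3) ?_, h2, h3⟩
      have h := card_mul_le hT (lt_of_le_of_ne ((𝔖.mdl j).le_cl _) (Ne.symm he))
      rwa [hc, ← pow_succ'] at h
  have hcontra : ∀ R : Subgroup T, Z ≤ R → (∀ i, (𝔖.mdl i).Inv R) →
      (∀ b ∈ 𝔖.B, R.map b.toMonoidHom = R) → False := fun R hZR h1 h2 =>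
    hz1 (mem_bot.1 (𝔖.core R h1 h2 ▸ hZR hz))
  by_cases h3 : ∃ i, (𝔖.mdl i).V ≠ Z ∧ Nat.card (𝔖.mdl i).V = p ^ 3
  · -- a closure of order `p ^ 3`
    obtain ⟨i, hi, hic⟩ := h3
    have hinv : ∀ j, (𝔖.mdl j).Inv (𝔖.mdl i).V := by
      intro j
      by_cases hij : i = j
      · exact hij ▸ (𝔖.mdl i).inv_V
      · obtain ⟨-, h2, h4, -⟩ := hW i j hij hi
        rwa [← Subgroup.eq_of_le_of_card_ge ((𝔖.mdl j).le_cl (𝔖.mdl i).V) (by rw [hic]; exact h4)] at h2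
    refine hcontra _ (𝔖.mdl i).zOmega_le_V hinv fun b hb => ?_
    obtain ⟨k, hk, -⟩ := 𝔖.move_V hinj hb i
    rw [← hk]
    refine Subgroup.eq_of_le_of_card_ge ((𝔖.mdl k).cl_le (hinv k) (𝔖.mdl i).zOmega_le_V) ?_
    rw [hk, Subgroup.card_map_of_injective b.injective]
  push Not at h3
  have hc2 : ∀ i, (𝔖.mdl i).V ≠ Z → Nat.card (𝔖.mdl i).V = p ^ 2 := by
    intro i hi
    obtain ⟨n, hn⟩ := card_eq_pow hT (𝔖.mdl i).V
    have h1 := (card_mul_le hT (lt_of_le_of_ne (𝔖.mdl i).zOmega_le_V (Ne.symm hi)))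
    have h2 := (𝔖.mdl i).V_card hr
    have h4 : p ^ 2 ≤ p ^ n := by
      rw [← hn, sq]
      exact (Nat.mul_le_mul_left p (one_lt_card_zOmega hT (𝔖.mdl i))).trans h1
    rw [hn] at h2
    have e1 := (Nat.pow_le_pow_iff_right hp.out.one_lt).1 h2
    have e2 := (Nat.pow_le_pow_iff_right hp.out.one_lt).1 h4
    have e3 : n ≠ 3 := fun e => h3 i hi (by rw [hn, e])
    rw [hn, show n = 2 by omega]
  have hsame : ∀ i j, (𝔖.mdl i).V ≠ Z → (𝔖.mdl j).V ≠ Z → (𝔖.mdl i).V = (𝔖.mdl j).V → i = j :=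
    fun i j hi hj e => hinj i j (by
      rw [← (𝔖.mdl i).centralizer_V_eq hi, ← (𝔖.mdl j).centralizer_V_eq hj, e])
  have hdist : ∀ i j, (𝔖.mdl i).V ≠ Z → (𝔖.mdl j).V ≠ Z → (𝔖.mdl j).Inv (𝔖.mdl i).V → i = j := by
    intro i j hi hj h
    have hle : (𝔖.mdl j).V ≤ (𝔖.mdl i).V := (𝔖.mdl j).cl_le h (𝔖.mdl i).zOmega_le_V
    refine hsame i j hi hj (Subgroup.eq_of_le_of_card_ge hle ?_).symm
    rw [hc2 i hi, hc2 j hj]
  by_cases hall : ∀ i, (𝔖.mdl i).V ≠ Z → ∀ j, (𝔖.mdl j).Inv (𝔖.mdl i).V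
  · -- a single closure, invariant everywhere
    refine hcontra _ (𝔖.mdl i₀).zOmega_le_V (hall i₀ hi₀) fun b hb => ?_
    obtain ⟨k, hk, -⟩ := 𝔖.move_V hinj hb i₀
    have hkV : (𝔖.mdl k).V ≠ Z := fun e => by
      have h := hc2 i₀ hi₀
      rw [← Subgroup.card_map_of_injective (f := b.toMonoidHom) b.injective, ← hk, e,
        (𝔖.mdl i₀).card_zOmega_of_card_V hT hi₀ (hc2 i₀ hi₀)] at h
      exact absurd ((pow_one p).trans h) fun e' =>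
        absurd (Nat.pow_right_injective hp.out.two_le e') (by norm_num)
    rw [← hk, hdist i₀ k hi₀ hkV (hall i₀ hi₀ k)]
  push Not at hall
  obtain ⟨i, hi, j, hj⟩ := hall
  have hij : i ≠ j := fun e => hj (e ▸ (𝔖.mdl i).inv_V)
  obtain ⟨hWi, hWj, -, hWo⟩ := hW i j hij hi
  set Y := (𝔖.mdl j).cl (𝔖.mdl i).V
  have hY : Elem3 p Y := hWo.resolve_left (fun e => hj (e ▸ hWj)) (hc2 i hi)
  have hVY : (𝔖.mdl i).V ≤ Y := (𝔖.mdl j).le_cl _
  have huniq : ∀ m, (𝔖.mdl m).V ≠ Z → ∀ X, Elem3 p X → (𝔖.mdl m).Inv X → (𝔖.mdl m).Inv Y → X = Y :=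
    fun m hm X hX hXi hYi => (𝔖.mdl m).elem3_unique hT hp2 hr hm (hc2 m hm) hX hY hXi hYi
  have hnt : ∀ m, (𝔖.mdl m).V ≠ Z → (𝔖.mdl m).Inv Y := by
    intro m hm
    by_cases hmi : i = m
    · exact hmi ▸ hWi
    · obtain ⟨h1, h2, -, ho⟩ := hW i m hmi hi
      have hni : ¬ (𝔖.mdl m).Inv (𝔖.mdl i).V := fun h => hmi (hdist i m hi hm h)
      have hE3 := ho.resolve_left (fun e => hni (e ▸ h2)) (hc2 i hi)
      rwa [huniq i hi _ hE3 h1 hWi] at h2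
  have hallY : ∀ k, (𝔖.mdl k).Inv Y := by
    intro k
    by_cases hk : (𝔖.mdl k).V ≠ Z
    · exact hnt k hk
    by_cases hm : ∃ m, (𝔖.mdl m).V ≠ Z ∧ ¬ (𝔖.mdl k).Inv (𝔖.mdl m).V
    · obtain ⟨m, hm, hmk⟩ := hm
      obtain ⟨h1, h2, -, ho⟩ := hW m k (fun e : m = k => hk (e ▸ hm)) hm
      have hE3 := ho.resolve_left (fun e => hmk (e ▸ h2)) (hc2 m hm)
      rwa [huniq m hm _ hE3 h1 (hnt m hm)] at h2
    push Not at hm
    by_cases hone : ∀ m, (𝔖.mdl m).V ≠ Z → m = i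
    · exact delicate hT hp2 hr 𝔖 hinj (fun e : i = k => hk (e ▸ hi)) hi (hc2 i hi) hone (hm i hi) hY hWi
    push Not at hone
    obtain ⟨m, hm', hmi⟩ := hone
    have hVm : (𝔖.mdl m).V ≤ Y := (𝔖.mdl m).cl_le (hnt m hm') ((𝔖.mdl i).zOmega_le_V.trans hVY)
    have hsum : (𝔖.mdl i).V ⊔ (𝔖.mdl m).V = Y := by
      refine Subgroup.eq_of_le_of_card_ge (sup_le hVY hVm) ?_
      have hlt : (𝔖.mdl i).V < (𝔖.mdl i).V ⊔ (𝔖.mdl m).V := lt_of_le_of_ne le_sup_left fun e =>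
        hmi (hsame m i hm' hi (Subgroup.eq_of_le_of_card_ge (e ▸ le_sup_right)
          (by rw [hc2 i hi, hc2 m hm'])))
      have h := card_mul_le hT hlt
      rw [hc2 i hi, ← pow_succ'] at h
      rw [hY.card]; exact h
    exact hsum ▸ (𝔖.mdl k).inv_sup (hm i hi) (hm m hm')
  refine hcontra Y ((𝔖.mdl i).zOmega_le_V.trans hVY) hallY fun b hb => ?_
  obtain ⟨k, hk, hkI⟩ := 𝔖.move_V hinj hb i
  have hkV : (𝔖.mdl k).V ≠ Z := fun e => by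
    have h := hc2 i hi
    rw [← Subgroup.card_map_of_injective (f := b.toMonoidHom) b.injective, ← hk, e,
      (𝔖.mdl i).card_zOmega_of_card_V hT hi (hc2 i hi)] at h
    exact absurd (Nat.pow_right_injective hp.out.two_le ((pow_one p).trans h)) (by norm_num)
  exact huniq k hkV _ (hY.map b) (hkI Y hWi) (hallY k)

end Cfsg.Lib.Fusion.RankThreePair
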