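import Cfsg.Agent.Fusion.RankThreePair.Index
import Cfsg.Agent.Fusion.RankThreePair.Kill
import Cfsg.Agent.Fusion.Model
import Cfsg.Agent.Fusion.NormalCriteria

/-!
The models of a saturated system all of whose essential subgroups are normal form a system of models
with trivial core.
-/

set_option autoImplicit false
set_option linter.unusedSectionVars false
set_option linter.style.haveILetI false

namespace Cfsg.Lib.Fusion.RankThreePair

open Subgroup Cfsg Cfsg.FusionSystem Cfsg.Lib.Fusion Cfsg.Lib.Fusion.RankThree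

universe u

variable {p : ℕ} [hp : Fact p.Prime] {Ω : Type u} [Group Ω] {S : Subgroup Ω} {F : FusionSystem S}

/-- The model sees exactly the maps of the system on its subgroup. -/
structure Rep (F : FusionSystem S) (M : Mdl p S) : Prop where
  fwd : ∀ f : Ω → Ω, IsMap F (M.E.map S.subtype) f → img (M.E.map S.subtype) f = M.E.map S.subtype →
    ∃ g : M.G, ∀ x ∈ M.E, (M.cj g x : Ω) = f x
  bwd : ∀ g : M.G, ∃ f : Ω → Ω, IsMap F (M.E.map S.subtype) f ∧
    img (M.E.map S.subtype) f = M.E.map S.subtype ∧ ∀ x ∈ M.E, f x = (M.cj g x : Ω)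
  norm : ∀ g : M.G, (∀ t, ∃ t', M.ι t' = g * M.ι t * g⁻¹) →
    ∃ b ∈ F.autGroup S, ∀ t, M.ι (b t) = g * M.ι t * g⁻¹

theorem Rep.inv_iff {M : Mdl p S} (h : Rep F M) {X : Subgroup S} (hX : X ≤ M.E) :
    M.Inv X ↔ ∀ f : Ω → Ω, IsMap F (M.E.map S.subtype) f →
      img (M.E.map S.subtype) f = M.E.map S.subtype → ∀ x ∈ X, f x ∈ X.map S.subtype := by
  constructor
  · intro hi f hf hfi x hx
    obtain ⟨g, hg⟩ := h.fwd f hf hfi
    exact ⟨M.cj g x, hi.2 g x hx, hg x (hX hx)⟩
  · intro hi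
    refine ⟨hX, fun g x hx => ?_⟩
    obtain ⟨f, hf, hfi, hfg⟩ := h.bwd g
    obtain ⟨y, hy, hyx⟩ := hi f hf hfi x hx
    exact (Subtype.ext (hyx.trans (hfg x (hX hx))) : y = M.cj g x) ▸ hy

/-- The transport of a model by an automorphism. -/
@[reducible] noncomputable def Mdl.transport {T : Type u} [Group T] (M : Mdl p T) (b : MulAut T) : Mdl p T where
  G := M.G
  ι := M.ι.comp (b⁻¹ : MulAut T).toMonoidHom
  inj := M.inj.comp (b⁻¹ : MulAut T).injective
  E := M.E.map b.toMonoidHom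
  index_eq := (M.E.index_map_of_bijective (f := b.toMonoidHom) b.bijective).trans M.index_eq
  normal := by
    rw [Subgroup.map_map]
    convert M.normal using 2
    exact MonoidHom.ext fun x => congrArg M.ι (MulAut.inv_apply_self _ b x)
  cent := by
    rw [Subgroup.map_map]
    convert M.cent using 4 <;> exact MonoidHom.ext fun x => congrArg M.ι (MulAut.inv_apply_self _ b x)
  sylow := by
    rw [show (M.ι.comp (b⁻¹ : MulAut T).toMonoidHom).range = M.ι.range by
      ext y; exact ⟨fun ⟨x, e⟩ => ⟨_, e⟩, fun ⟨x, e⟩ => ⟨b x, by rw [← e]; exact congrArg M.ι (MulAut.inv_apply_self _ b x)⟩⟩]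
    exact M.sylow
  notNormal := by
    rw [show (M.ι.comp (b⁻¹ : MulAut T).toMonoidHom).range = M.ι.range by
      ext y; exact ⟨fun ⟨x, e⟩ => ⟨_, e⟩, fun ⟨x, e⟩ => ⟨b x, by rw [← e]; exact congrArg M.ι (MulAut.inv_apply_self _ b x)⟩⟩]
    exact M.notNormal

theorem Mdl.transport_cj {T : Type u} [Group T] (M : Mdl p T) (b : MulAut T) (g : M.G) {x : T}
    (hx : x ∈ M.E) : (M.transport b).cj g (b x) = b (M.cj g x) :=
  (M.transport b).cj_eq (mem_map_of_mem _ hx) (by
    show M.ι (b⁻¹ (b _)) = g * M.ι (b⁻¹ (b x)) * g⁻¹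
    rw [MulAut.inv_apply_self, MulAut.inv_apply_self]
    exact M.ι_cj hx)

theorem isMap_aut [Finite S] {b : MulAut S} (hb : b ∈ F.autGroup S) (X : Subgroup S) :
    IsMap F (X.map S.subtype) (autFun b) ∧ img (X.map S.subtype) (autFun b) = (X.map b.toMonoidHom).map S.subtype := by
  have h : IsMap F (X.map S.subtype) (autFun b) := ((isMap_autFun le_rfl).mpr hb).mono (Subgroup.map_subtype_le X)
  refine ⟨h, ?_⟩
  ext y
  rw [h.mem_img]
  constructor
  · rintro ⟨_, ⟨x, hx, rfl⟩, rfl⟩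
    exact ⟨b x, mem_map_of_mem _ hx, (autFun_apply b x).symm⟩
  · rintro ⟨_, ⟨x, hx, rfl⟩, rfl⟩
    exact ⟨x, mem_map_of_mem _ hx, autFun_apply b x⟩

theorem rep_transport [Finite S] {M : Mdl p S} (h : Rep F M) {b : MulAut S} (hb : b ∈ F.autGroup S) :
    Rep F (M.transport b) := by
  obtain ⟨hmb, hib⟩ := isMap_aut hb M.E
  obtain ⟨hmc, hic⟩ := isMap_aut (inv_mem hb) (M.E.map b.toMonoidHom)
  have hid : (M.E.map b.toMonoidHom).map (b⁻¹ : MulAut S).toMonoidHom = M.E := by
    rw [Subgroup.map_map]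
    convert Subgroup.map_id M.E
    exact MonoidHom.ext fun x => MulAut.inv_apply_self _ b x
  rw [hid] at hic
  refine ⟨fun f hf hfi => ?_, fun g => ?_, fun g hg => ?_⟩
  · have h1 : ∀ y ∈ M.E.map S.subtype, autFun b y ∈ (M.E.map b.toMonoidHom).map S.subtype :=
      fun y hy => hib.le (IsMap.apply_mem_img hy)
    have h2 : ∀ y ∈ M.E.map S.subtype, f (autFun b y) ∈ (M.E.map b.toMonoidHom).map S.subtype :=
      fun y hy => hfi.le (IsMap.apply_mem_img (h1 y hy))
    have hmap := (hmb.comp hf h1).comp hmc h2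
    have himg : img (M.E.map S.subtype) (autFun (b⁻¹ : MulAut S) ∘ f ∘ autFun b) = M.E.map S.subtype :=
      img_eq_of_apply hmap le_rfl fun y hy => hic.le (IsMap.apply_mem_img (h2 y hy))
    obtain ⟨g, hg⟩ := h.fwd _ hmap himg
    refine ⟨g, fun x hx => ?_⟩
    obtain ⟨w, hw, rfl⟩ := hx
    show ((M.transport b).cj g (b w) : Ω) = f (b w : S)
    rw [M.transport_cj b g hw, ← autFun_apply b (M.cj g w), hg w hw]
    have hw' := h2 _ (mem_map_of_mem S.subtype hw)
    rw [show autFun b (S.subtype w) = ((b w : S) : Ω) from autFun_apply b w] at hw'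
    obtain ⟨z, -, hz⟩ := hw'
    show autFun b (autFun (b⁻¹ : MulAut S) (f (autFun b (w : Ω)))) = _
    rw [autFun_apply b w, ← hz]
    show autFun b (autFun (b⁻¹ : MulAut S) (z : Ω)) = (z : Ω)
    rw [autFun_apply, autFun_apply, MulAut.apply_inv_self _ b z]
  · obtain ⟨f, hf, hfi, hfg⟩ := h.bwd g
    have h1 : ∀ y ∈ (M.E.map b.toMonoidHom).map S.subtype, autFun (b⁻¹ : MulAut S) y ∈ M.E.map S.subtype :=
      fun y hy => hic.le (IsMap.apply_mem_img hy)
    have h2 : ∀ y ∈ (M.E.map b.toMonoidHom).map S.subtype, f (autFun (b⁻¹ : MulAut S) y) ∈ M.E.map S.subtype :=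
      fun y hy => hfi.le (IsMap.apply_mem_img (h1 y hy))
    have hmap := (hmc.comp hf h1).comp hmb h2
    refine ⟨_, hmap, img_eq_of_apply hmap le_rfl fun y hy => hib.le (IsMap.apply_mem_img (h2 y hy)), ?_⟩
    rintro _ ⟨w, hw, rfl⟩
    show autFun b (f (autFun (b⁻¹ : MulAut S) ((b w : S) : Ω))) = ((M.transport b).cj g (b w) : Ω)
    rw [autFun_apply, MulAut.inv_apply_self, hfg w hw, autFun_apply, M.transport_cj b g hw]
  · obtain ⟨β, hβ, hβg⟩ := h.norm g fun t => by
      obtain ⟨t', ht'⟩ := hg (b t)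
      refine ⟨b⁻¹ t', ?_⟩
      have h1 : M.ι (b⁻¹ t') = g * M.ι (b⁻¹ (b t)) * g⁻¹ := ht'
      rwa [MulAut.inv_apply_self] at h1
    refine ⟨b * β * b⁻¹, mul_mem (mul_mem hb hβ) (inv_mem hb), fun t => ?_⟩
    show M.ι (b⁻¹ (b (β (b⁻¹ t)))) = g * M.ι (b⁻¹ t) * g⁻¹
    rw [MulAut.inv_apply_self]
    exact hβg _

/-- The model of a normal essential subgroup. -/
theorem exists_rep [Finite S] (hp3 : 3 ≤ p) (hS : IsPGroup p S) (hrS : RankThreeLE p S)
    (hF : F.IsSaturated p) {Q : Subgroup Ω} (hQ : F.IsEssential p Q)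
    (hnor : S ≤ Subgroup.normalizer (Q : Set Ω)) :
    ∃ M : Mdl p S, M.E = Q.subgroupOf S ∧ Rep F M := by
  have hQS := hQ.1.1
  have hne := EssentialGen.extH_ne_of_essential hS hF hQ
  have hlt := EssentialGen.lt_of_essential hS hF hQ
  obtain ⟨L, _, _, ι₀, hinj, hsyl, hQn, hcen, hB, hC⟩ := exists_model hS hF hQ.1 hQ.2.1
  have hSN : S ≤ normalizerIn S Q := le_inf le_rfl hnor
  set ι : S →* L := ι₀.comp (Subgroup.inclusion hSN) with hι
  have hrange : ι.range = ι₀.range := by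
    ext y
    exact ⟨fun ⟨x, e⟩ => ⟨_, e⟩, fun ⟨x, e⟩ => ⟨⟨x, x.2.1⟩, e⟩⟩
  have hmapQ : (Q.subgroupOf S).map ι = (Q.subgroupOf (normalizerIn S Q)).map ι₀ := by
    ext y
    exact ⟨fun ⟨x, hx, e⟩ => ⟨_, hx, e⟩, fun ⟨x, hx, e⟩ => ⟨⟨x, x.2.1⟩, hx, e⟩⟩
  have hι0 : ∀ x : normalizerIn S Q, ι₀ x = ι ⟨x, x.2.1⟩ := fun x => rfl
  have hQN := le_normalizerIn hQS
  haveI := hQn
  have hnn : ¬ ι.range.Normal := by
    intro hn
    refine hne (le_antisymm EssentialGen.extH_le fun α hα => Subgroup.subset_closure ?_)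
    obtain ⟨g, hg⟩ := hB Q le_rfl hQN (autFun α) ((isMap_autFun hQS).mpr hα) (img_autFun α)
    obtain ⟨φ, hφ, -, hφg⟩ := hC (normalizerIn S Q) hQN le_rfl g fun x _ =>
      hrange ▸ hn.conj_mem _ (hrange ▸ ⟨x, rfl⟩) g
    refine ⟨normalizerIn S Q, hlt.trans_le hSN, φ, hφ, fun x hx => ?_⟩
    exact (hφg ⟨x, hQN hx⟩ (hQN hx) ⟨_, hQN (autFun_mem α hx)⟩ (hg ⟨x, hQN hx⟩ hx _ rfl)).symm
  let M : Mdl p S :=
    { G := L
      ι := ι
      inj := hinj.comp (Subgroup.inclusion_injective hSN)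
      E := Q.subgroupOf S
      index_eq := index_eq_of_normal_essential hp3 hS hrS hF hQ hnor
      normal := by rw [hmapQ]; exact hQn
      cent := by rw [hmapQ]; exact hcen
      sylow := by rw [hrange]; exact hsyl
      notNormal := hnn }
  have hEmap : M.E.map S.subtype = Q := Subgroup.map_subgroupOf_eq_of_le hQS
  refine ⟨M, rfl, ⟨fun f hf hfi => ?_, fun g => ?_, fun g hg => ?_⟩⟩
  · rw [hEmap] at hf hfi
    obtain ⟨g, hg⟩ := hB Q le_rfl hQN f hf hfi
    refine ⟨g, fun x hx => ?_⟩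
    have hfx : f (x : Ω) ∈ Q := hfi.le (IsMap.apply_mem_img (show (x : Ω) ∈ Q from hx))
    have h1 := hg ⟨x, hQN hx⟩ hx ⟨f x, hQN hfx⟩ rfl
    rw [M.cj_eq (y := (⟨f x, hQS hfx⟩ : S)) hx h1]
  · obtain ⟨φ, hφ, hφi, hφg⟩ := hC Q le_rfl hQN g fun x hx => by
      obtain ⟨y, -, hy⟩ := hQn.conj_mem (ι₀ x) (mem_map_of_mem ι₀ (show x ∈ Q.subgroupOf _ from hx)) g
      exact ⟨y, hy⟩
    refine ⟨φ, by rw [hEmap]; exact hφ, by rw [hEmap]; exact hφi, fun x hx => ?_⟩
    exact (hφg ⟨x, hQN hx⟩ hx ⟨(M.cj g x : Ω), hSN (M.cj g x).2⟩ (M.ι_cj hx)).symm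
  · obtain ⟨φ, hφ, -, hφg⟩ := hC (normalizerIn S Q) hQN le_rfl g fun x _ => by
      obtain ⟨t', ht'⟩ := hg ⟨x, x.2.1⟩
      exact ⟨_, ht'⟩
    have hφS : IsMap F S φ := hφ.mono hSN
    obtain ⟨β, hβ, hβe⟩ := hφS.exists_aut (img_eq_of_apply hφS le_rfl fun x hx => hφS.mem_S hx)
    refine ⟨β, hβ, fun t => ?_⟩
    obtain ⟨t', ht'⟩ := hg t
    have h1 := hφg ⟨t, hSN t.2⟩ (hSN t.2) ⟨t', hSN t'.2⟩ ht'
    have h2 : (t' : Ω) = (β t : S) := by
      rw [← autFun_apply β t, hβe t t.2]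
      exact h1
    exact (congrArg M.ι (Subtype.ext h2.symm)).trans ht'

/-- If all essential subgroups are normal, the system has the shape of `Sp₄(p)`. -/
theorem shape_of_all_normal [Finite S] (hp2 : p ≠ 2) (hS : IsPGroup p S) (hrS : RankThreeLE p S)
    (hbig : Nat.card S = p ^ 3 → ∀ x y : S, Commute x y) (hS1 : Nontrivial S)
    (hF : F.IsSaturated p) (hO : F.core = ⊥)
    (hall : ∀ Q, F.IsEssential p Q → S ≤ Subgroup.normalizer (Q : Set Ω)) :
    Shape p S ∧ ∃ Q, F.IsEssential p Q ∧ IsPearlShape p (Q.subgroupOf S) := by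
  classical
  have hp3 : 3 ≤ p := by have := hp.out.two_le; omega
  let Idx := {E' : Subgroup S // ∃ Q, F.IsEssential p Q ∧ ∃ b ∈ F.autGroup S, E' = (Q.subgroupOf S).map b.toMonoidHom}
  have hM : ∀ i : Idx, ∃ M : Mdl p S, M.E = i.1 ∧ Rep F M := by
    rintro ⟨E', Q, hQ, b, hb, rfl⟩
    obtain ⟨M, hME, hMR⟩ := exists_rep hp3 hS hrS hF hQ (hall Q hQ)
    exact ⟨M.transport b, congrArg (Subgroup.map b.toMonoidHom) hME, rep_transport hMR hb⟩
  choose mdl hmE hmR using hM
  let 𝔖 : Sys p S :=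
    { Idx := Idx
      mdl := mdl
      B := F.autGroup S
      inner := fun b hb hk => by
        have hfn : F.IsFullyNormalized S := ⟨le_rfl, fun R _ => by
          have h : normalizerIn S S = S := le_antisymm inf_le_left (le_inf le_rfl Subgroup.le_normalizer)
          rw [h]
          exact Subgroup.card_le_of_le inf_le_left⟩
        obtain ⟨-, hfa, -⟩ := fullyNormalized_props hS hF hfn
        obtain ⟨R, hR⟩ := hfa.2
        have hnrm : (R : Subgroup (F.autGroup S)).Normal := by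
          rw [hR]
          refine ⟨fun a ha c => mem_subgroupOf.2 ?_⟩
          obtain ⟨g, hg, eg⟩ := mem_autInducedBy.1 (mem_subgroupOf.1 ha)
          refine mem_autInducedBy.2 ⟨((c : MulAut S) ⟨g, hg⟩ : S), SetLike.coe_mem _, fun x => ?_⟩
          have h1 : (a : MulAut S) ((c : MulAut S)⁻¹ x) = ⟨g, hg⟩ * (c : MulAut S)⁻¹ x * (⟨g, hg⟩ : S)⁻¹ :=
            Subtype.ext (eg _)
          show (((c : MulAut S) ((a : MulAut S) ((c : MulAut S)⁻¹ x)) : S) : Ω) = _
          rw [h1, map_mul, map_mul, map_inv, MulAut.apply_inv_self]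
          rfl
        obtain ⟨k, hk⟩ := hk
        obtain ⟨R', hR'⟩ := (IsPGroup.of_card (G := zpowers (⟨b, hb⟩ : F.autGroup S))
          (n := Nat.log p (Nat.card (zpowers (⟨b, hb⟩ : F.autGroup S)))) (by
            obtain ⟨j, -, hj⟩ := (Nat.dvd_prime_pow hp.out).1 (orderOf_dvd_of_pow_eq_one
              (show (⟨b, hb⟩ : F.autGroup S) ^ p ^ k = 1 from Subtype.ext hk))
            rw [Nat.card_zpowers, hj, Nat.log_pow hp.out.one_lt])).exists_le_sylow
        haveI : Subsingleton (Sylow p (F.autGroup S)) :=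
          (Sylow.unique_of_normal R hnrm).instSubsingleton
        have hbR : (⟨b, hb⟩ : F.autGroup S) ∈ (R : Subgroup (F.autGroup S)) := by
          rw [Subsingleton.elim R R']
          exact hR' (mem_zpowers _)
        rw [hR] at hbR
        obtain ⟨g, hg, eg⟩ := mem_autInducedBy.1 (mem_subgroupOf.1 hbR)
        exact ⟨⟨g, hg⟩, fun t => Subtype.ext (eg t)⟩
      norm := fun i g hg => (hmR i).norm g hg
      move := fun b hb i => by
        obtain ⟨Q, hQ, c, hc, hi⟩ := i.2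
        let j : Idx := ⟨i.1.map b.toMonoidHom, Q, hQ, b * c, mul_mem hb hc, by
          rw [hi, Subgroup.map_map]
          rfl⟩
        have hjE : (mdl j).E = (mdl i).E.map b.toMonoidHom := by rw [hmE, hmE]
        refine ⟨j, hjE, fun X hX => ?_⟩
        have hR' := rep_transport (hmR i) hb
        have hX' : ((mdl i).transport b).Inv (X.map b.toMonoidHom) := ⟨Subgroup.map_mono hX.1, fun g x hx => by
          obtain ⟨w, hw, rfl⟩ := hx
          show ((mdl i).transport b).cj g (b w) ∈ _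
          rw [(mdl i).transport_cj b g (hX.1 hw)]
          exact mem_map_of_mem _ (hX.2 g w hw)⟩
        have hle : X.map b.toMonoidHom ≤ (mdl j).E := hjE ▸ Subgroup.map_mono hX.1
        rw [(hmR j).inv_iff hle]
        have h := (hR'.inv_iff (X := X.map b.toMonoidHom) (Subgroup.map_mono hX.1)).1 hX'
        rw [show ((mdl i).transport b).E = (mdl j).E from hjE.symm] at h
        exact h
      core := fun R hR hRB => by
        by_contra hne
        have hRS : R.map S.subtype ≤ S := Subgroup.map_subtype_le R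
        have hnorm : S ≤ Subgroup.normalizer ((R.map S.subtype : Subgroup Ω) : Set Ω) := fun s hs => by
          haveI : Finite (R.map S.subtype : Subgroup Ω) := finite_of_le hRS
          refine mem_normalizer_of_maps_finite fun x hx => ?_
          obtain ⟨r, hr, rfl⟩ := hx
          have hinn : MulAut.conj (⟨s, hs⟩ : S) ∈ F.autGroup S := inn_le_autGroup le_rfl ⟨⟨s, hs⟩, rfl⟩
          exact ⟨MulAut.conj (⟨s, hs⟩ : S) r, (hRB _ hinn).le (mem_map_of_mem _ hr), rfl⟩
        have hclass := isMapClass_extendsWith (F := F) hRS (conj_map_eq hRS hnorm)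
        have hnormal : F.IsNormal (R.map S.subtype) := by
          refine isNormal_of_extendsWith hRS fun P f hf => alperin_induction hS hF hclass (fun g hg => ?_)
            (fun Q hQS hQn hQc hIH α hα => ?_) hf
          · obtain ⟨β, hβ, hβe⟩ := hg.exists_aut (img_eq_of_apply hg le_rfl fun x hx => hg.mem_S hx)
            refine ⟨g, by rwa [sup_eq_left.mpr hRS], fun _ _ => rfl, img_eq_of_apply hg hRS fun x hx => ?_⟩
            obtain ⟨r, hr, rfl⟩ := hx
            exact ⟨β r, (hRB β hβ).le (mem_map_of_mem _ hr),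
              ((autFun_apply β r).symm.trans (hβe r r.2) : ((β r : S) : Ω) = g r)⟩
          · by_contra hbad
            have hess := essential_of_bad hS hF hclass hQS hQn hQc hIH hα hbad
            let i : Idx := ⟨Q.subgroupOf S, Q, hess, 1, one_mem _, (Subgroup.map_id _).symm⟩
            have hRi := hR i
            have hQe : (mdl i).E.map S.subtype = Q := by
              rw [hmE]; exact Subgroup.map_subgroupOf_eq_of_le hQn.1
            have hle : R.map S.subtype ≤ Q := hQe ▸ Subgroup.map_mono hRi.1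
            have hmα := (isMap_autFun hQn.1).mpr hα
            refine hbad ⟨autFun α, by rwa [sup_eq_left.mpr hle], fun _ _ => rfl,
              img_eq_of_apply hmα hle fun x hx => ?_⟩
            obtain ⟨r, hr, rfl⟩ := hx
            exact ((hmR i).inv_iff hRi.1).1 hRi (autFun α) (hQe.symm ▸ hmα) (hQe.symm ▸ img_autFun α) r hr
        have h1 : R.map S.subtype ≤ F.core := le_sSup hnormal
        rw [hO, le_bot_iff, Subgroup.map_eq_bot_iff_of_injective _ S.subtype_injective] at h1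
        exact hne h1 }
  obtain ⟨hsh, ⟨E', Q, hQ, b, hb, rfl⟩, hcard, hexp, x, hx, y, hy, hxy⟩ :=
    shape_of_sys hS hp2 hrS hbig hS1 𝔖 fun i j h => Subtype.ext ((hmE i).symm.trans (h.trans (hmE j)))
  refine ⟨hsh, Q, hQ, ?_⟩
  simp only [𝔖, hmE] at hcard hexp hx hy
  refine ⟨(Subgroup.card_map_of_injective (f := b.toMonoidHom) b.injective).symm.trans hcard,
    fun z hz => b.injective (by rw [map_pow, map_one]; exact hexp _ (mem_map_of_mem _ hz)), ?_⟩
  obtain ⟨x', hx', rfl⟩ := hx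
  obtain ⟨y', hy', rfl⟩ := hy
  exact ⟨x', hx', y', hy', fun h => hxy (h.map b.toMonoidHom)⟩

end Cfsg.Lib.Fusion.RankThreePair
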