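import Cfsg.Agent.Fusion.RankThreePair.PairA

/-!
Small facts on conjugates inside a model.
-/

set_option autoImplicit false
set_option linter.unusedSectionVars false

namespace Cfsg.Lib.Fusion.RankThreePair

open Subgroup Cfsg.Lib.Fusion.RankThree
open scoped commutatorElement

universe u

variable {p : ℕ} [hp : Fact p.Prime] {T : Type u} [Group T]

theorem Mdl.conjSub_mul (M : Mdl p T) {g h : M.G} {X : Subgroup T} (hX : X ≤ M.E) :
    M.conjSub g (M.conjSub h X) = M.conjSub (g * h) X := by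
  ext y
  rw [M.mem_conjSub (M.conjSub_le hX), M.mem_conjSub hX]
  constructor
  · rintro ⟨x, hx, rfl⟩
    obtain ⟨w, hw, rfl⟩ := (M.mem_conjSub hX).1 hx
    exact ⟨w, hw, M.cj_mul_left (hX hw)⟩
  · rintro ⟨w, hw, rfl⟩
    exact ⟨_, M.cj_mem_conjSub hX hw, (M.cj_mul_left (hX hw)).symm⟩

/-- Elements of `L` act trivially where all of `T` does. -/
theorem Mdl.L_trivial (M : Mdl p T) {X Y : Subgroup T} (hX : M.Inv X) (hY : M.Inv Y)
    (h : ∀ t : T, ∀ e ∈ Y, ⁅t, e⁆ ∈ X) : ∀ g ∈ M.L, ∀ e ∈ Y, M.cj g e * e⁻¹ ∈ X := by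
  let K : Subgroup M.G :=
    { carrier := {g | ∀ e ∈ Y, M.cj g e * e⁻¹ ∈ X}
      one_mem' := fun e he => by rw [M.cj_one_left (hY.1 he), mul_inv_cancel]; exact one_mem _
      mul_mem' := fun {a b} ha hb e he => by
        have h1 := mul_mem (ha _ (hY.2 b e he)) (hb e he)
        rwa [← M.cj_mul_left (hY.1 he), ← mul_assoc, inv_mul_cancel_right] at h1
      inv_mem' := fun {a} ha e he => by
        have h1 := inv_mem (ha _ (hY.2 a⁻¹ e he))
        rwa [M.cj_cj_inv (hY.1 he), mul_inv_rev, inv_inv] at h1 }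
  have hK : K.Normal := ⟨fun k hk g e he => by
    have he' := hY.2 g⁻¹ e he
    have h1 := hX.2 g _ (hk _ he')
    have hE := hY.1 he
    rwa [M.cj_mul (M.cj_mem (M.cj_mem hE)) (inv_mem (M.cj_mem hE)), M.cj_inv (M.cj_mem hE),
      M.cj_cj_inv hE, ← M.cj_mul_left (M.cj_mem hE), ← M.cj_mul_left hE] at h1⟩
  haveI := hK
  have hle : M.L ≤ K := normalClosure_le_normal (by
    rintro _ ⟨t, rfl⟩ e he
    rw [M.cj_range (hY.1 he)]
    exact h t e he)
  exact fun g hg => hle hg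

theorem card_mul_le_sup [Finite T] (A B : Subgroup T) :
    Nat.card A * Nat.card B ≤ Nat.card (A ⊔ B : Subgroup T) * Nat.card (A ⊓ B : Subgroup T) := by
  have h1 := Subgroup.relIndex_mul_relIndex ⊥ A (A ⊔ B) bot_le le_sup_left
  have h2 := Subgroup.relIndex_mul_relIndex ⊥ (A ⊓ B) B bot_le inf_le_right
  rw [Subgroup.relIndex_bot_left, Subgroup.relIndex_bot_left] at h1 h2
  rw [Subgroup.inf_relIndex_right] at h2
  have h3 : A.relIndex B ≤ A.relIndex (A ⊔ B) :=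
    Subgroup.relIndex_le_of_le_right le_sup_right (Subgroup.index_ne_zero_of_finite)
  rw [← h1, ← h2]
  calc Nat.card A * (Nat.card (A ⊓ B : Subgroup T) * A.relIndex B)
      = Nat.card A * A.relIndex B * Nat.card (A ⊓ B : Subgroup T) := by ring
    _ ≤ Nat.card A * A.relIndex (A ⊔ B) * Nat.card (A ⊓ B : Subgroup T) :=
        Nat.mul_le_mul_right _ (Nat.mul_le_mul_left _ h3)

theorem sup_comm_elem {A B : Subgroup T} (hA : ∀ a ∈ A, ∀ b ∈ A, Commute a b)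
    (hB : ∀ a ∈ B, ∀ b ∈ B, Commute a b) (hAB : ∀ a ∈ A, ∀ b ∈ B, Commute a b)
    (hAp : ∀ a ∈ A, a ^ p = 1) (hBp : ∀ a ∈ B, a ^ p = 1) :
    (∀ x ∈ A ⊔ B, ∀ y ∈ A ⊔ B, Commute x y) ∧ ∀ x ∈ A ⊔ B, x ^ p = 1 := by
  have hle : A ⊔ B ≤ centralizer (A : Set T) ⊓ centralizer (B : Set T) := sup_le
    (fun a ha => ⟨mem_centralizer_iff.2 fun b hb => hA b hb a ha,
      mem_centralizer_iff.2 fun b hb => (hAB a ha b hb).eq.symm⟩)
    (fun b hb => ⟨mem_centralizer_iff.2 fun a ha => hAB a ha b hb,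
      mem_centralizer_iff.2 fun a ha => hB a ha b hb⟩)
  have hc : ∀ x ∈ A ⊔ B, ∀ y ∈ A ⊔ B, Commute x y := fun x hx y hy => by
    have h1 : A ⊔ B ≤ centralizer ({x} : Set T) := sup_le
      (fun a ha => mem_centralizer_singleton_iff.2 (mem_centralizer_iff.1 (hle hx).1 a ha))
      (fun b hb => mem_centralizer_singleton_iff.2 (mem_centralizer_iff.1 (hle hx).2 b hb))
    exact (mem_centralizer_singleton_iff.1 (h1 hy)).symm
  refine ⟨hc, fun x hx => ?_⟩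
  let K : Subgroup T :=
    { carrier := {y | y ∈ A ⊔ B ∧ y ^ p = 1}
      one_mem' := ⟨one_mem _, one_pow _⟩
      mul_mem' := fun {y z} hy hz => ⟨mul_mem hy.1 hz.1, by
        rw [(hc y hy.1 z hz.1).mul_pow, hy.2, hz.2, mul_one]⟩
      inv_mem' := fun {y} hy => ⟨inv_mem hy.1, by rw [inv_pow, hy.2, inv_one]⟩ }
  exact ((sup_le (fun y hy => ⟨mem_sup_left hy, hAp y hy⟩) fun y hy => ⟨mem_sup_right hy, hBp y hy⟩ :
    A ⊔ B ≤ K) hx).2

theorem mul_commutator_mul {w w' d d' : T} (h1 : Commute d w') (h2 : Commute d' w)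
    (h3 : Commute d w) (h4 : Commute d' w') : ⁅w * d, w' * d'⁆ = ⁅w, w'⁆ * ⁅d, d'⁆ := by
  calc ⁅w * d, w' * d'⁆ = w * (d * w') * d' * (d⁻¹ * w⁻¹) * (d'⁻¹ * w'⁻¹) := by
        rw [commutatorElement_def]; group
    _ = w * w' * (d * d' * d⁻¹) * (w⁻¹ * d'⁻¹) * w'⁻¹ := by rw [h1.eq]; group
    _ = w * w' * ((d * d' * d⁻¹ * d'⁻¹) * w⁻¹) * w'⁻¹ := by rw [h2.inv_inv.eq.symm]; group
    _ = w * w' * (w⁻¹ * (d * d' * d⁻¹ * d'⁻¹)) * w'⁻¹ := by
        rw [((((h3.mul_left h2).mul_left h3.inv_left).mul_left h2.inv_left).inv_right).eq]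
    _ = w * w' * w⁻¹ * ((d * d' * d⁻¹ * d'⁻¹) * w'⁻¹) := by group
    _ = w * w' * w⁻¹ * (w'⁻¹ * (d * d' * d⁻¹ * d'⁻¹)) := by
        rw [((((h1.mul_left h4).mul_left h1.inv_left).mul_left h4.inv_left).inv_right).eq]
    _ = ⁅w, w'⁆ * ⁅d, d'⁆ := by rw [commutatorElement_def, commutatorElement_def]; group

end Cfsg.Lib.Fusion.RankThreePair
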