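import Cfsg.Agent.Fusion.RankThreePair.PairB
import Cfsg.Agent.Fusion.RankThree.Irreducible

/-!
A model fixing the closure of the centre of another one also fixes the elementary subgroup above it.
-/

set_option autoImplicit false
set_option linter.unusedSectionVars false
set_option linter.style.haveILetI false

namespace Cfsg.Lib.Fusion.RankThreePair

open Subgroup Cfsg.Lib.Fusion.RankThree Cfsg.Lib.Fusion.TransvectionThree
open scoped commutatorElement

universe u v

variable {p : ℕ} [hp : Fact p.Prime] {T : Type u} [Group T] [Finite T]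

namespace Mdl

variable (M : Mdl p T)

theorem range_isPGroup (hT : IsPGroup p T) : IsPGroup p M.ι.range := fun a => by
  obtain ⟨t, ht⟩ := a.2
  obtain ⟨k, hk⟩ := hT t
  exact ⟨k, Subtype.ext (by rw [SubgroupClass.coe_pow, ← ht, ← map_pow, hk, map_one]; rfl)⟩

theorem exists_L_mul (hT : IsPGroup p T) (g : M.G) :
    ∃ l ∈ M.L, ∃ n : M.G, (∀ t, ∃ t', M.ι t' = n * M.ι t * n⁻¹) ∧ g = l * n := by
  set R0 : Sylow p M.G := (M.range_isPGroup hT).toSylow M.sylow
  have hle : (R0 : Subgroup M.G) ≤ M.L := fun x hx => subset_normalClosure hx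
  haveI : M.L.Normal := normalClosure_normal
  have h := Sylow.normalizer_sup_eq_top (R0.subtype hle)
  rw [Sylow.coe_subtype, Subgroup.map_subgroupOf_eq_of_le hle, sup_comm] at h
  obtain ⟨l, hl, n, hn, e⟩ := mem_sup_of_normal_left.1 (h.ge (mem_top g))
  exact ⟨l, hl, n, fun t => (Subgroup.mem_normalizer_iff.1 hn (M.ι t)).1 ⟨t, rfl⟩, e.symm⟩

/-- A regular action on a section of order `p ^ 3` has no invariant line. -/
theorem false_of_regular (hT : IsPGroup p T) (hp2 : p ≠ 2) {U Z V Y : Subgroup T} (hU : M.Inv U)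
    (hV : M.Inv V) (hZ : M.Inv Z) (hYn : ¬ M.Inv Y) (hYU : Y ≤ U) (hYE : Y ≤ M.E)
    (hZV : Z ≤ V) (hVU : V ≤ U) (hcard : Nat.card U = p ^ 3 * Nat.card Z)
    (hVc : Nat.card V = p * Nat.card Z)
    (hab : ∀ a ∈ U, ∀ b ∈ U, ⁅a, b⁆ ∈ Z) (hpow : ∀ a ∈ U, a ^ p ∈ Z)
    (hE : ∀ e ∈ M.E, ∀ u ∈ U, ⁅e, u⁆ ∈ Z)
    (hY : ∀ u ∈ U, (u ∈ Y ↔ ∀ t : T, ⁅t, u⁆ ∈ V))
    {x : T} {u₀ : T} (hu₀ : u₀ ∈ U) (hreg : ⁅x, ⁅x, u₀⁆⁆ ∉ Z) : False := by
  classical
  haveI hUn := M.inv_normal hU
  haveI hZn := M.inv_normal hZ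
  set Z' := Z.subgroupOf U
  set q := QuotientGroup.mk' Z'
  letI : CommGroup (U ⧸ Z') :=
    { (inferInstance : Group (U ⧸ Z')) with
      mul_comm := fun a b => by
        obtain ⟨a, rfl⟩ := QuotientGroup.mk'_surjective _ a
        obtain ⟨b, rfl⟩ := QuotientGroup.mk'_surjective _ b
        rw [← commutatorElement_eq_one_iff_mul_comm, ← map_commutatorElement]
        exact (QuotientGroup.eq_one_iff _).2 (hab a a.2 b b.2) }
  have hq1 : ∀ y : U ⧸ Z', y ^ p = 1 := fun y => by
    obtain ⟨a, rfl⟩ := QuotientGroup.mk'_surjective _ y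
    rw [← map_pow]
    exact (QuotientGroup.eq_one_iff _).2 (hpow a a.2)
  letI : Module (ZMod p) (Additive (U ⧸ Z')) :=
    AddCommGroup.zmodModule (n := p) fun y => congrArg Additive.ofMul (hq1 (Additive.toMul y))
  let hom : M.G → (U →* U) := fun g => MonoidHom.mk' (fun u => ⟨M.cj g u, hU.2 g u u.2⟩)
    fun a b => Subtype.ext (M.cj_mul (hU.1 a.2) (hU.1 b.2))
  have hhom : ∀ g, Z' ≤ Z'.comap (hom g) := fun g a ha => hZ.2 g _ ha
  let qh : M.G → (U ⧸ Z' →* U ⧸ Z') := fun g => QuotientGroup.map Z' Z' (hom g) (hhom g)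
  let act : M.G → Module.End (ZMod p) (Additive (U ⧸ Z')) := fun g =>
    { toFun := fun v => Additive.ofMul (qh g (Additive.toMul v))
      map_add' := fun v w => congrArg Additive.ofMul (map_mul (qh g) (Additive.toMul v) (Additive.toMul w))
      map_smul' := fun r v => ZMod.map_smul (AddMonoidHom.mk'
        (fun w : Additive (U ⧸ Z') => Additive.ofMul (qh g (Additive.toMul w)))
        fun v w => congrArg Additive.ofMul (map_mul (qh g) (Additive.toMul v) (Additive.toMul w))) r v }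
  have hone : ∀ v, act 1 v = v := fun v => by
    obtain ⟨a, ha⟩ := QuotientGroup.mk_surjective (Additive.toMul v)
    rw [← ofMul_toMul v, ← ha]
    exact congrArg (fun y : U => Additive.ofMul (y : U ⧸ Z'))
      (show (⟨M.cj 1 (a : T), hU.2 1 _ a.2⟩ : U) = a from Subtype.ext (M.cj_one_left (hU.1 a.2)))
  have hmul : ∀ g h v, act (g * h) v = act g (act h v) := fun g h v => by
    obtain ⟨a, ha⟩ := QuotientGroup.mk_surjective (Additive.toMul v)
    rw [← ofMul_toMul v, ← ha]
    exact congrArg (fun y : U => Additive.ofMul (y : U ⧸ Z'))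
      (show (⟨M.cj (g * h) (a : T), hU.2 _ _ a.2⟩ : U) =
        ⟨M.cj g (M.cj h (a : T)), hU.2 g _ (hU.2 h _ a.2)⟩ from Subtype.ext (M.cj_mul_left (hU.1 a.2)))
  let ρG : M.G →* Module.End (ZMod p) (Additive (U ⧸ Z')) :=
    { toFun := act
      map_one' := LinearMap.ext hone
      map_mul' := fun g h => LinearMap.ext (hmul g h) }
  set π := QuotientGroup.mk' ρG.ker
  have hπs : Function.Surjective π := QuotientGroup.mk'_surjective _
  set ρ := QuotientGroup.lift ρG.ker ρG le_rfl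
  have hρ : Function.Injective ρ := by
    rw [← MonoidHom.ker_eq_bot_iff, eq_bot_iff]
    intro h hh
    obtain ⟨g, rfl⟩ := hπs h
    exact mem_bot.2 ((QuotientGroup.eq_one_iff g).2 (MonoidHom.mem_ker.2 hh))
  let vec : U → Additive (U ⧸ Z') := fun a => Additive.ofMul (q a)
  have hρv : ∀ g (a : U), ρ (π g) (vec a) = vec ⟨M.cj g a, hU.2 g a a.2⟩ := fun g a => rfl
  have hveq : ∀ a b : U, vec a = vec b ↔ (a : T)⁻¹ * b ∈ Z := fun a b => by
    refine ⟨fun h => ?_, fun h => congrArg Additive.ofMul (QuotientGroup.eq.2 h)⟩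
    exact (QuotientGroup.eq (s := Z') (a := a) (b := b)).1 (Additive.ofMul.injective h)
  have hdisp : ∀ (t : T) (a : U), disp ρ (π (M.ι t)) (vec a) =
      vec ⟨⁅t, (a : T)⁆, U.mul_mem (hUn.conj_mem _ a.2 t) (inv_mem a.2)⟩ := fun t a => by
    rw [disp_apply, hρv, sub_eq_add_neg]
    show Additive.ofMul (q _ * (q a)⁻¹) = _
    rw [← map_inv, ← map_mul]
    refine congrArg (fun y : U => Additive.ofMul (q y)) (Subtype.ext ?_)
    show M.cj (M.ι t) (a : T) * (a : T)⁻¹ = _
    rw [M.cj_range (hU.1 a.2)]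
    rfl
  have hv0 : ∀ a : U, vec a = 0 ↔ (a : T) ∈ Z := fun a => by
    rw [show (0 : Additive (U ⧸ Z')) = vec 1 from (congrArg Additive.ofMul (map_one q)).symm, hveq]
    simp
  set R := ((M.range_isPGroup hT).toSylow M.sylow).mapSurjective hπs
  have hRc : (R : Subgroup (M.G ⧸ ρG.ker)) = (π.comp M.ι).range := by
    rw [Sylow.coe_mapSurjective]
    exact MonoidHom.map_range π M.ι
  have hcu : ⁅x, u₀⁆ ∈ U := U.mul_mem (hUn.conj_mem _ hu₀ x) (inv_mem hu₀)
  have hreg' : disp ρ (π (M.ι x)) (disp ρ (π (M.ι x)) (vec ⟨u₀, hu₀⟩)) ≠ 0 := by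
    rw [hdisp, hdisp, Ne, hv0]
    exact hreg
  have hker : (π.comp M.ι).ker = M.E := by
    have hle : M.E ≤ (π.comp M.ι).ker := fun e he => by
      refine (QuotientGroup.eq_one_iff _).2 (MonoidHom.mem_ker.2 (LinearMap.ext fun v => ?_))
      obtain ⟨a, ha⟩ := QuotientGroup.mk'_surjective Z' (Additive.toMul v)
      obtain rfl : vec a = v := congrArg Additive.ofMul ha
      show ρ (π (M.ι e)) (vec a) = vec a
      rw [← sub_eq_zero, ← disp_apply, hdisp, hv0]
      exact hE e he a a.2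
    refine le_antisymm (fun t ht => ?_) hle
    by_contra htE
    have hxk : π (M.ι x) = 1 := (M.eq_top_of_lt hle ht htE).ge (mem_top x)
    rw [hxk, disp_apply, one_apply', sub_self] at hreg'
    exact hreg' rfl
  have hxE : x ∉ M.E := fun h => hreg' (by
    rw [show π (M.ι x) = 1 from hker.ge h, disp_apply, one_apply', sub_self])
  have hRcard : Nat.card (R : Subgroup (M.G ⧸ ρG.ker)) = p := by
    rw [hRc, ← Subgroup.index_ker, hker, M.index_eq]
  have hRn : ¬ (R : Subgroup (M.G ⧸ ρG.ker)).Normal := fun hn => by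
    refine hYn ⟨hYE, fun g y hy => (hY _ (hU.2 g y (hYU hy))).2 fun t => ?_⟩
    obtain ⟨t', ht'⟩ : π (g⁻¹ * M.ι t * g) ∈ (π.comp M.ι).range := by
      rw [← hRc]
      have h1 := hn.conj_mem (π (M.ι t)) (by rw [hRc]; exact ⟨t, rfl⟩) (π g⁻¹)
      rw [← map_inv π g⁻¹, inv_inv, ← map_mul, ← map_mul] at h1
      exact h1
    have h2 := congrArg (fun h => ρ h (vec ⟨y, hYU hy⟩)) ht'
    simp only [MonoidHom.comp_apply, hρv, hveq] at h2
    rw [M.cj_range (hYE hy)] at h2
    have h3 : t' * y * t'⁻¹ * y⁻¹ ∈ V := (hY y (hYU hy)).1 hy t'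
    have h4 : M.cj (g⁻¹ * M.ι t * g) y * y⁻¹ ∈ V := by
      haveI := M.inv_normal hV
      have h5 := mul_mem (‹V.Normal›.conj_mem _ (hZV h2) (t' * y * t'⁻¹)) h3
      convert h5 using 1
      group
    have hgy := M.cj_mem (g := g) (hYE hy)
    have hw := M.cj_mem (g := g⁻¹ * M.ι t * g) (hYE hy)
    have h6 := hV.2 g _ h4
    rw [M.cj_mul hw (inv_mem (hYE hy)), M.cj_inv (hYE hy), ← M.cj_mul_left (hYE hy),
      show g * (g⁻¹ * M.ι t * g) = M.ι t * g by group, M.cj_mul_left (hYE hy),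
      M.cj_range hgy] at h6
    rw [commutatorElement_def]
    exact h6
  set D := sedata_of_card hRcard hRn
  have hxR : π (M.ι x) ∈ (R : Subgroup (M.G ⧸ ρG.ker)) := by rw [hRc]; exact ⟨x, rfl⟩
  have hx1 : π (M.ι x) ≠ 1 := fun h => hreg' (by rw [h, disp_apply, one_apply', sub_self])
  have hxp : π (M.ι x) ^ p = 1 := by
    rw [← map_pow, ← map_pow]
    exact hker.ge (M.pow_mem_E x)
  have hcardW : Nat.card (Additive (U ⧸ Z')) = p ^ 3 := by
    have h1 := Subgroup.card_eq_card_quotient_mul_card_subgroup Z'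
    rw [hcard, Nat.card_congr (subgroupOfEquivOfLe (hZV.trans hVU)).toEquiv] at h1
    rw [Nat.card_congr Additive.toMul]
    exact (Nat.eq_of_mul_eq_mul_right Nat.card_pos h1).symm
  have hcore : ∀ K : Subgroup (M.G ⧸ ρG.ker), K.Normal → IsPGroup p K → K = ⊥ := fun K hK hKp => by
    by_contra hne
    have hsup : IsPGroup p (K ⊔ (R : Subgroup _) : Subgroup _) := hKp.to_sup_of_normal_left R.2
    have hle : K ≤ (R : Subgroup _) := (le_sup_left : K ≤ K ⊔ R).trans (R.3 hsup le_sup_right).le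
    exact hRn (eq_sylow_of_le hRcard (hle.trans Subgroup.le_normalizer) hKp hne ▸ hK)
  let L' : Submodule (ZMod p) (Additive (U ⧸ Z')) :=
    AddSubgroup.toZModSubmodule p (Subgroup.toAddSubgroup ((V.subgroupOf U).map q))
  have hL : ∀ h, ∀ w ∈ L', ρ h w ∈ L' := by
    intro h w hw
    obtain ⟨g, rfl⟩ := hπs h
    obtain ⟨a, ha, e⟩ := (hw : Additive.toMul w ∈ (V.subgroupOf U).map q)
    obtain rfl : vec a = w := congrArg Additive.ofMul e
    rw [hρv]
    exact mem_map_of_mem q (show (⟨M.cj g a, hU.2 g a a.2⟩ : U) ∈ V.subgroupOf U from hV.2 g _ ha)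
  rcases irreducible_of_regular D hρ hcore (by have := hp.out.two_le; omega) hcardW
    (Subgroup.le_normalizer hxR) hxp hx1 hreg' L' hL with h | h
  · obtain ⟨v, hv, hvZ⟩ := exists_not_mem_of_card (A := Z) (B := V) (by
      rw [hVc]; exact lt_mul_of_one_lt_left Nat.card_pos hp.out.one_lt)
    have h1 : vec ⟨v, hVU hv⟩ ∈ L' := mem_map_of_mem q (show (⟨v, hVU hv⟩ : U) ∈ V.subgroupOf U from hv)
    rw [h, Submodule.mem_bot, hv0] at h1
    exact hvZ h1
  · have h1 : U ≤ V := fun a ha => by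
      obtain ⟨b, hb, e⟩ := (h.ge (Submodule.mem_top (x := vec ⟨a, ha⟩)) :
        q ⟨a, ha⟩ ∈ (V.subgroupOf U).map q)
      have h2 : (b : T)⁻¹ * a ∈ Z := (QuotientGroup.eq (s := Z') (a := b) (b := ⟨a, ha⟩)).1 e
      have h3 := mul_mem (show (b : T) ∈ V from hb) (hZV h2)
      rwa [mul_inv_cancel_left] at h3
    have h2 := Subgroup.card_le_of_le h1
    rw [hcard, hVc] at h2
    have h3 := Nat.le_of_mul_le_mul_right h2 Nat.card_pos
    exact absurd h3 (not_le.2 ((pow_one p).symm.trans_lt (Nat.pow_lt_pow_right hp.out.one_lt (by norm_num))))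

end Mdl

/-- A model fixing the closure of the centre of the only other relevant model fixes the subgroup above it. -/
theorem delicate (hT : IsPGroup p T) (hp2 : p ≠ 2) (hr : RankThreeLE p T) (𝔖 : Sys.{u, v} p T)
    (hinj : ∀ i j, (𝔖.mdl i).E = (𝔖.mdl j).E → i = j) {i k : 𝔖.Idx}
    (hik : i ≠ k) (hVi : (𝔖.mdl i).V ≠ zOmega p T) (hVc : Nat.card (𝔖.mdl i).V = p ^ 2)
    (honly : ∀ m, (𝔖.mdl m).V ≠ zOmega p T → m = i) (hVk : (𝔖.mdl k).Inv (𝔖.mdl i).V)
    {Y : Subgroup T} (hY : Elem3 p Y) (hYi : (𝔖.mdl i).Inv Y) : (𝔖.mdl k).Inv Y := by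
  set Mi := 𝔖.mdl i
  set Mk := 𝔖.mdl k
  set Z := zOmega p T
  set V := Mi.V
  have hZc : Nat.card Z = p := Mi.card_zOmega_of_card_V hT hVi hVc
  have hZY : Z ≤ Y := Mdl.elem3_unique.zOmega_le_of_inv hT Mi hYi hY hVi hVc
  have hVY : V ≤ Y := Mi.cl_le hYi hZY
  haveI hYnorm := Mi.inv_normal hYi
  haveI hVn := Mi.inv_normal Mi.inv_V
  have hne : Mi.E ≠ Mk.E := fun e => hik (hinj i k e)
  -- inside
  have hYE : Y ≤ Mk.E := by
    intro a ha
    by_contra haE
    have hinf : Y ⊓ Mk.E = V := by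
      refine (Subgroup.eq_of_le_of_card_ge (le_inf hVY hVk.1) ?_).symm
      have h := card_mul_le hT (K := Y ⊓ Mk.E) (L := Y)
        (lt_of_le_of_ne inf_le_left fun e => haE (e.ge ha).2)
      rw [hY.card, show p ^ 3 = p * p ^ 2 by ring] at h
      rw [hVc]
      exact Nat.le_of_mul_le_mul_left h hp.out.pos
    exact haE (Mk.stab2 hT hVk (fun e he => hinf ▸ ⟨commutator_right_le hYi ha e, Mk.commutator_mem_E a e⟩)
      fun e he => commutatorElement_eq_one_iff_commute.2 (hY.comm a ha e (hVY he)))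
  by_contra hni
  obtain ⟨g, hg⟩ := Mk.exists_conjSub_ne hYE hni
  set U := Mk.cl Y
  have heq : Y ⊔ Mk.conjSub g Y = U := Mk.cl_two hT hp2 hr hY hYE hVk hVY hVc hg
  have hY' := hY.conjSub hYE g
  have hVY' : V ≤ Mk.conjSub g Y := (Mk.conjSub_eq_of_inv hVk).ge.trans (Mk.conjSub_mono hVY)
  have hBn : ∀ a ∈ Y, ∀ b ∈ Mk.conjSub g Y, a * b * a⁻¹ ∈ Mk.conjSub g Y := fun a ha b hb =>
    Mk.conjSub_normal hYE hYnorm a (hYE ha) b hb
  obtain ⟨-, hU4, c, hcV, hc1, hUc⟩ := sup_two hT hp2 hr hY hY' hVY hVY' hVc (Ne.symm hg) hBn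
  obtain ⟨-, hcen, hexp⟩ := sup_elem_props hp2 hY.comm hY'.comm hY.pow hY'.pow
    (fun b _ a ha => hYnorm.conj_mem a ha b) hBn
  rw [heq] at hU4 hUc hexp
  have hUi : Mk.Inv U := Mk.inv_cl hYE
  haveI hUn := Mk.inv_normal hUi
  have hYU : Y ≤ U := Mk.le_cl Y
  have hVU : V ≤ U := hVY.trans hYU
  -- the derived subgroup is the centre
  have hcp := Mi.V_pow c hcV
  have hcZ : zpowers c = Z := by
    haveI : (zpowers c).Normal := hUc ▸ inferInstance
    refine Subgroup.eq_of_le_of_card_ge (zpowers_le.2 ⟨Cfsg.Lib.PGroups.le_center_of_card_eq_prime hT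
      (card_zpowers_eq hcp hc1) (mem_zpowers c), hcp⟩) ?_
    rw [hZc, card_zpowers_eq hcp hc1]
  have hUU : ∀ a ∈ U, ∀ b ∈ U, ⁅a, b⁆ ∈ Z := fun a ha b hb =>
    hcZ ▸ hUc ▸ commutator_mem_commutator ha hb
  have hUab : ¬ ∀ a ∈ U, ∀ b ∈ U, Commute a b := fun h => hc1 (by
    have h1 : ⁅U, U⁆ ≤ ⊥ := Subgroup.commutator_le.2 fun a ha b hb =>
      mem_bot.2 (commutatorElement_eq_one_iff_commute.2 (h a ha b hb))
    exact zpowers_eq_bot.1 (le_bot_iff.1 (hUc ▸ h1)))
  have hYc : ∀ y ∈ Y, ∀ v ∈ V, Commute y v := fun y hy v hv => hY.comm y hy v (hVY hv)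
  have hUE : U ≤ Mi.E := by
    rw [← Mi.centralizer_V_eq hVi, ← heq]
    exact sup_le (fun y hy => mem_centralizer_iff.2 fun v hv => (hYc y hy v hv).eq.symm)
      (fun y hy => mem_centralizer_iff.2 fun v hv => (hY'.comm v (hVY' hv) y hy).eq)
  -- commutators with `Y` and with `V`
  have hTY : ∀ t : T, ∀ y ∈ Y, ⁅t, y⁆ ∈ V := by
    intro t y hy
    refine (QuotientGroup.eq_one_iff _).1 ?_
    set π := QuotientGroup.mk' V
    show π _ = 1
    haveI : (Y.map π).Normal := Subgroup.Normal.map hYnorm _ (QuotientGroup.mk'_surjective _)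
    have hc : Nat.card (Y.map π) = p := by
      rw [← Subgroup.relIndex_ker, QuotientGroup.ker_mk']
      have h := Subgroup.relIndex_mul_relIndex ⊥ V Y bot_le hVY
      rw [Subgroup.relIndex_bot_left, Subgroup.relIndex_bot_left, hVc, hY.card, pow_succ p 2] at h
      exact Nat.eq_of_mul_eq_mul_left (pow_pos hp.out.pos 2) h
    rw [map_commutatorElement, commutatorElement_eq_one_iff_mul_comm]
    exact mem_center_iff.1 (Cfsg.Lib.PGroups.le_center_of_card_eq_prime (hT.to_quotient V) hc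
      (mem_map_of_mem π hy)) _
  have hTV : ∀ t : T, ∀ v ∈ V, ⁅t, v⁆ ∈ Z := by
    intro t v hv
    refine (QuotientGroup.eq_one_iff _).1 ?_
    set π := QuotientGroup.mk' Z
    show π _ = 1
    haveI : (V.map π).Normal := Subgroup.Normal.map hVn _ (QuotientGroup.mk'_surjective _)
    have hc : Nat.card (V.map π) = p := by
      rw [← Subgroup.relIndex_ker, QuotientGroup.ker_mk']
      have h := Subgroup.relIndex_mul_relIndex ⊥ Z V bot_le Mi.zOmega_le_V
      rw [Subgroup.relIndex_bot_left, Subgroup.relIndex_bot_left, hVc, hZc, sq] at h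
      exact Nat.eq_of_mul_eq_mul_left hp.out.pos h
    rw [map_commutatorElement, commutatorElement_eq_one_iff_mul_comm]
    exact mem_center_iff.1 (Cfsg.Lib.PGroups.le_center_of_card_eq_prime (hT.to_quotient Z) hc
      (mem_map_of_mem π hv)) _
  have hEU : ∀ e ∈ Mk.E, ∀ u ∈ U, ⁅e, u⁆ ∈ V := by
    intro e he u hu
    refine (QuotientGroup.eq_one_iff _).1 ?_
    set π := QuotientGroup.mk' V
    show π _ = 1
    have hle : U ≤ (centralizer {π e}).comap π := Mk.cl_le_of_conj hYE fun h y hy => by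
      refine mem_centralizer_singleton_iff.2 (Eq.symm ?_)
      rw [← commutatorElement_eq_one_iff_mul_comm, ← map_commutatorElement]
      refine (QuotientGroup.eq_one_iff _).2 ?_
      rw [← Mk.cj_cj_inv (g := h) he, ← Mk.cj_comm (Mk.cj_mem he) (hYE hy)]
      exact hVk.2 h _ (hTY _ y hy)
    rw [map_commutatorElement, commutatorElement_eq_one_iff_mul_comm]
    exact (mem_centralizer_singleton_iff.1 (hle hu)).symm
  -- nontrivial on the upper section
  have hmove : ∃ t : T, ∃ u ∈ U, ⁅t, u⁆ ∉ V := by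
    by_contra h
    push Not at h
    obtain ⟨l, hl, n, hn, hgl⟩ := Mk.exists_L_mul hT g
    obtain ⟨b, hb, hbn⟩ := 𝔖.norm k n hn
    obtain ⟨m, hmE, hmI⟩ := 𝔖.move b hb i
    obtain ⟨m', hm'E, hm'I⟩ := 𝔖.move b⁻¹ (inv_mem hb) m
    have hm' : m' = i := hinj _ _ (by
      rw [hm'E, hmE, Subgroup.map_map]
      convert Subgroup.map_id _
      exact MonoidHom.ext fun x => MulAut.inv_apply_self _ b x)
    rw [hm'] at hm'I
    have hmi : m = i := honly m fun e => hVi (le_antisymm (Mi.cl_le (by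
      have h1 := hm'I _ (e ▸ (𝔖.mdl m).inv_V)
      rwa [Sys.char_zOmega] at h1) le_rfl) Mi.zOmega_le_V)
    rw [hmi] at hmI
    have hbY : Y.map b.toMonoidHom = Y := Mi.elem3_unique hT hp2 hr hVi hVc
      ⟨(Subgroup.card_map_of_injective b.injective).trans hY.card,
        by rintro _ ⟨x, hx, rfl⟩ _ ⟨y, hy, rfl⟩; exact (hY.comm x hx y hy).map b.toMonoidHom,
        by rintro _ ⟨x, hx, rfl⟩; rw [← map_pow, hY.pow x hx, map_one]⟩
      hY (hmI Y hYi) hYi
    refine hg (Subgroup.eq_of_le_of_card_ge (fun z hz => ?_) (Mk.card_conjSub hYE).ge)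
    obtain ⟨y, hy, rfl⟩ := (Mk.mem_conjSub hYE).1 hz
    have hny : Mk.cj n y ∈ Y := by
      rw [Mk.cj_eq (hYE hy) (hbn y), ← hbY]
      exact mem_map_of_mem _ hy
    have h1 := Mk.L_trivial hVk hUi h l hl _ (hYU hny)
    rw [hgl, Mk.cj_mul_left (hYE hy)]
    have h2 := Y.mul_mem (hVY h1) hny
    rwa [inv_mul_cancel_right] at h2
  -- intermediate invariant subgroups
  have hfixY : ∀ u ∈ U, (u ∈ Y ↔ ∀ t : T, ⁅t, u⁆ ∈ V) := by
    intro u hu
    refine ⟨fun h t => hTY t u h, fun h => ?_⟩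
    by_contra huY
    let F : Subgroup T :=
      { carrier := {w | ∀ t : T, ⁅t, w⁆ ∈ V}
        one_mem' := fun t => by rw [commutatorElement_one_right]; exact one_mem _
        mul_mem' := fun {a b} ha hb t => by
          rw [Cfsg.Lib.PGroups.mul_right_commutator]
          exact mul_mem (ha t) (hVn.conj_mem _ (hb t) a)
        inv_mem' := fun {a} ha t => by
          rw [show ⁅t, a⁻¹⁆ = a⁻¹ * ⁅t, a⁆⁻¹ * a⁻¹⁻¹ by simp only [commutatorElement_def]; group]
          exact hVn.conj_mem _ (inv_mem (ha t)) a⁻¹ }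
    have hYF : Y ⊔ zpowers u ≤ F := sup_le (fun y hy t => hTY t y hy) (zpowers_le.2 h)
    have hUF : Y ⊔ zpowers u = U := Subgroup.eq_of_le_of_card_ge (sup_le hYU (zpowers_le.2 hu)) (by
      have h1 := lt_card_sup hT huY
      rw [hY.card, ← pow_succ'] at h1
      rw [hU4]; exact h1)
    obtain ⟨t, w, hw, hne'⟩ := hmove
    exact hne' (hYF (hUF.ge hw) t)
  have hdich : ∀ X : Subgroup T, Mk.Inv X → V ≤ X → X ≤ U → X = V ∨ X = U := by
    intro X hX hVX hXU
    obtain ⟨n, hn⟩ := card_eq_pow hT X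
    have h1 := Subgroup.card_le_of_le hVX
    have h2 := Subgroup.card_le_of_le hXU
    rw [hn, hVc] at h1
    rw [hn, hU4] at h2
    have e1 := (Nat.pow_le_pow_iff_right hp.out.one_lt).1 h1
    have e2 := (Nat.pow_le_pow_iff_right hp.out.one_lt).1 h2
    rcases (show n = 2 ∨ n = 3 ∨ n = 4 by omega) with rfl | rfl | rfl
    · exact Or.inl (Subgroup.eq_of_le_of_card_ge hVX (by rw [hn, hVc])).symm
    · haveI := Mk.inv_normal hX
      set π := QuotientGroup.mk' V
      haveI : (X.map π).Normal := Subgroup.Normal.map inferInstance _ (QuotientGroup.mk'_surjective _)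
      have hc : Nat.card (X.map π) = p := by
        rw [← Subgroup.relIndex_ker, QuotientGroup.ker_mk']
        have h := Subgroup.relIndex_mul_relIndex ⊥ V X bot_le hVX
        rw [Subgroup.relIndex_bot_left, Subgroup.relIndex_bot_left, hVc, hn, pow_succ p 2] at h
        exact Nat.eq_of_mul_eq_mul_left (pow_pos hp.out.pos 2) h
      have hXY : X ≤ Y := fun x hx => (hfixY x (hXU hx)).2 fun t => by
        refine (QuotientGroup.eq_one_iff _).1 ?_
        show π _ = 1
        rw [map_commutatorElement, commutatorElement_eq_one_iff_mul_comm]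
        exact mem_center_iff.1 (Cfsg.Lib.PGroups.le_center_of_card_eq_prime (hT.to_quotient V) hc
          (mem_map_of_mem π hx)) _
      exact absurd (Subgroup.eq_of_le_of_card_ge hXY (by rw [hn, hY.card]) ▸ hX) hni
    · exact Or.inr (Subgroup.eq_of_le_of_card_ge hXU (by rw [hn, hU4]))
  -- elements fixing the middle
  haveI hZn : Z.Normal := zOmega_normal
  set ρ := QuotientGroup.mk' Z
  have hρ : ∀ a b : T, ⁅a, b⁆ ∈ Z ↔ Commute (ρ a) (ρ b) := fun a b => by
    rw [← commutatorElement_eq_one_iff_commute, ← map_commutatorElement]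
    exact (QuotientGroup.eq_one_iff _).symm
  set H := Mk.E ⊓ centralizer (V : Set T)
  have hHi : Mk.Inv H := Mk.inv_centralizer hVk
  obtain ⟨x, hx, hxE⟩ := exists_not_mem_E hne.symm
  have hkern : ∀ S' : Subgroup T, Mk.Inv S' → ∀ X : Subgroup T,
      (∀ u, u ∈ X ↔ u ∈ U ∧ ∀ s ∈ S', ⁅s, u⁆ ∈ Z) → Mk.Inv X := by
    intro S' hS' X hX
    refine ⟨fun u hu => hUi.1 ((hX u).1 hu).1, fun h u hu => (hX _).2 ⟨hUi.2 h u ((hX u).1 hu).1, fun s hs => ?_⟩⟩
    have h1 := ((hX u).1 hu).2 _ (hS'.2 h⁻¹ s hs)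
    have hE1 : u ∈ Mk.E := hUi.1 ((hX u).1 hu).1
    have hsE : s ∈ Mk.E := hS'.1 hs
    have h2 : Mk.cj h ⁅Mk.cj h⁻¹ s, u⁆ ∈ Z := by
      by_cases hk : Mk.V = Z
      · exact (hk ▸ Mk.inv_V : Mk.Inv Z).2 h _ h1
      · exact absurd (honly k hk).symm hik
    rwa [Mk.cj_comm (Mk.cj_mem hsE) hE1, Mk.cj_cj_inv hsE] at h2
  let Ker : Subgroup T → Subgroup T := fun S' => U ⊓ (centralizer ((S'.map ρ : Subgroup (T ⧸ Z)) : Set (T ⧸ Z))).comap ρ
  have hKer : ∀ S' u, u ∈ Ker S' ↔ u ∈ U ∧ ∀ s ∈ S', ⁅s, u⁆ ∈ Z := fun S' u => by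
    refine ⟨fun h => ⟨h.1, fun s hs => (hρ s u).2 ?_⟩, fun h => Subgroup.mem_inf.2 ⟨h.1, mem_centralizer_iff.2 ?_⟩⟩
    · exact mem_centralizer_iff.1 h.2 _ (mem_map_of_mem ρ hs)
    · rintro _ ⟨s, hs, rfl⟩
      exact ((hρ s u).1 (h.2 s hs)).eq
  have hVKer : ∀ S', V ≤ Ker S' := fun S' v hv => (hKer S' v).2 ⟨hVU hv, fun s _ => hTV s v hv⟩
  rcases hdich (Ker H) (hkern H hHi _ (hKer H)) (hVKer H) inf_le_left with hK | hK
  · -- a large image: the subgroup lies in the Frattini part, which centralises it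
    have hcomH : ∀ h ∈ H, ∀ v ∈ V, Commute h v := fun h hh v hv => (mem_centralizer_iff.1 hh.2 v hv).symm
    have hhomU : ∀ u ∈ U, ∀ h ∈ phi p H, ⁅h, u⁆ = 1 := by
      intro u hu
      let f : H →* T :=
        { toFun := fun h => ⁅(h : T), u⁆
          map_one' := by simp
          map_mul' := fun a b => by
            rw [Subgroup.coe_mul, Cfsg.Lib.PGroups.mul_left_commutator,
              (hcomH a a.2 _ (hEU b b.2.1 u hu)).eq, mul_inv_cancel_right,
              (Mi.V_comm _ (hEU b b.2.1 u hu) _ (hEU a a.2.1 u hu)).eq] }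
      have hle : phi p H ≤ f.ker.map H.subtype := sup_le
        (Subgroup.commutator_le.2 fun a ha b hb => ⟨⁅(⟨a, ha⟩ : H), ⟨b, hb⟩⁆, by
          rw [SetLike.mem_coe, MonoidHom.mem_ker, map_commutatorElement, commutatorElement_eq_one_iff_commute]
          exact Mi.V_comm _ (hEU a ha.1 u hu) _ (hEU b hb.1 u hu), rfl⟩)
        (pw_le_iff.2 fun a ha => ⟨(⟨a, ha⟩ : H) ^ p, by
          rw [SetLike.mem_coe, MonoidHom.mem_ker, map_pow]
          exact Mi.V_pow _ (hEU a ha.1 u hu), rfl⟩)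
      intro h hh
      obtain ⟨a, ha, rfl⟩ := hle hh
      exact ha
    refine hUab ?_
    have hUle : U ≤ V ⊔ phi p H := by
      rcases hdich (U ⊓ (V ⊔ phi p H)) (Mk.inv_inf hUi (Mk.inv_sup hVk (Mk.inv_phi hHi)))
        (le_inf hVU le_sup_left) inf_le_left with h | h
      · -- the Frattini quotient would be too large
        exfalso
        set K0 := H ⊓ (centralizer ((U.map ρ : Subgroup (T ⧸ Z)) : Set (T ⧸ Z))).comap ρ
        have hK0 : ∀ s, s ∈ K0 ↔ s ∈ H ∧ ∀ u ∈ U, ⁅s, u⁆ ∈ Z := fun s => by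
          refine ⟨fun h => ⟨h.1, fun u hu => (hρ s u).2 ?_⟩, fun h => Subgroup.mem_inf.2 ⟨h.1, mem_centralizer_iff.2 ?_⟩⟩
          · exact (mem_centralizer_iff.1 h.2 _ (mem_map_of_mem ρ hu)).symm
          · rintro _ ⟨u, hu, rfl⟩
            exact ((hρ s u).1 (h.2 u hu)).eq.symm
        have hUH : U ≤ H := le_inf hUi.1 (hUE.trans (Mi.centralizer_V_eq hVi).ge)
        have hKle : U ⊔ phi p H ≤ K0 := sup_le (fun s hs => (hK0 s).2 ⟨hUH hs, fun u hu => hUU s hs u hu⟩)
          (fun s hs => (hK0 s).2 ⟨phi_le_self H hs, fun u hu => by rw [hhomU u hu s hs]; exact one_mem _⟩)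
        haveI : (phi p H).Normal := by haveI := Mk.inv_normal hHi; infer_instance
        have hone : ∀ h0 ∈ H, H ≤ K0 ⊔ zpowers h0 → False := by
          intro h0 hh0 hle
          let f : U →* T ⧸ Z :=
            { toFun := fun u => ρ ⁅h0, (u : T)⁆
              map_one' := by simp
              map_mul' := fun a b => by
                have hc : Commute (ρ a) (ρ ⁅h0, (b : T)⁆) :=
                  (hρ _ _).1 (hTV _ _ (hEU h0 hh0.1 b b.2))
                rw [Subgroup.coe_mul, Cfsg.Lib.PGroups.mul_right_commutator, map_mul, map_mul,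
                  map_mul, map_inv, hc.eq, mul_inv_cancel_right] }
          have hr' : f.range ≤ V.map ρ := by
            rintro _ ⟨u, rfl⟩
            exact mem_map_of_mem ρ (hEU h0 hh0.1 u u.2)
          have hk' : Nat.card f.ker ≤ Nat.card V := by
            refine Nat.card_le_card_of_injective (fun u => (⟨((u : U) : T), hK.le ((hKer H _).2 ⟨(u : U).2,
              fun s hs => ?_⟩)⟩ : V)) fun a b e => Subtype.ext (Subtype.ext (congrArg (fun y : V => (y : T)) e))
            have h1 : (u : U) ∈ f.ker := u.2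
            have hcu : H ≤ (centralizer {ρ ((u : U) : T)}).comap ρ := hle.trans (sup_le
              (fun s hs => mem_centralizer_singleton_iff.2 ((hρ s _).1 (((hK0 s).1 hs).2 _ (u : U).2)).eq)
              (zpowers_le.2 (mem_centralizer_singleton_iff.2 ((hρ _ _).1
                ((QuotientGroup.eq_one_iff _).1 (MonoidHom.mem_ker.1 h1))).eq)))
            exact (hρ s _).2 (mem_centralizer_singleton_iff.1 (hcu hs))
          have h1 := f.ker.card_mul_index
          rw [Subgroup.index_ker, hU4] at h1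
          have h2 : Nat.card (V.map ρ) ≤ p := by
            rw [← Subgroup.relIndex_ker, QuotientGroup.ker_mk']
            have h := Subgroup.relIndex_mul_relIndex ⊥ Z V bot_le Mi.zOmega_le_V
            rw [Subgroup.relIndex_bot_left, Subgroup.relIndex_bot_left, hVc, hZc, sq] at h
            exact (Nat.eq_of_mul_eq_mul_left hp.out.pos h).le
          have h3 : p ^ 4 ≤ p ^ 3 := by
            rw [← h1, pow_succ p 2, ← hVc]
            exact Nat.mul_le_mul hk' ((Subgroup.card_le_of_le hr').trans h2)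
          exact absurd ((Nat.pow_le_pow_iff_right hp.out.one_lt).1 h3) (by norm_num)
        obtain ⟨h0, hh0, hh0K⟩ : ∃ h0 ∈ H, h0 ∉ K0 := by
          by_contra hh
          push Not at hh
          exact hone 1 (one_mem _) (le_trans hh le_sup_left)
        obtain ⟨h1, hh1, hh1K⟩ : ∃ h1 ∈ H, h1 ∉ K0 ⊔ zpowers h0 := by
          by_contra hh
          push Not at hh
          exact hone h0 hh0 hh
        have hK0H : K0 ≤ H := inf_le_left
        have hb := hr H (phi p H) (phi_le_self H) (fun a ha b hb' => mem_sup_left (commutator_mem_commutator ha hb'))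
          fun a ha => mem_sup_right (pow_mem_pw ha)
        have hs := card_sup (phi p H) U
        have hmeet : Nat.card (phi p H ⊓ U : Subgroup T) ≤ p ^ 2 := by
          rw [← hVc]
          exact Subgroup.card_le_of_le fun w hw => h.le ⟨hw.2, mem_sup_right hw.1⟩
        rw [hU4] at hs
        have hbig : p ^ 2 * Nat.card (phi p H) ≤ Nat.card (phi p H ⊔ U : Subgroup T) := by
          refine Nat.le_of_mul_le_mul_right ?_ (pow_pos hp.out.pos 2)
          calc p ^ 2 * Nat.card (phi p H) * p ^ 2 = Nat.card (phi p H) * p ^ 4 := by ring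
            _ = _ := hs.symm
            _ ≤ Nat.card (phi p H ⊔ U : Subgroup T) * p ^ 2 := Nat.mul_le_mul_left _ hmeet
        rw [sup_comm] at hbig
        have h2 := hbig.trans (Subgroup.card_le_of_le hKle)
        have h3 := (Nat.mul_le_mul_left p (lt_card_sup hT hh0K)).trans
          ((lt_card_sup hT hh1K).trans (Subgroup.card_le_of_le
            (sup_le (sup_le hK0H (zpowers_le.2 hh0)) (zpowers_le.2 hh1))))
        have h4 : p ^ 4 * Nat.card (phi p H) ≤ p ^ 3 * Nat.card (phi p H) := by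
          refine le_trans ?_ hb
          calc p ^ 4 * Nat.card (phi p H) = p * (p * (p ^ 2 * Nat.card (phi p H))) := by ring
            _ ≤ p * (p * Nat.card K0) := Nat.mul_le_mul_left _ (Nat.mul_le_mul_left _ h2)
            _ ≤ _ := h3
        exact absurd ((Nat.pow_le_pow_iff_right hp.out.one_lt).1 (Nat.le_of_mul_le_mul_right h4 Nat.card_pos))
          (by norm_num)
      · exact h ▸ inf_le_right
    intro a ha b hb
    have hle : V ⊔ phi p H ≤ centralizer ({b} : Set T) := sup_le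
      (fun v hv => mem_centralizer_singleton_iff.2 (hcen v ⟨hVY hv, hVY' hv⟩ b (heq.ge hb)).eq)
      (fun h hh => mem_centralizer_singleton_iff.2 (commutatorElement_eq_one_iff_commute.1 (hhomU b hb h hh)).eq)
    exact mem_centralizer_singleton_iff.1 (hle (hUle ha))
  · -- trivial action modulo the centre: a regular element
    have hxH : H ⊔ zpowers x = Mk.E := by
      haveI := Mk.inv_normal hHi
      refine le_antisymm (sup_le inf_le_left (zpowers_le.2 hx)) fun e he => ?_
      obtain ⟨j, a, ha, rfl⟩ := exists_decomp Mi hxE e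
      refine mul_mem (mem_sup_right (zpow_mem (mem_zpowers x) j)) (mem_sup_left
        (Subgroup.mem_inf.2 ⟨(Subgroup.mul_mem_cancel_left _ (zpow_mem hx j)).1 he, ?_⟩))
      exact (Mi.centralizer_V_eq hVi).ge ha
    have hall : ∀ e ∈ Mk.E, ∀ u ∈ U, ⁅e, u⁆ ∈ Z := by
      rcases hdich (Ker Mk.E) (hkern Mk.E Mk.inv_E _ (hKer Mk.E)) (hVKer _) inf_le_left with h | h
      · exfalso
        let f : U →* T ⧸ Z :=
          { toFun := fun u => ρ ⁅x, (u : T)⁆
            map_one' := by simp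
            map_mul' := fun a b => by
              have hc : Commute (ρ a) (ρ ⁅x, (b : T)⁆) := (hρ _ _).1 (hTV _ _ (hEU x hx b b.2))
              rw [Subgroup.coe_mul, Cfsg.Lib.PGroups.mul_right_commutator, map_mul, map_mul,
                map_mul, map_inv, hc.eq, mul_inv_cancel_right] }
        have hr' : f.range ≤ V.map ρ := by
          rintro _ ⟨u, rfl⟩
          exact mem_map_of_mem ρ (hEU x hx u u.2)
        have hk' : Nat.card f.ker ≤ Nat.card V := by
          refine Nat.card_le_card_of_injective (fun u => (⟨((u : U) : T), h.le ((hKer _ _).2 ⟨(u : U).2,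
            fun s hs => ?_⟩)⟩ : V)) fun a b e => Subtype.ext (Subtype.ext (congrArg (fun y : V => (y : T)) e))
          have h1 : (u : U) ∈ f.ker := u.2
          have hcu : H ⊔ zpowers x ≤ (centralizer {ρ ((u : U) : T)}).comap ρ := sup_le
            (fun w hw => mem_centralizer_singleton_iff.2 ((hρ w _).1
              (((hKer H _).1 (hK.ge (u : U).2)).2 w hw)).eq)
            (zpowers_le.2 (mem_centralizer_singleton_iff.2 ((hρ _ _).1
              ((QuotientGroup.eq_one_iff _).1 (MonoidHom.mem_ker.1 h1))).eq))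
          exact (hρ s _).2 (mem_centralizer_singleton_iff.1 (hcu (hxH.ge hs)))
        have h1 := f.ker.card_mul_index
        rw [Subgroup.index_ker, hU4] at h1
        have h2 : Nat.card (V.map ρ) ≤ p := by
          rw [← Subgroup.relIndex_ker, QuotientGroup.ker_mk']
          have h := Subgroup.relIndex_mul_relIndex ⊥ Z V bot_le Mi.zOmega_le_V
          rw [Subgroup.relIndex_bot_left, Subgroup.relIndex_bot_left, hVc, hZc, sq] at h
          exact (Nat.eq_of_mul_eq_mul_left hp.out.pos h).le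
        have h3 : p ^ 4 ≤ p ^ 3 := by
          rw [← h1, pow_succ p 2, ← hVc]
          exact Nat.mul_le_mul hk' ((Subgroup.card_le_of_le hr').trans h2)
        exact absurd ((Nat.pow_le_pow_iff_right hp.out.one_lt).1 h3) (by norm_num)
      · exact fun e he u hu => ((hKer _ u).1 (h.ge hu)).2 e he
    obtain ⟨e1, he1, y0, hy0, he1y⟩ : ∃ e1 ∈ Mi.E, ∃ y ∈ Y, ⁅e1, y⁆ ∉ Z := by
      by_contra hh
      push Not at hh
      have hP : Mi.Inv ⁅Mi.E, Y⁆ := Mi.inv_commutator Mi.inv_E hYi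
      have hPZ : ⁅Mi.E, Y⁆ ≤ Z := Subgroup.commutator_le.2 hh
      have hne0 : ⁅Mi.E, Y⁆ ≠ ⊥ := fun e0 => hUab (fun a ha b hb => by
        have hYc' : U ≤ centralizer (Y : Set T) := fun w hw => mem_centralizer_iff.2 fun y hy =>
          (commutatorElement_eq_one_iff_mul_comm.1 (mem_bot.1 (e0 ▸ commutator_mem_commutator (hUE hw) hy))).symm
        have hle2 : Y ⊔ Mk.conjSub g Y ≤ centralizer ({b} : Set T) := sup_le
          (fun y hy => mem_centralizer_singleton_iff.2 (mem_centralizer_iff.1 (hYc' hb) y hy))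
          (fun y hy => by
            have hY'c : U ≤ centralizer ({y} : Set T) := heq ▸ sup_le
              (fun w hw => mem_centralizer_singleton_iff.2
                (mem_centralizer_iff.1 (hYc' (heq.le (mem_sup_right hy))) w hw))
              (fun w hw => mem_centralizer_singleton_iff.2 (hY'.comm w hw y hy).eq)
            exact mem_centralizer_singleton_iff.2 (mem_centralizer_singleton_iff.1 (hY'c hb)).symm)
        exact mem_centralizer_singleton_iff.1 (hle2 (heq.ge ha)))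
      have hPeq : ⁅Mi.E, Y⁆ = Z := by
        refine Subgroup.eq_of_le_of_card_ge hPZ ?_
        obtain ⟨n, hn⟩ := card_eq_pow hT ⁅Mi.E, Y⁆
        rw [hZc, hn]
        exact Nat.le_self_pow (fun e => hne0 (Subgroup.card_eq_one.1 (by rw [hn, e, pow_zero]))) p
      exact hVi (le_antisymm (Mi.cl_le (hPeq ▸ hP) le_rfl) Mi.zOmega_le_V)
    have he1E : e1 ∉ Mk.E := fun h => he1y (hall e1 h y0 (hYU hy0))
    obtain ⟨u0, hu0, hu0V⟩ : ∃ u ∈ U, ⁅e1, u⁆ ∉ V := by
      by_contra hh
      push Not at hh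
      obtain ⟨t, u, hu, hne'⟩ := hmove
      obtain ⟨j, e, he, rfl⟩ := exists_decomp Mk he1E t
      refine hne' ?_
      set π := QuotientGroup.mk' V
      refine (QuotientGroup.eq_one_iff _).1 ?_
      show π _ = 1
      have hc : ∀ w : T, ⁅w, u⁆ ∈ V → Commute (π w) (π u) := fun w hw => by
        rw [← commutatorElement_eq_one_iff_commute, ← map_commutatorElement]
        exact (QuotientGroup.eq_one_iff _).2 hw
      rw [map_commutatorElement, commutatorElement_eq_one_iff_commute, map_mul, map_zpow]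
      exact ((hc e1 (hh u hu)).zpow_left j).mul_left (hc e (hEU e he u hu))
    have hy1U : ⁅e1, u0⁆ ∈ U := U.mul_mem (hUn.conj_mem _ hu0 e1) (inv_mem hu0)
    have hy1Y : ⁅e1, u0⁆ ∈ Y := by
      have hcyc : ∀ t : T, ∀ u ∈ U, ⁅t, u⁆ ∈ Y := by
        intro t u hu
        haveI : (U.map (QuotientGroup.mk' Y)).Normal := Subgroup.Normal.map hUn _ (QuotientGroup.mk'_surjective _)
        have hc : Nat.card (U.map (QuotientGroup.mk' Y)) = p := by
          rw [← Subgroup.relIndex_ker, QuotientGroup.ker_mk']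
          have h := Subgroup.relIndex_mul_relIndex ⊥ Y U bot_le hYU
          rw [Subgroup.relIndex_bot_left, Subgroup.relIndex_bot_left, hY.card, hU4, pow_succ p 3] at h
          exact Nat.eq_of_mul_eq_mul_left (pow_pos hp.out.pos 3) h
        refine (QuotientGroup.eq_one_iff _).1 ?_
        show QuotientGroup.mk' Y _ = 1
        rw [map_commutatorElement, commutatorElement_eq_one_iff_mul_comm]
        exact mem_center_iff.1 (Cfsg.Lib.PGroups.le_center_of_card_eq_prime (hT.to_quotient Y) hc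
          (mem_map_of_mem _ hu)) _
      exact hcyc e1 u0 hu0
    have hreg : ⁅e1, ⁅e1, u0⁆⁆ ∉ Z := by
      intro hz
      have hYgen : V ⊔ zpowers ⁅e1, u0⁆ = Y := Subgroup.eq_of_le_of_card_ge (sup_le hVY (zpowers_le.2 hy1Y)) (by
        have h1 := lt_card_sup hT hu0V
        rw [hVc, ← pow_succ'] at h1
        rw [hY.card]; exact h1)
      have hle3 : V ⊔ zpowers ⁅e1, u0⁆ ≤ (centralizer {ρ e1}).comap ρ := sup_le
        (fun w hw => mem_centralizer_singleton_iff.2 ((hρ e1 w).1 (hTV e1 w hw)).eq.symm)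
        (zpowers_le.2 (mem_centralizer_singleton_iff.2 ((hρ e1 _).1 hz).eq.symm))
      exact he1y ((hρ e1 y0).2 (mem_centralizer_singleton_iff.1 (hle3 (hYgen.ge hy0))).symm)
    have hkZ : Mk.Inv Z := by
      by_cases hk : Mk.V = Z
      · exact hk ▸ Mk.inv_V
      · exact absurd (honly k hk).symm hik
    exact Mk.false_of_regular hT hp2 hUi hVk hkZ hni hYU hYE Mi.zOmega_le_V hVU
      (by rw [hU4, hZc, ← pow_succ]) (by rw [hVc, hZc, sq]) hUU
      (fun a ha => by rw [hexp a ha]; exact one_mem _) hall hfixY hu0 hreg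

end Cfsg.Lib.Fusion.RankThreePair
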