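import Cfsg.Agent.Fusion.RankThree.Setting

/-!
An essential subgroup that is normal has index `p` in sectional rank at most three.
-/

set_option autoImplicit false
set_option linter.unusedSectionVars false
set_option linter.style.haveILetI false
set_option maxHeartbeats 800000

namespace Cfsg.Lib.Fusion.RankThreePair

open Subgroup Cfsg Cfsg.FusionSystem Cfsg.Lib.Fusion Cfsg.Lib.Fusion.TransvectionThree
  Cfsg.Lib.Fusion.RankThree
open scoped commutatorElement

universe u

variable {p : ℕ} [hp : Fact p.Prime]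

/-- A linear group of dimension at most three with a strongly embedded subgroup has Sylow subgroups of
order `p`. -/
theorem sylow_prime_of_sedata {V : Type*} [AddCommGroup V] [Module (ZMod p) V] [Finite V]
    {H : Type*} [Group H] [Finite H] {ρ : H →* Module.End (ZMod p) V} (hρ : Function.Injective ρ)
    (hp3 : 3 ≤ p) (hV : Nat.card V ≤ p ^ 3) {M : Subgroup H} (D : SEData p M) (R : Sylow p H)
    (hRM : (R : Subgroup H) ≤ M) (hR1 : (R : Subgroup H) ≠ ⊥) : Nat.card (R : Subgroup H) = p := by
  obtain ⟨n, hn⟩ : ∃ n, Nat.card V = p ^ n := ⟨Module.finrank (ZMod p) V, by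
    rw [Module.natCard_eq_pow_finrank (K := ZMod p), Nat.card_zmod]⟩
  rw [hn] at hV
  have hn3 := (Nat.pow_le_pow_iff_right hp.out.one_lt).1 hV
  -- pad with fixed vectors
  let e : H →* Module.End (ZMod p) (V × (Fin (3 - n) → ZMod p)) :=
    { toFun := fun h => (ρ h).prodMap LinearMap.id
      map_one' := LinearMap.ext fun v => by simp [map_one]
      map_mul' := fun a b => LinearMap.ext fun v => by simp [map_mul] }
  have he : Function.Injective e := fun a b h => hρ (LinearMap.ext fun v =>
    congrArg Prod.fst (LinearMap.congr_fun h (v, 0)))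
  have hW : Nat.card (V × (Fin (3 - n) → ZMod p)) = p ^ 3 := by
    rw [Nat.card_prod, hn, Nat.card_fun, Nat.card_zmod, Nat.card_fin, ← pow_add]
    congr 1
    omega
  have hcyc : ∃ z ∈ (R : Subgroup H), z ^ p = 1 ∧ (R : Subgroup H) ≤ zpowers z := by
    by_cases htv : ∃ x ∈ (R : Subgroup H), ∃ φ c, IsTv e x φ c
    · obtain ⟨x, hx, φ, c, htv⟩ := htv
      obtain ⟨g', s, φ', ψ', c', d, l, hPair⟩ := TransvectionThree.exists_pair D he hW htv (hRM hx)
      exact ⟨x, hx, htv.pow_prime he, hPair.pGroup_le D he R.2 hx⟩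
    · push Not at htv
      have hreg : ∀ x ∈ (R : Subgroup H), x ≠ 1 → ∃ v, disp e x (disp e x v) ≠ 0 := by
        intro x hx hx1
        by_contra hno
        push Not at hno
        obtain ⟨φ, c, h⟩ := isTv_of_disp_sq hW (fun h => hx1 (he (by rw [h, map_one]))) hno
        exact htv x hx φ c h
      obtain ⟨z, hz, hz1⟩ := (Subgroup.bot_or_exists_ne_one _).resolve_left hR1
      obtain ⟨k, hk⟩ := R.2 ⟨z, hz⟩
      have hgen := le_zpowers_of_regular hp3 he hW R.2 hreg hz hz1
      refine ⟨z, hz, ?_, hgen⟩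
      by_contra hne
      obtain ⟨i, hi⟩ := le_zpowers_of_regular hp3 he hW R.2 hreg (pow_mem hz p) hne hz
      change (z ^ p) ^ i = z at hi
      have h1 : z ^ ((p : ℤ) * i - 1) = 1 := by
        rw [zpow_sub, zpow_one, zpow_mul, zpow_natCast, hi, mul_inv_cancel]
      obtain ⟨j, -, hj⟩ := (Nat.dvd_prime_pow hp.out).1
        (orderOf_dvd_of_pow_eq_one (show z ^ p ^ k = 1 from congrArg Subtype.val hk))
      have h2 : (p : ℤ) ∣ (p : ℤ) * i - 1 := by
        refine dvd_trans ?_ (orderOf_dvd_iff_zpow_eq_one.2 h1)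
        rw [hj]
        exact Int.natCast_dvd_natCast.2 (dvd_pow_self p (fun e' => hz1 (orderOf_eq_one_iff.1 (by
          rw [hj, e', pow_zero]))))
      have h3 : (p : ℤ) ∣ 1 := by simpa using dvd_sub (dvd_mul_right (p : ℤ) i) h2
      exact hp.out.ne_one (by exact_mod_cast Int.eq_one_of_dvd_one (by positivity) h3)
  obtain ⟨z, hz, hzp, hgen⟩ := hcyc
  obtain ⟨k, hk⟩ := IsPGroup.iff_card.1 R.2
  refine le_antisymm ((Subgroup.card_le_of_le hgen).trans ?_) ?_
  · rw [Nat.card_zpowers]; exact orderOf_le_of_pow_eq_one hp.out.pos hzp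
  · rw [hk]; exact Nat.le_self_pow (fun e' => hR1 (Subgroup.card_eq_one.1 (by rw [hk, e', pow_zero]))) p

variable {Ω : Type u} [Group Ω] {S : Subgroup Ω} {F : FusionSystem S}

theorem index_eq_of_normal_essential [Finite S] (hp3 : 3 ≤ p) (hS : IsPGroup p S)
    (hrS : RankThreeLE p S) (hF : F.IsSaturated p) {E : Subgroup Ω} (hE : F.IsEssential p E)
    (hnor : S ≤ Subgroup.normalizer (E : Set Ω)) : (E.subgroupOf S).index = p := by
  classical
  have hES := hE.1.1
  haveI := finite_of_le hES
  haveI hMA : Finite (MulAut E) :=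
    Finite.of_injective (fun f : MulAut E => (f : E → E)) DFunLike.coe_injective
  have hlt := EssentialGen.lt_of_essential hS hF hE
  obtain ⟨hEc, hEn, hIn, E₀, hE₀⟩ := id hE
  haveI := hIn
  obtain ⟨-, hfa, -⟩ := fullyNormalized_props hS hF hEn
  set A := F.autGroup E with hAdef
  set I := (Inn E).subgroupOf A with hIdef
  set π := QuotientGroup.mk' I with hπ
  have hπs : Function.Surjective π := QuotientGroup.mk'_surjective _
  obtain ⟨R, hR⟩ : ∃ R : Sylow p A, (R : Subgroup A) = (autInducedBy S E).subgroupOf A := hfa.2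
  set R' : Sylow p (A ⧸ I) := R.mapSurjective hπs with hR'def
  obtain ⟨M, D, hRM⟩ := exists_sedata E₀ hE₀ R'
  have hcore := normal_pGroup_eq_bot D R' hRM
  set E' := E.subgroupOf S with hE'def
  have hE'p : IsPGroup p E' := hS.to_subgroup E'
  haveI hE'n : E'.Normal := ⟨fun x hx n => mem_subgroupOf.2 (by
    simpa using conj_mem_of_mem_normalizer (hnor n.2) (mem_subgroupOf.1 hx))⟩
  haveI hQc : IsMulCommutative (E' ⧸ frattini E') :=
    Cfsg.Lib.PGroups.isMulCommutative_quotient_frattini hE'p
  letI : CommGroup (E' ⧸ frattini E') :=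
    { (inferInstance : Group (E' ⧸ frattini E')) with mul_comm := mul_comm' }
  letI : Module (ZMod p) (Additive (E' ⧸ frattini E')) :=
    AddCommGroup.zmodModule (n := p) fun x =>
      congrArg Additive.ofMul (Cfsg.Lib.PGroups.pow_prime_quotient_frattini hE'p (Additive.toMul x))
  let act : MulAut (E' ⧸ frattini E') → Module.End (ZMod p) (Additive (E' ⧸ frattini E')) := fun α =>
    { toFun := fun v => Additive.ofMul (α (Additive.toMul v))
      map_add' := fun v w => congrArg Additive.ofMul (map_mul α (Additive.toMul v) (Additive.toMul w))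
      map_smul' := fun c v => ZMod.map_smul
        (AddMonoidHom.mk' (fun w : Additive (E' ⧸ frattini E') => Additive.ofMul (α (Additive.toMul w)))
          fun v w => congrArg Additive.ofMul (map_mul α (Additive.toMul v) (Additive.toMul w))) c v }
  let ρA : A →* Module.End (ZMod p) (Additive (E' ⧸ frattini E')) :=
    { toFun := fun α => act (frattiniAct hES α)
      map_one' := LinearMap.ext fun v => by
        show Additive.ofMul (frattiniAct hES ((1 : A) : MulAut E) (Additive.toMul v)) = v
        rw [OneMemClass.coe_one, map_one, MulAut.one_apply, ofMul_toMul]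
      map_mul' := fun a b => LinearMap.ext fun v => by
        show Additive.ofMul (frattiniAct hES ((a * b : A) : MulAut E) (Additive.toMul v)) =
          Additive.ofMul (frattiniAct hES (a : MulAut E)
            (Additive.toMul (Additive.ofMul (frattiniAct hES (b : MulAut E) (Additive.toMul v)))))
        rw [toMul_ofMul, Subgroup.coe_mul, map_mul, MulAut.mul_apply] }
  have hkill : I ≤ ρA.ker := by
    rintro a ⟨q, hq⟩
    rw [MonoidHom.mem_ker]
    refine LinearMap.ext fun v => ?_
    obtain ⟨x, hx⟩ := QuotientGroup.mk_surjective (Additive.toMul v)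
    show Additive.ofMul (frattiniAct hES (a : MulAut E) (Additive.toMul v)) = v
    rw [← hx, show (a : MulAut E) = MulAut.conj q from hq.symm, frattiniAct_apply]
    refine Eq.trans ?_ (congrArg Additive.ofMul hx)
    refine congrArg Additive.ofMul ?_
    show QuotientGroup.mk' (frattini E') _ = QuotientGroup.mk' (frattini E') x
    rw [MulAut.conj_apply, map_mul, map_mul, map_inv, map_mul, map_mul, map_inv, mul_comm' (QuotientGroup.mk' _ _),
      mul_inv_cancel_right, MulEquiv.symm_apply_apply]
  set ρ := QuotientGroup.lift I ρA hkill with hρdef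
  have hρ : Function.Injective ρ := by
    rw [← MonoidHom.ker_eq_bot_iff]
    refine hcore _ inferInstance ?_
    rintro ⟨z, hz⟩
    obtain ⟨a, rfl⟩ := hπs z
    obtain ⟨k, hk⟩ := frattiniAct_ker hES hS (α := (a : MulAut E)) (MulEquiv.ext fun q => by
      have h := LinearMap.congr_fun (show ρA a = 1 from hz) (Additive.ofMul q)
      exact Additive.ofMul.injective h)
    refine ⟨k, Subtype.ext ?_⟩
    rw [SubgroupClass.coe_pow, OneMemClass.coe_one]
    show π a ^ p ^ k = 1
    rw [← map_pow, show a ^ p ^ k = 1 from Subtype.ext hk, map_one]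
  have hV : Nat.card (Additive (E' ⧸ frattini E')) ≤ p ^ 3 := by
    have hKE : (frattini E').map E'.subtype ≤ E' := Subgroup.map_subtype_le _
    have h := hrS E' ((frattini E').map E'.subtype) hKE
      (fun x hx y hy => ⟨⁅⟨x, hx⟩, ⟨y, hy⟩⁆, Cfsg.Lib.PGroups.commutator_le_frattini hE'p
        (commutator_mem_commutator (mem_top _) (mem_top _)), rfl⟩)
      (fun x hx => ⟨⟨x, hx⟩ ^ p, Cfsg.Lib.PGroups.pow_mem_frattini hE'p _, rfl⟩)
    rw [Subgroup.card_map_of_injective E'.subtype_injective,
      Subgroup.card_eq_card_quotient_mul_card_subgroup (frattini E')] at h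
    rw [Nat.card_congr Additive.toMul]
    exact Nat.le_of_mul_le_mul_right h Nat.card_pos
  have hψmem : ∀ n : S, (E.normalizerMonoidHom.comp
      (Subgroup.inclusion (fun x hx => hnor hx : S ≤ Subgroup.normalizer (E : Set Ω)))) n ∈ A :=
    fun n => autInducedBy_le hES (conjAut_mem_autInducedBy (hnor n.2) n.2)
  set ψ : S →* A := (E.normalizerMonoidHom.comp
    (Subgroup.inclusion (fun x hx => hnor hx : S ≤ Subgroup.normalizer (E : Set Ω)))).codRestrict A hψmem
    with hψdef
  have hψ : ∀ (n : S) (x : E), (((ψ n : MulAut E) x : E) : Ω) = n * x * (n : Ω)⁻¹ := fun n x => rfl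
  set θ := π.comp ψ with hθdef
  have hrange : θ.range = (R' : Subgroup (A ⧸ I)) := by
    refine le_antisymm ?_ ?_
    · rintro _ ⟨n, rfl⟩
      rw [hR'def, Sylow.coe_mapSurjective]
      exact ⟨ψ n, by rw [hR]; exact conjAut_mem_autInducedBy (hnor n.2) n.2, rfl⟩
    · intro r hr
      rw [hR'def, Sylow.coe_mapSurjective] at hr
      obtain ⟨a, ha, rfl⟩ := hr
      rw [hR] at ha
      obtain ⟨h, hh, eh⟩ := mem_autInducedBy.1 (mem_subgroupOf.1 ha)
      exact ⟨⟨h, hh⟩, congrArg π (Subtype.ext (MulEquiv.ext fun x => Subtype.ext ((hψ _ x).trans (eh x).symm)))⟩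
  have hker : θ.ker = E' := by
    ext n
    rw [MonoidHom.mem_ker]
    refine ⟨fun hn => ?_, fun hn => ?_⟩
    · have h1 : (ψ n : MulAut E) ∈ Inn E := mem_subgroupOf.1 ((QuotientGroup.eq_one_iff _).1 hn)
      exact mem_subgroupOf.2 (mem_of_inn (hEc.2 E (isConj_refl hES)) n.2 (hnor n.2) h1 hES)
    · exact (QuotientGroup.eq_one_iff _).2 (mem_subgroupOf.2
        ⟨⟨(n : Ω), mem_subgroupOf.1 hn⟩, MulEquiv.ext fun x => Subtype.ext (hψ n x).symm⟩)
  have hidx : E'.index = Nat.card (R' : Subgroup (A ⧸ I)) := by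
    rw [← hker, Subgroup.index_ker, hrange]
  rw [hidx]
  refine sylow_prime_of_sedata hρ hp3 hV D R' hRM fun h => ?_
  rw [h, Subgroup.card_bot, Subgroup.index_eq_one, Subgroup.subgroupOf_eq_top] at hidx
  exact hlt.not_ge hidx

end Cfsg.Lib.Fusion.RankThreePair
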