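import Cfsg.Agent.Fusion.RankThree.Linear

/-!
Linear groups of a plane or a three-dimensional space generated by transvections, with a Sylow
subgroup of order `p` that is not normal.
-/

set_option autoImplicit false
set_option linter.unusedSectionVars false
set_option linter.style.haveILetI false

namespace Cfsg.Lib.Fusion.RankThreePair

open Subgroup Cfsg.Lib.Fusion.TransvectionThree Cfsg.Lib.Fusion.RankThree

variable {p : ℕ} [hp : Fact p.Prime] {V : Type*} [AddCommGroup V] [Module (ZMod p) V]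
  {H : Type*} [Group H] [Finite H] {ρ : H →* Module.End (ZMod p) V}

theorem eq_sylow_of_le {R : Sylow p H} (hR : Nat.card (R : Subgroup H) = p) {T : Subgroup H}
    (hTR : T ≤ Subgroup.normalizer ((R : Subgroup H) : Set H)) (hT : IsPGroup p T) (hT1 : T ≠ ⊥) :
    T = R := by
  have hsup : IsPGroup p (T ⊔ (R : Subgroup H) : Subgroup H) := hT.to_sup_of_normal_right' R.2 hTR
  have hle : T ≤ (R : Subgroup H) :=
    (le_sup_left : T ≤ T ⊔ R).trans (R.3 hsup le_sup_right).le
  refine Subgroup.eq_of_le_of_card_ge hle ?_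
  rw [hR]
  obtain ⟨k, hk⟩ := IsPGroup.iff_card.1 hT
  rw [hk]
  exact Nat.le_self_pow (fun e => hT1 (Subgroup.card_eq_one.1 (by rw [hk, e, pow_zero]))) p

theorem sedata_of_card {R : Sylow p H} (hR : Nat.card (R : Subgroup H) = p)
    (hn : ¬ (R : Subgroup H).Normal) :
    SEData p (Subgroup.normalizer ((R : Subgroup H) : Set H)) where
  ne_top h := hn (Subgroup.normalizer_eq_top_iff.1 h)
  normalizer_le T hT hTp hT1 := by rw [eq_sylow_of_le hR hT hTp hT1]
  disjoint g u hu hgu hup hu1 := by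
    have hz : ∀ v : H, v ^ p = 1 → IsPGroup p (zpowers v) := fun v hv x => by
      obtain ⟨x, k, rfl⟩ := x
      refine ⟨1, Subtype.ext ?_⟩
      show (v ^ k) ^ (p ^ 1) = 1
      rw [pow_one, ← zpow_natCast, ← zpow_mul, mul_comm, zpow_mul, zpow_natCast, hv, one_zpow]
    have h1 := eq_sylow_of_le hR (zpowers_le.2 hu) (hz u hup) fun e => hu1 (zpowers_eq_bot.1 e)
    have h2 := eq_sylow_of_le hR (zpowers_le.2 hgu) (hz _ (by rw [conj_pow, hup, mul_one, mul_inv_cancel]))
      fun e => hu1 (conj_eq_one_iff.1 (zpowers_eq_bot.1 e))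
    refine Subgroup.mem_normalizer_iff_map_conj_eq.mpr ?_
    conv_lhs => rw [← h1]
    rw [MonoidHom.map_zpowers]
    exact h2

/-- What is obtained from a transvection in a Sylow subgroup of order `p` that is not normal. -/
structure Split (ρ : H →* Module.End (ZMod p) V) (R : Subgroup H) (N C : Submodule (ZMod p) V) :
    Prop where
  inv_N : ∀ h, ∀ v ∈ N, ρ h v ∈ N
  inv_C : ∀ h, ∀ v ∈ C, ρ h v ∈ C
  card_N : Nat.card N = p ^ 2
  disj : N ⊓ C = ⊥
  total : N ⊔ C = ⊤
  fixC : ∀ r ∈ R, ∀ v ∈ C, ρ r v = v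
  move : ∀ r ∈ R, ∀ v, ρ r v - v ∈ N
  irr : ∀ U : Submodule (ZMod p) V, U ≤ N → (∀ h, ∀ v ∈ U, ρ h v ∈ U) → U = ⊥ ∨ U = N
  neg : ∃ τ ∈ Subgroup.normalClosure (R : Set H), (∀ v ∈ N, ρ τ v = -v) ∧ ∀ v ∈ C, ρ τ v = v

theorem split_two (hρ : Function.Injective ρ) (hV : Nat.card V = p ^ 2) (R : Sylow p H)
    (hR : Nat.card (R : Subgroup H) = p) (hn : ¬ (R : Subgroup H).Normal) {r : H}
    (hr : r ∈ (R : Subgroup H)) {φ : Module.Dual (ZMod p) V} {c : V} (htv : IsTv ρ r φ c) :
    Split ρ (R : Subgroup H) ⊤ ⊥ := by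
  haveI : Finite V := Nat.finite_of_card_ne_zero (by rw [hV]; exact pow_ne_zero _ hp.out.ne_zero)
  have hz : zpowers r = (R : Subgroup H) := eq_sylow_of_le hR
    ((zpowers_le.2 hr).trans Subgroup.le_normalizer) (R.2.to_le (zpowers_le.2 hr))
    fun e => htv.ne_one (zpowers_eq_bot.1 e)
  obtain ⟨g, hg⟩ : ∃ g, g ∉ Subgroup.normalizer ((R : Subgroup H) : Set H) := by
    by_contra h
    push Not at h
    exact hn (Subgroup.normalizer_eq_top_iff.1 (eq_top_iff.2 fun x _ => h x))
  have htv' := htv.conjTv g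
  have hnc : ¬ Commute (ρ r) (ρ (g * r * g⁻¹)) := fun hc => by
    have hc' : Commute r (g * r * g⁻¹) :=
      hρ (by rw [map_mul ρ r (g * r * g⁻¹), map_mul ρ (g * r * g⁻¹) r]; exact hc.eq)
    have h1 : g * r * g⁻¹ ∈ Subgroup.normalizer ((R : Subgroup H) : Set H) := by
      rw [← hz]
      refine Subgroup.centralizer_le_normalizer _ (mem_centralizer_iff.2 ?_)
      rintro _ ⟨k, rfl⟩
      exact (hc'.zpow_left k).eq
    exact hg ((sedata_of_card hR hn).disjoint g r (Subgroup.le_normalizer hr) h1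
      (htv.pow_prime hρ) htv.ne_one)
  refine ⟨fun _ v _ => Submodule.mem_top, fun h v hv => by rw [(Submodule.mem_bot _).1 hv, map_zero]; exact zero_mem _,
    ?_, inf_bot_eq _, sup_bot_eq _, fun r _ v hv => by rw [(Submodule.mem_bot _).1 hv, map_zero],
    fun _ _ _ => Submodule.mem_top, fun U _ hU => ?_, ?_⟩
  · rw [Nat.card_congr (Submodule.topEquiv (R := ZMod p) (M := V)).toEquiv, hV]
  · by_contra hne
    push Not at hne
    obtain ⟨hU0, hU1⟩ := hne
    obtain ⟨u, hu, hu0⟩ := (Submodule.ne_bot_iff U).1 hU0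
    have hline : ∀ {q : H} {ψ : Module.Dual (ZMod p) V} {d : V}, IsTv ρ q ψ d → d ∈ U := by
      intro q ψ d hq
      by_cases h0 : ψ u = 0
      · obtain ⟨a, ha⟩ := exists_smul_of_kills hV hq h0
        have ha0 : a ≠ 0 := fun e => hu0 (by rw [← ha, e, zero_smul])
        have h2 := U.smul_mem a⁻¹ (ha ▸ hu)
        rwa [smul_smul, inv_mul_cancel₀ ha0, one_smul] at h2
      · have h1 := U.smul_mem (ψ u)⁻¹ (U.sub_mem (hU q u hu) hu)
        rwa [hq.act, add_sub_cancel_left, smul_smul, inv_mul_cancel₀ h0, one_smul] at h1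
    refine hU1 (eq_top_iff.2 fun v _ => ?_)
    have hcd : φ (ρ g c) ≠ 0 := fun h0 => by
      obtain ⟨a, ha⟩ := exists_smul_of_kills hV htv h0
      refine hnc (LinearMap.ext fun w => ?_)
      show ρ r (ρ (g * r * g⁻¹) w) = ρ (g * r * g⁻¹) (ρ r w)
      have hk : φ (ρ g⁻¹ c) = 0 := by
        have ha0 : a ≠ 0 := fun e => htv'.vec (by rw [← ha, e, zero_smul])
        have h1 := htv'.kills
        rw [← ha, map_smul, smul_eq_zero] at h1
        exact h1.resolve_left ha0
      rw [htv'.act, htv.act w, map_add (ρ r), map_smul (ρ r), map_add (ρ (g * r * g⁻¹)),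
        map_smul (ρ (g * r * g⁻¹)), htv.act w, htv.act (ρ g c), htv'.act w, htv'.act c, h0,
        LinearMap.comp_apply, LinearMap.comp_apply, hk]
      simp only [zero_smul, add_zero]
      abel
    have hd : φ (v - (φ v * (φ (ρ g c))⁻¹) • ρ g c) = 0 := by
      rw [map_sub, map_smul, smul_eq_mul, inv_mul_cancel_right₀ hcd, sub_self]
    obtain ⟨a, ha⟩ := exists_smul_of_kills hV htv hd
    rw [eq_sub_iff_add_eq] at ha
    rw [← ha]
    exact U.add_mem (U.smul_mem _ (hline htv)) (U.smul_mem _ (hline htv'))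
  · obtain ⟨w, hw, hwneg⟩ := exists_neg_one hV htv htv' hnc
    refine ⟨w, (closure_le _).2 ?_ hw, fun v _ => hwneg v,
      fun v hv => by rw [(Submodule.mem_bot _).1 hv, map_zero]⟩
    rintro _ (rfl | rfl)
    · exact subset_normalClosure hr
    · exact normalClosure_normal.conj_mem _ (subset_normalClosure hr) g

theorem split_three (hρ : Function.Injective ρ) (hV : Nat.card V = p ^ 3) (R : Sylow p H)
    (hR : Nat.card (R : Subgroup H) = p) (hn : ¬ (R : Subgroup H).Normal) {r : H}
    (hr : r ∈ (R : Subgroup H)) {φ : Module.Dual (ZMod p) V} {c : V} (htv : IsTv ρ r φ c) :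
    ∃ N C, Split ρ (R : Subgroup H) N C := by
  have D := sedata_of_card hR hn
  haveI : Finite V := Nat.finite_of_card_ne_zero (by rw [hV]; exact pow_ne_zero _ hp.out.ne_zero)
  obtain ⟨g, s, φ, ψ, c, d, l, P⟩ := exists_pair D hρ hV htv (Subgroup.le_normalizer hr)
  set t := r
  have htN : t ∈ normalClosure ((R : Subgroup H) : Set H) := subset_normalClosure hr
  -- the second transvection is conjugate to an element of the Sylow subgroup
  have hsN : s ∈ normalClosure ((R : Subgroup H) : Set H) := by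
    have hm := mem_conjM.1 P.mem'
    have hsp : (g⁻¹ * s * g) ^ p = 1 := by
      have := conj_pow (a := g⁻¹) (b := s) (i := p)
      rw [inv_inv] at this
      rw [this, P.sv.pow_prime hρ, mul_one, inv_mul_cancel]
    have hp' : IsPGroup p (zpowers (g⁻¹ * s * g)) := TransvectionThree.isPGroup_zpowers D hsp
    have h1 : zpowers (g⁻¹ * s * g) = (R : Subgroup H) := eq_sylow_of_le hR (zpowers_le.2 hm) hp'
      fun e => P.sv.ne_one (by
        have := zpowers_eq_bot.1 e
        rw [show s = g * (g⁻¹ * s * g) * g⁻¹ by group, this]; group)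
    have h2 := normalClosure_normal.conj_mem _ (subset_normalClosure
      (show g⁻¹ * s * g ∈ ((R : Subgroup H) : Set H) from h1 ▸ mem_zpowers _)) g
    rwa [show g * (g⁻¹ * s * g) * g⁻¹ = s by group] at h2
  have hspanR : ∀ q ∈ (R : Subgroup H), ∃ k : ℕ, q = t ^ k := fun q hq => by
    have h1 : zpowers t = (R : Subgroup H) := eq_sylow_of_le hR
      ((zpowers_le.2 hr).trans Subgroup.le_normalizer) (R.2.to_le (zpowers_le.2 hr))
      fun e => P.tv.ne_one (zpowers_eq_bot.1 e)
    obtain ⟨k, hk⟩ := (isOfFinOrder_of_finite t).mem_powers_iff_mem_zpowers.2 (h1.ge hq)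
    exact ⟨k, hk.symm⟩
  set N : Submodule (ZMod p) V := Submodule.span (ZMod p) {c, d}
  set C : Submodule (ZMod p) V := Submodule.span (ZMod p) {l}
  have hmemN : ∀ x y : ZMod p, x • c + y • d ∈ N := fun x y =>
    Submodule.mem_span_pair.2 ⟨x, y, rfl⟩
  refine ⟨N, C, fun h v hv => ?_, fun h v hv => ?_, ?_, ?_, ?_, fun q hq v hv => ?_, fun q hq v => ?_,
    fun U hUN hU => ?_, ?_⟩
  · obtain ⟨x, y, rfl⟩ := Submodule.mem_span_pair.1 hv
    obtain ⟨⟨a, b, h1⟩, ⟨a', b', h2⟩, -⟩ := P.stabilizes D hρ h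
    rw [map_add, map_smul, map_smul, h1, h2]
    exact N.add_mem (N.smul_mem _ (hmemN _ _)) (N.smul_mem _ (hmemN _ _))
  · obtain ⟨x, rfl⟩ := Submodule.mem_span_singleton.1 hv
    obtain ⟨-, -, z, h3⟩ := P.stabilizes D hρ h
    rw [map_smul, h3]
    exact C.smul_mem _ (C.smul_mem _ (Submodule.mem_span_singleton_self _))
  · let f : ZMod p × ZMod p → N := fun x => ⟨x.1 • c + x.2 • d, hmemN _ _⟩
    have hf : Function.Bijective f := by
      refine ⟨fun x y e => ?_, fun v => ?_⟩
      · have e' : x.1 • c + x.2 • d = y.1 • c + y.2 • d := congrArg Subtype.val e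
        exact Prod.ext (by simpa [P.one', P.sv.kills] using congrArg ψ e')
          (by simpa [P.one, P.tv.kills] using congrArg φ e')
      · obtain ⟨x, y, hxy⟩ := Submodule.mem_span_pair.1 v.2
        exact ⟨(x, y), Subtype.ext hxy⟩
    rw [← Nat.card_congr (Equiv.ofBijective f hf), Nat.card_prod, Nat.card_zmod, sq]
  · rw [eq_bot_iff]
    rintro v ⟨hv1, hv2⟩
    obtain ⟨x, y, rfl⟩ := Submodule.mem_span_pair.1 hv1
    obtain ⟨z, hz⟩ := Submodule.mem_span_singleton.1 hv2
    have h1 := congrArg ψ hz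
    have h2 := congrArg φ hz
    simp [P.one', P.sv.kills, P.l_kills'] at h1
    simp [P.one, P.tv.kills, P.l_kills] at h2
    simp [← h1, ← h2]
  · refine eq_top_iff.2 fun v _ => ?_
    obtain ⟨γ, hγ⟩ := P.span v
    rw [hγ]
    exact Submodule.add_mem_sup (hmemN _ _) (C.smul_mem _ (Submodule.mem_span_singleton_self _))
  · obtain ⟨k, rfl⟩ := hspanR q hq
    obtain ⟨x, rfl⟩ := Submodule.mem_span_singleton.1 hv
    rw [P.tv.pow_act, map_smul φ, P.l_kills, smul_zero, mul_zero, zero_smul, add_zero]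
  · obtain ⟨k, rfl⟩ := hspanR q hq
    rw [P.tv.pow_act, add_sub_cancel_left]
    exact N.smul_mem _ (Submodule.subset_span (by simp))
  · by_contra hne
    push Not at hne
    obtain ⟨hU0, hU1⟩ := hne
    obtain ⟨u, hu, hu0⟩ := (Submodule.ne_bot_iff U).1 hU0
    obtain ⟨x, y, rfl⟩ := Submodule.mem_span_pair.1 (hUN hu)
    have key : ∀ {x y : ZMod p}, x • c + y • d ∈ U → (y ≠ 0 → c ∈ U) ∧ (x ≠ 0 → d ∈ U) := by
      intro x y hm
      constructor
      · intro hy
        have h1 := U.smul_mem y⁻¹ (U.sub_mem (hU t _ hm) hm)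
        rwa [P.tv.act, add_sub_cancel_left, map_add, map_smul, map_smul, P.tv.kills, P.one,
          smul_zero, zero_add, smul_eq_mul, mul_one, smul_smul, inv_mul_cancel₀ hy, one_smul] at h1
      · intro hx
        have h1 := U.smul_mem x⁻¹ (U.sub_mem (hU s _ hm) hm)
        rwa [P.sv.act, add_sub_cancel_left, map_add, map_smul, map_smul, P.sv.kills, P.one',
          smul_zero, add_zero, smul_eq_mul, mul_one, smul_smul, inv_mul_cancel₀ hx, one_smul] at h1
    have hcd : c ∈ U ∧ d ∈ U := by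
      by_cases hy : y = 0
      · have hx : x ≠ 0 := fun e => hu0 (by rw [e, hy]; simp)
        have hd := (key hu).2 hx
        exact ⟨(key (x := 0) (y := 1) (by simpa using hd)).1 one_ne_zero, hd⟩
      · have hc := (key hu).1 hy
        exact ⟨hc, (key (x := 1) (y := 0) (by simpa using hc)).2 one_ne_zero⟩
    refine hU1 (le_antisymm hUN (Submodule.span_le.2 ?_))
    rintro v (rfl | rfl)
    · exact hcd.1
    · exact hcd.2
  · set sm := s ^ ((-1 : ZMod p).val)
    set w := t * sm * t
    have hsm : ∀ v, ρ sm v = v + (-1 * ψ v) • d := fun v => P.s_pow_act (-1) v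
    have hwc : ρ w c = -d := by
      rw [show w = t * sm * t from rfl, mul_apply', mul_apply', P.tv.act c, P.tv.kills, zero_smul,
        add_zero, hsm, P.one', mul_one, P.tv.act, map_add, map_smul, P.tv.kills, P.one]
      simp
    have hwd : ρ w d = c := by
      rw [show w = t * sm * t from rfl, mul_apply', mul_apply', P.tv.act d, P.one, one_smul, hsm,
        map_add ψ, P.sv.kills, P.one']
      simp [P.tv.act, P.tv.kills]
    have hwl : ρ w l = l := by
      rw [show w = t * sm * t from rfl, mul_apply', mul_apply', P.tv.act l, P.l_kills, zero_smul,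
        add_zero, hsm, P.l_kills', mul_zero, zero_smul, add_zero, P.tv.act, P.l_kills, zero_smul,
        add_zero]
    refine ⟨w * w, ?_, fun v hv => ?_, fun v hv => ?_⟩
    · have hw : w ∈ normalClosure ((R : Subgroup H) : Set H) :=
        mul_mem (mul_mem htN (pow_mem hsN _)) htN
      exact mul_mem hw hw
    · obtain ⟨x, y, rfl⟩ := Submodule.mem_span_pair.1 hv
      simp only [mul_apply', map_add, map_smul, hwc, hwd, map_neg]
      module
    · obtain ⟨x, rfl⟩ := Submodule.mem_span_singleton.1 hv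
      rw [mul_apply', map_smul, hwl, map_smul, hwl]

end Cfsg.Lib.Fusion.RankThreePair
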