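import Cfsg.Agent.Fusion.RankThreePair.Basic
import Cfsg.Agent.Fusion.RankThreePair.Linear

/-!
An invariant elementary abelian subgroup on which the `p`-group acts by transvections splits as an
irreducible plane and a central complement, with an element negating the plane.
-/

set_option autoImplicit false
set_option linter.unusedSectionVars false
set_option linter.style.haveILetI false

namespace Cfsg.Lib.Fusion.RankThreePair

open Subgroup Cfsg.Lib.Fusion.RankThree Cfsg.Lib.Fusion.TransvectionThree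
open scoped commutatorElement

universe u

variable {p : ℕ} [hp : Fact p.Prime] {T : Type u} [Group T]

/-- The splitting of an invariant subgroup. -/
structure Plane (M : Mdl p T) (V N C : Subgroup T) : Prop where
  inv_N : M.Inv N
  inv_C : M.Inv C
  N_le : N ≤ V
  C_le : C ≤ V
  card_N : Nat.card N = p ^ 2
  inf_eq : N ⊓ C = ⊥
  sup_eq : N ⊔ C = V
  C_center : C ≤ center T
  comm_le : ∀ t : T, ∀ v ∈ V, ⁅t, v⁆ ∈ N
  irr : ∀ U ≤ N, M.Inv U → U = ⊥ ∨ U = N
  neg : ∃ g ∈ M.L, (∀ t, ∃ t', M.ι t' = g * M.ι t * g⁻¹) ∧ (∀ n ∈ N, M.cj g n = n⁻¹) ∧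
    ∀ c ∈ C, M.cj g c = c

namespace Mdl

variable (M : Mdl p T)

theorem exists_plane [Finite T] (hT : IsPGroup p T) {V : Subgroup T} (hV : M.Inv V)
    (hVE : ∀ v ∈ V, ∀ e ∈ M.E, Commute v e) (hexp : ∀ v ∈ V, v ^ p = 1)
    (hcard : Nat.card V = p ^ 2 ∨ Nat.card V = p ^ 3) {x : T} {c : T} (hcc : c ∈ center T)
    (hline : ∀ v ∈ V, ⁅x, v⁆ ∈ zpowers c) (hne : ∃ v ∈ V, ⁅x, v⁆ ≠ 1)
    (hfix : ¬ M.Inv (V ⊓ center T)) : ∃ N C : Subgroup T, Plane M V N C := by
  classical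
  have hVn : V.Normal := M.inv_normal hV
  obtain ⟨v₀, hv₀, hc₀⟩ := hne
  have hxE : x ∉ M.E := fun h => hc₀ (commutatorElement_eq_one_iff_commute.2 (hVE v₀ hv₀ x h).symm)
  letI : CommGroup V :=
    { (inferInstance : Group V) with
      mul_comm := fun a b => Subtype.ext (hVE a a.2 b (hV.1 b.2)).eq }
  have hexp' : ∀ z : V, z ^ p = 1 := fun z => Subtype.ext (by rw [coe_pow]; exact hexp _ z.2)
  letI : Module (ZMod p) (Additive V) :=
    AddCommGroup.zmodModule (n := p) fun y => congrArg Additive.ofMul (hexp' (Additive.toMul y))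
  let act : M.G → Module.End (ZMod p) (Additive V) := fun g =>
    let f : Additive V →+ Additive V := AddMonoidHom.mk'
      (fun v => Additive.ofMul ⟨M.cj g (Additive.toMul v : V), hV.2 g _ (Additive.toMul v).2⟩)
      fun v w => congrArg Additive.ofMul (Subtype.ext
        (M.cj_mul (hV.1 (Additive.toMul v).2) (hV.1 (Additive.toMul w).2)))
    { toFun := f, map_add' := f.map_add, map_smul' := fun r v => ZMod.map_smul f r v }
  let ρG : M.G →* Module.End (ZMod p) (Additive V) :=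
    { toFun := act
      map_one' := LinearMap.ext fun v => congrArg Additive.ofMul
        (Subtype.ext (M.cj_one_left (hV.1 (Additive.toMul v).2)))
      map_mul' := fun g h => LinearMap.ext fun v => congrArg Additive.ofMul
        (Subtype.ext (M.cj_mul_left (hV.1 (Additive.toMul v).2))) }
  set π := QuotientGroup.mk' ρG.ker
  have hπs : Function.Surjective π := QuotientGroup.mk'_surjective _
  set ρ := QuotientGroup.lift ρG.ker ρG le_rfl
  have hρπ : ∀ g, ρ (π g) = ρG g := fun g => rfl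
  have hρ : Function.Injective ρ := by
    rw [← MonoidHom.ker_eq_bot_iff, eq_bot_iff]
    intro h hh
    obtain ⟨g, rfl⟩ := hπs h
    exact mem_bot.2 ((QuotientGroup.eq_one_iff g).2 (MonoidHom.mem_ker.2 hh))
  let vec : V → Additive V := Additive.ofMul
  have hρv : ∀ g (v : V), ρ (π g) (vec v) = vec ⟨M.cj g v, hV.2 g _ v.2⟩ := fun g v => rfl
  -- the Sylow subgroup
  have hTr : IsPGroup p M.ι.range := fun a => by
    obtain ⟨t, ht⟩ := a.2
    obtain ⟨k, hk⟩ := hT t
    exact ⟨k, Subtype.ext (by rw [SubgroupClass.coe_pow, ← ht, ← map_pow, hk, map_one]; rfl)⟩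
  set R0 : Sylow p M.G := hTr.toSylow M.sylow with hR0
  have hR0c : (R0 : Subgroup M.G) = M.ι.range := rfl
  set R := R0.mapSurjective hπs
  have hRc : (R : Subgroup (M.G ⧸ ρG.ker)) = (π.comp M.ι).range := by
    rw [Sylow.coe_mapSurjective, hR0c, MonoidHom.map_range]
  have hker : (π.comp M.ι).ker = M.E := by
    have hle : M.E ≤ (π.comp M.ι).ker := fun e he => by
      refine (QuotientGroup.eq_one_iff _).2 (MonoidHom.mem_ker.2 (LinearMap.ext fun v => ?_))
      obtain ⟨w, rfl⟩ : ∃ w, vec w = v := ⟨Additive.toMul v, rfl⟩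
      refine congrArg Additive.ofMul (Subtype.ext ?_)
      show M.cj (M.ι e) (w : T) = w
      rw [M.cj_range (hV.1 w.2), (hVE w w.2 e he).symm.eq, mul_inv_cancel_right]
    refine le_antisymm (fun t ht => ?_) hle
    by_contra htE
    have hxk : x ∈ (π.comp M.ι).ker := (M.eq_top_of_lt hle ht htE).ge (mem_top x)
    have h1 := LinearMap.congr_fun (MonoidHom.mem_ker.1 ((QuotientGroup.eq_one_iff _).1 hxk)) (vec ⟨v₀, hv₀⟩)
    have h2 : M.cj (M.ι x) v₀ = v₀ := congrArg (fun y : Additive V => ((Additive.toMul y : V) : T)) h1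
    rw [M.cj_range (hV.1 hv₀)] at h2
    exact hc₀ (by rw [commutatorElement_def, h2, mul_inv_cancel])
  have hRcard : Nat.card (R : Subgroup (M.G ⧸ ρG.ker)) = p := by
    rw [hRc, ← Subgroup.index_ker, hker, M.index_eq]
  have hRn : ¬ (R : Subgroup (M.G ⧸ ρG.ker)).Normal := fun hn => by
    refine hfix ⟨inf_le_left.trans hV.1, fun g v hv => ⟨hV.2 g v hv.1, mem_center_iff.2 fun t => ?_⟩⟩
    have hvE := hV.1 hv.1
    obtain ⟨t', ht'⟩ : π (g⁻¹ * M.ι t * g) ∈ (π.comp M.ι).range := by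
      rw [← hRc]
      have h1 := hn.conj_mem (π (M.ι t)) (by rw [hRc]; exact ⟨t, rfl⟩) (π g⁻¹)
      rw [← map_inv π g⁻¹, inv_inv, ← map_mul, ← map_mul] at h1
      exact h1
    have h2 := congrArg (fun h => ρ h (vec ⟨v, hv.1⟩)) ht'
    simp only [MonoidHom.comp_apply, hρv] at h2
    have h3 : M.cj (M.ι t') v = M.cj (g⁻¹ * M.ι t * g) v := congrArg (fun y : Additive V => ((Additive.toMul y : V) : T)) h2
    rw [M.cj_range hvE, (mem_center_iff.1 hv.2 t'), mul_inv_cancel_right] at h3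
    have h4 := congrArg (M.cj g) h3
    rw [← M.cj_mul_left hvE, show g * (g⁻¹ * M.ι t * g) = M.ι t * g by group, M.cj_mul_left hvE,
      M.cj_range (M.cj_mem hvE), eq_mul_inv_iff_mul_eq] at h4
    exact h4.symm
  have hxR : π (M.ι x) ∈ (R : Subgroup (M.G ⧸ ρG.ker)) := by rw [hRc]; exact ⟨x, rfl⟩
  -- the transvection
  have htv : ∃ φ d, IsTv ρ (π (M.ι x)) φ d := by
    have hcV : ⁅x, v₀⁆ ∈ V := V.mul_mem (hVn.conj_mem _ hv₀ x) (inv_mem hv₀)
    set d : Additive V := vec ⟨⁅x, v₀⁆, hcV⟩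
    have hd : d ≠ 0 := fun h => hc₀ (congrArg Subtype.val (Additive.ofMul.injective h))
    obtain ⟨f, hf, -⟩ := Submodule.exists_dual_map_eq_bot_of_notMem
      (p := (⊥ : Submodule (ZMod p) (Additive V))) (x := d) (by simpa using hd) inferInstance
    set D : Module.End (ZMod p) (Additive V) := ρ (π (M.ι x)) - 1
    have hDv : ∀ v : V, D (vec v) =
        vec ⟨⁅x, (v : T)⁆, V.mul_mem (hVn.conj_mem _ v.2 x) (inv_mem v.2)⟩ := fun v => by
      show ρ (π (M.ι x)) (vec v) - vec v = _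
      rw [hρv, sub_eq_add_neg]
      refine congrArg Additive.ofMul (Subtype.ext ?_)
      show M.cj (M.ι x) (v : T) * (v : T)⁻¹ = _
      rw [M.cj_range (hV.1 v.2)]
      rfl
    have hDline : ∀ w, ∃ a : ZMod p, D w = a • d := fun w => by
      obtain ⟨v, rfl⟩ : ∃ v, vec v = w := ⟨Additive.toMul w, rfl⟩
      obtain ⟨j, hj⟩ := hline v₀ hv₀
      obtain ⟨a, ha⟩ : ∃ a : ℤ, ⁅x, v₀⁆ ^ a = ⁅x, (v : T)⁆ := by
        have h1 : zpowers ⁅x, v₀⁆ ≤ V ⊓ zpowers c := zpowers_le.2 ⟨hcV, hline v₀ hv₀⟩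
        have h2 : Nat.card (V ⊓ zpowers c : Subgroup T) ≤ p := by
          have hcyc : IsCyclic (V ⊓ zpowers c : Subgroup T) :=
            Subgroup.isCyclic_of_le (inf_le_right : V ⊓ zpowers c ≤ zpowers c)
          obtain ⟨y, hy⟩ := hcyc.exists_generator
          rw [← orderOf_eq_card_of_forall_mem_zpowers hy]
          exact orderOf_le_of_pow_eq_one hp.out.pos (Subtype.ext (hexp _ y.2.1))
        have h3 : zpowers ⁅x, v₀⁆ = V ⊓ zpowers c := Subgroup.eq_of_le_of_card_ge h1 (h2.trans (le_of_eq (by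
          rw [Nat.card_zpowers, orderOf_eq_prime (hexp _ hcV) hc₀])))
        exact h3.ge ⟨V.mul_mem (hVn.conj_mem _ v.2 x) (inv_mem v.2), hline v v.2⟩
      refine ⟨(a : ZMod p), ?_⟩
      rw [hDv, Int.cast_smul_eq_zsmul]
      exact congrArg Additive.ofMul (Subtype.ext ha.symm)
    have hDd : D d = 0 := by
      rw [hDv ⟨⁅x, v₀⁆, hcV⟩]
      refine congrArg Additive.ofMul (Subtype.ext ?_)
      obtain ⟨j, hj⟩ := hline v₀ hv₀
      show ⁅x, ⁅x, v₀⁆⁆ = 1
      rw [commutatorElement_eq_one_iff_mul_comm, ← hj]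
      exact mem_center_iff.1 (zpow_mem hcc j) x
    set g' := (f d)⁻¹ • f
    have hg' : g' d = 1 := by simp [g', hf]
    have hact : ∀ w, D w = g' (D w) • d := fun w => by
      obtain ⟨a, ha⟩ := hDline w
      rw [ha, map_smul, hg', smul_eq_mul, mul_one]
    refine ⟨g'.comp D, d, ⟨fun h => ?_, hd, ?_, fun w => ?_⟩⟩
    · have h1 := LinearMap.congr_fun h (vec ⟨v₀, hv₀⟩)
      rw [LinearMap.comp_apply, hDv, LinearMap.zero_apply] at h1
      exact one_ne_zero (hg'.symm.trans h1)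
    · show g' (D d) = 0
      rw [hDd, map_zero]
    · show ρ (π (M.ι x)) w = w + g' (D w) • d
      rw [← hact]
      show _ = w + (ρ (π (M.ι x)) w - w)
      abel
  obtain ⟨φ, d, htv⟩ := htv
  have hVc : Nat.card (Additive V) = Nat.card V := Nat.card_congr Additive.toMul
  obtain ⟨Ns, Cs, hs⟩ : ∃ Ns Cs, Split ρ (R : Subgroup (M.G ⧸ ρG.ker)) Ns Cs := by
    rcases hcard with h | h
    · exact ⟨⊤, ⊥, split_two hρ (hVc.trans h) R hRcard hRn hxR htv⟩
    · exact split_three hρ (hVc.trans h) R hRcard hRn hxR htv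
  let sub : Submodule (ZMod p) (Additive V) → Subgroup T := fun U =>
    (AddSubgroup.toSubgroup' U.toAddSubgroup : Subgroup V).map V.subtype
  have hsub : ∀ (U : Submodule (ZMod p) (Additive V)) (v : T), v ∈ sub U ↔ ∃ hv : v ∈ V, vec ⟨v, hv⟩ ∈ U := by
    intro U v
    constructor
    · rintro ⟨w, hw, rfl⟩
      exact ⟨w.2, hw⟩
    · rintro ⟨hv, h⟩
      exact ⟨⟨v, hv⟩, h, rfl⟩
  have hsubV : ∀ U, sub U ≤ V := fun U v hv => ((hsub U v).1 hv).1
  have hinv : ∀ U : Submodule (ZMod p) (Additive V), (∀ h, ∀ w ∈ U, ρ h w ∈ U) → M.Inv (sub U) :=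
    fun U hU => ⟨(hsubV U).trans hV.1, fun g v hv => by
      obtain ⟨hv', h⟩ := (hsub U v).1 hv
      exact (hsub U _).2 ⟨hV.2 g v hv', hU (π g) _ h⟩⟩
  refine ⟨sub Ns, sub Cs, hinv _ hs.inv_N, hinv _ hs.inv_C, hsubV _, hsubV _, ?_, ?_, ?_,
    fun v hv => mem_center_iff.2 fun t => ?_, fun t v hv => ?_, fun U hU hUi => ?_, ?_⟩
  · rw [← hs.card_N]
    show Nat.card ↥(Subgroup.map V.subtype (AddSubgroup.toSubgroup' Ns.toAddSubgroup : Subgroup V)) = _
    rw [Subgroup.card_map_of_injective V.subtype_injective]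
    exact Nat.card_congr ⟨fun a => ⟨Additive.ofMul a.1, a.2⟩, fun a => ⟨Additive.toMul a.1, a.2⟩,
      fun _ => rfl, fun _ => rfl⟩
  · rw [eq_bot_iff]
    rintro v ⟨h1, h2⟩
    obtain ⟨hv, h1⟩ := (hsub _ v).1 h1
    obtain ⟨_, h2⟩ := (hsub _ v).1 h2
    have h3 : vec ⟨v, hv⟩ ∈ Ns ⊓ Cs := ⟨h1, h2⟩
    rw [hs.disj, Submodule.mem_bot] at h3
    exact mem_bot.2 (congrArg Subtype.val (Additive.ofMul.injective h3))
  · refine le_antisymm (sup_le (hsubV _) (hsubV _)) fun v hv => ?_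
    obtain ⟨a, ha, b, hb, e⟩ := Submodule.mem_sup.1 (hs.total.ge (Submodule.mem_top (x := vec ⟨v, hv⟩)))
    have e' : ((Additive.toMul a : V) : T) * ((Additive.toMul b : V) : T) = v :=
      congrArg (fun y : Additive V => ((Additive.toMul y : V) : T)) e
    rw [← e']
    exact Subgroup.mul_mem_sup ((hsub _ _).2 ⟨(Additive.toMul a).2, ha⟩)
      ((hsub _ _).2 ⟨(Additive.toMul b).2, hb⟩)
  · obtain ⟨hv', h⟩ := (hsub _ v).1 hv
    have h1 := hs.fixC (π (M.ι t)) (by rw [hRc]; exact ⟨t, rfl⟩) _ h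
    have h2 : M.cj (M.ι t) v = v := congrArg (fun y : Additive V => ((Additive.toMul y : V) : T)) h1
    rw [M.cj_range (hV.1 hv')] at h2
    rwa [mul_inv_eq_iff_eq_mul] at h2
  · have h1 := hs.move (π (M.ι t)) (by rw [hRc]; exact ⟨t, rfl⟩) (vec ⟨v, hv⟩)
    refine (hsub _ _).2 ⟨V.mul_mem (hVn.conj_mem _ hv t) (inv_mem hv), ?_⟩
    rw [hρv, sub_eq_add_neg] at h1
    convert h1 using 1
    refine congrArg Additive.ofMul (Subtype.ext ?_)
    show ⁅t, v⁆ = M.cj (M.ι t) v * v⁻¹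
    rw [M.cj_range (hV.1 hv)]
    rfl
  · let Us : Submodule (ZMod p) (Additive V) :=
      AddSubgroup.toZModSubmodule p (Subgroup.toAddSubgroup (U.subgroupOf V))
    have hUs : ∀ v : V, vec v ∈ Us ↔ (v : T) ∈ U := fun v => Iff.rfl
    rcases hs.irr Us (fun w hw => ((hsub _ _).1 (hU hw)).2) (fun h w hw => by
      obtain ⟨g, rfl⟩ := hπs h
      exact hUi.2 g _ hw) with h | h
    · refine Or.inl (eq_bot_iff.2 fun v hv => ?_)
      have h1 : vec ⟨v, hsubV _ (hU hv)⟩ ∈ Us := hv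
      rw [h, Submodule.mem_bot] at h1
      exact mem_bot.2 (congrArg Subtype.val (Additive.ofMul.injective h1))
    · refine Or.inr (le_antisymm hU fun v hv => ?_)
      obtain ⟨hv', hv''⟩ := (hsub _ v).1 hv
      exact (hUs ⟨v, hv'⟩).1 (h ▸ hv'')
  · obtain ⟨τ, hτ, hτN, hτC⟩ := hs.neg
    have hτcomm : ∀ h, Commute τ h := fun h => hρ (by
      rw [map_mul, map_mul]
      refine LinearMap.ext fun w => ?_
      show ρ τ (ρ h w) = ρ h (ρ τ w)
      obtain ⟨a, ha, b, hb, rfl⟩ := Submodule.mem_sup.1 (hs.total.ge (Submodule.mem_top (x := w)))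
      rw [map_add, map_add, map_add, hτN _ (hs.inv_N h a ha), hτC _ (hs.inv_C h b hb), hτN a ha,
        hτC b hb, map_add, map_neg])
    rw [hRc, ← MonoidHom.map_range] at hτ
    rw [Subgroup.coe_map, ← Subgroup.map_normalClosure _ π hπs] at hτ
    obtain ⟨l, hl, rfl⟩ := hτ
    haveI hLn : M.L.Normal := normalClosure_normal
    set K := π.ker ⊓ M.L
    haveI : K.Normal := Subgroup.normal_inf_normal π.ker M.L
    set W := K ⊔ M.ι.range
    have hlW : (l • R0 : Sylow p M.G) ≤ W := by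
      intro y hy
      rw [Sylow.smul_def, Sylow.pointwise_smul_def, Subgroup.mem_smul_pointwise_iff_exists] at hy
      obtain ⟨r, hr, rfl⟩ := hy
      show l * r * l⁻¹ ∈ W
      have h1 : ⁅l, r⁆ ∈ K := ⟨by
        show ⁅l, r⁆ ∈ π.ker
        rw [MonoidHom.mem_ker, map_commutatorElement, commutatorElement_eq_one_iff_commute]
        exact hτcomm (π r), M.L.mul_mem (M.L.mul_mem (M.L.mul_mem hl (subset_normalClosure hr))
          (inv_mem hl)) (inv_mem (subset_normalClosure hr))⟩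
      have h2 : ⁅l, r⁆ * r ∈ W := mul_mem (mem_sup_left h1) (mem_sup_right hr)
      rwa [show ⁅l, r⁆ * r = l * r * l⁻¹ by rw [commutatorElement_def]; group] at h2
    have hRW : (R0 : Subgroup M.G) ≤ W := (hR0c.le).trans le_sup_right
    obtain ⟨w, hw⟩ := MulAction.exists_smul_eq W (R0.subtype hRW) ((l • R0).subtype hlW)
    obtain ⟨k, hk, r, hr, hkr⟩ := mem_sup_of_normal_left.1 w.2
    have hmem : ∀ t, l * M.ι t * l⁻¹ ∈ ((l • R0 : Sylow p M.G) : Subgroup M.G) := fun t => by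
      rw [Sylow.smul_def, Sylow.pointwise_smul_def, Subgroup.mem_smul_pointwise_iff_exists]
      exact ⟨M.ι t, ⟨t, rfl⟩, rfl⟩
    refine ⟨k⁻¹ * l, mul_mem (inv_mem hk.2) hl, fun t => ?_, fun n hn => ?_, fun c' hc' => ?_⟩
    · have h1 : (⟨l * M.ι t * l⁻¹, hlW (hmem t)⟩ : W) ∈ ((l • R0).subtype hlW : Subgroup W) := by
        rw [Sylow.coe_subtype, mem_subgroupOf]
        exact hmem t
      rw [← hw, Sylow.coe_subgroup_smul, Subgroup.mem_smul_pointwise_iff_exists] at h1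
      obtain ⟨y, hy, hye⟩ := h1
      rw [Sylow.coe_subtype, mem_subgroupOf, hR0c] at hy
      have h2 : (w : M.G) * (y : M.G) * (w : M.G)⁻¹ = l * M.ι t * l⁻¹ := congrArg Subtype.val hye
      obtain ⟨t', ht'⟩ := (M.ι.range.mul_mem (M.ι.range.mul_mem hr hy) (inv_mem hr) :
        r * (y : M.G) * r⁻¹ ∈ M.ι.range)
      refine ⟨t', ?_⟩
      rw [ht', show k⁻¹ * l * M.ι t * (k⁻¹ * l)⁻¹ = k⁻¹ * (l * M.ι t * l⁻¹) * k by group, ← h2,
        ← hkr]
      group
    · obtain ⟨hn', h⟩ := (hsub _ n).1 hn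
      have h1 : ρ (π (k⁻¹ * l)) (vec ⟨n, hn'⟩) = -vec ⟨n, hn'⟩ := by
        rw [map_mul π, map_inv π, show π k = 1 from hk.1, inv_one, one_mul]
        exact hτN _ h
      exact congrArg (fun y : Additive V => ((Additive.toMul y : V) : T)) h1
    · obtain ⟨hc'', h⟩ := (hsub _ c').1 hc'
      have h1 : ρ (π (k⁻¹ * l)) (vec ⟨c', hc''⟩) = vec ⟨c', hc''⟩ := by
        rw [map_mul π, map_inv π, show π k = 1 from hk.1, inv_one, one_mul]
        exact hτC _ h
      exact congrArg (fun y : Additive V => ((Additive.toMul y : V) : T)) h1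

end Mdl

end Cfsg.Lib.Fusion.RankThreePair
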