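import Cfsg.Agent.Fusion.RankThreePair.System
import Cfsg.Agent.Fusion.RankThreePair.Plane

/-!
Two models such that the closure of the centre in one is not contained in the other subgroup.
-/

set_option autoImplicit false
set_option linter.unusedSectionVars false
set_option linter.style.haveILetI false

namespace Cfsg.Lib.Fusion.RankThreePair

open Subgroup Cfsg.Lib.Fusion.RankThree
open scoped commutatorElement

universe u v

variable {p : ℕ} [hp : Fact p.Prime] {T : Type u} [Group T] [Finite T]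

theorem commutator_zero_le {M : Mdl p T} {X : Subgroup T} (hX : M.Inv X) (t : T) {x : T} (hx : x ∈ X) :
    ⁅t, x⁆ ∈ X := by
  rw [commutatorElement_def]
  exact mul_mem ((M.inv_normal hX).conj_mem x hx t) (inv_mem hx)

theorem commutator_right_le {M : Mdl p T} {X : Subgroup T} (hX : M.Inv X) {x : T} (hx : x ∈ X) (t : T) :
    ⁅x, t⁆ ∈ X := by
  rw [← commutatorElement_inv]
  exact inv_mem (commutator_zero_le hX t hx)

theorem exists_not_mem_E {M1 M2 : Mdl p T} (hne : M1.E ≠ M2.E) : ∃ x ∈ M1.E, x ∉ M2.E := by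
  by_contra h
  push Not at h
  refine hne (Subgroup.eq_of_le_of_card_ge h ?_)
  have h1 := M1.E.card_mul_index
  have h2 := M2.E.card_mul_index
  rw [M1.index_eq] at h1
  rw [M2.index_eq, ← h1] at h2
  exact (Nat.eq_of_mul_eq_mul_right hp.out.pos h2).le

theorem inv_le_centre_card_le (M : Mdl p T) {V : Subgroup T} (hV : M.Inv V)
    (hab : ∀ a ∈ V, ∀ b ∈ V, Commute a b) (hfix : ∀ v ∈ V, ∀ x, x ∉ M.E → Commute x v → v ∈ zOmega p T)
    {x : T} (hx : x ∉ M.E) (hcen : ∀ v ∈ V, ⁅x, v⁆ ∈ zOmega p T) :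
    Nat.card V ≤ Nat.card (zOmega p T) * Nat.card (zOmega p T) := by
  let f : V →* T :=
    { toFun := fun v => ⁅x, (v : T)⁆
      map_one' := by simp
      map_mul' := fun a b => by
        rw [Subgroup.coe_mul, Cfsg.Lib.PGroups.mul_right_commutator,
          mem_center_iff.1 (hcen b b.2).1 a, mul_inv_cancel_right] }
  have hr : Nat.card f.range ≤ Nat.card (zOmega p T) :=
    Subgroup.card_le_of_le (by rintro _ ⟨v, rfl⟩; exact hcen v v.2)
  have hk : Nat.card f.ker ≤ Nat.card (zOmega p T) := by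
    refine Nat.card_le_card_of_injective (fun v => (⟨(v : V), hfix _ (v : V).2 x hx
      (commutatorElement_eq_one_iff_commute.1 v.2)⟩ : zOmega p T)) fun a b e => ?_
    exact Subtype.ext (Subtype.ext (congrArg (fun y : zOmega p T => (y : T)) e))
  have h := f.ker.card_mul_index
  rw [Subgroup.index_ker] at h
  rw [← h]
  exact Nat.mul_le_mul hk hr

theorem one_lt_card_zOmega (hT : IsPGroup p T) (M : Mdl p T) : p ≤ Nat.card (zOmega p T) := by
  obtain ⟨x, hx⟩ := M.exists_not_mem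
  obtain ⟨z, -, hz, hz1⟩ := exists_mem_zOmega hT (N := ⊤) fun h => hx (by
    have : x = 1 := mem_bot.1 (h ▸ mem_top x)
    rw [this]; exact one_mem _)
  exact (card_zpowers_eq hz.2 hz1).ge.trans (Subgroup.card_le_of_le (zpowers_le.2 hz))

/-- Case A with a regular action: the shape of the Sylow subgroup of `Sp₄(p)`. -/
theorem pairA_regular (hT : IsPGroup p T) (hp2 : p ≠ 2) (hr : RankThreeLE p T) {M1 M2 : Mdl p T}
    (hne : M1.E ≠ M2.E) {a : T} (ha : a ∈ M1.V) (haE : a ∉ M2.E)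
    (hA : ∃ v ∈ M1.V ⊓ M2.E, v ∉ zOmega p T) : Shape p T ∧ IsPearlShape p M2.E := by
  obtain ⟨v₀, hv₀, hv₀Z⟩ := hA
  set Z := zOmega p T
  set A := M1.V ⊓ M2.E
  have hV1n := M1.inv_normal M1.inv_V
  have haE1 := M1.inv_V.1 ha
  have hZp := one_lt_card_zOmega hT M1
  have hZA : Z < A := lt_of_le_of_ne (le_inf M1.zOmega_le_V M2.zOmega_le) fun e => hv₀Z (e.ge hv₀)
  have hAV : A < M1.V := lt_of_le_of_ne inf_le_left fun e => haE (e.ge ha).2
  have h1 := card_mul_le hT hZA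
  have h2 := card_mul_le hT hAV
  have hV3 := M1.V_card hr
  have hZc : Nat.card Z = p := by
    refine le_antisymm ?_ hZp
    have h3 : p * (p * Nat.card Z) ≤ p ^ 3 := (Nat.mul_le_mul_left p h1).trans (h2.trans hV3)
    rw [show p ^ 3 = p * (p * p) by ring] at h3
    exact Nat.le_of_mul_le_mul_left (Nat.le_of_mul_le_mul_left h3 hp.out.pos) hp.out.pos
  have hAc : Nat.card A = p ^ 2 := by
    refine le_antisymm ?_ (by rw [sq]; exact (hZc ▸ h1))
    have h3 := h2.trans hV3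
    rw [show p ^ 3 = p * p ^ 2 by ring] at h3
    exact Nat.le_of_mul_le_mul_left h3 hp.out.pos
  have hVc : Nat.card M1.V = p ^ 3 := le_antisymm hV3 (by rw [hAc, ← pow_succ'] at h2; exact h2)
  have hnot : ∀ x, x ∉ M1.E → ¬ ∀ v ∈ M1.V, ⁅x, v⁆ ∈ Z := fun x hx h => by
    have h3 := inv_le_centre_card_le M1 M1.inv_V M1.V_comm (fun v hv x hx hc => M1.V_fixed_le hx hv hc) hx h
    rw [hVc, hZc, ← sq] at h3
    exact absurd ((Nat.pow_le_pow_iff_right hp.out.one_lt).1 h3) (by norm_num)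
  -- the second closure is central
  have hV2 : M2.V = Z := by
    by_contra hV2
    obtain ⟨b, hb, hbE⟩ : ∃ b ∈ M2.V, b ∉ M1.E := by
      by_contra h
      push Not at h
      refine hV2 (le_antisymm (fun v hv => M2.V_fixed_le haE hv ?_) M2.zOmega_le_V)
      exact (M1.V_spec a ha).1 v (h v hv)
    refine hnot b hbE fun v hv => M1.V_fixed_le hbE (commutator_zero_le M1.inv_V b hv) ?_
    exact M2.V_comm b hb _ (commutator_right_le M2.inv_V hb v)
  -- the first subgroup is elementary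
  have hE1phi : phi p M1.E ≤ phi p (M1.E ⊓ M2.E) := by
    have hdec : ∀ e ∈ M1.E, ∃ i : ℤ, ∃ h ∈ M1.E ⊓ M2.E, e = a ^ i * h := fun e he => by
      obtain ⟨i, h, hh, rfl⟩ := exists_decomp M2 haE e
      exact ⟨i, h, ⟨(Subgroup.mul_mem_cancel_left _ (zpow_mem haE1 i)).1 he, hh⟩, rfl⟩
    have hca : ∀ (i : ℤ), ∀ e ∈ M1.E, Commute (a ^ i) e := fun i e he => ((M1.V_spec a ha).1 e he).zpow_left i
    refine sup_le ((Subgroup.commutator_le.2 fun x hx y hy => ?_).trans le_sup_left)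
      ((pw_le_iff.2 fun x hx => ?_).trans le_sup_right)
    · obtain ⟨i, h, hh, rfl⟩ := hdec x hx
      obtain ⟨j, k, hk, rfl⟩ := hdec y hy
      have e : ⁅a ^ i * h, a ^ j * k⁆ = ⁅h, k⁆ := by
        have c1 := hca i (a ^ j * k) hy
        have c2 := hca j h hh.1
        rw [Cfsg.Lib.PGroups.mul_left_commutator, commutatorElement_eq_one_iff_commute.2 c1, mul_one,
          (hca i _ (M1.commutator_mem_E h (a ^ j * k))).eq, mul_inv_cancel_right,
          Cfsg.Lib.PGroups.mul_right_commutator, commutatorElement_eq_one_iff_commute.2 c2.symm, one_mul,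
          (hca j _ (M1.commutator_mem_E h k)).eq, mul_inv_cancel_right]
      rw [e]
      exact commutator_mem_commutator hh hk
    · obtain ⟨i, h, hh, rfl⟩ := hdec x hx
      rw [(hca i h hh.1).mul_pow, ← zpow_natCast, ← zpow_mul, mul_comm, zpow_mul, zpow_natCast,
        M1.V_pow a ha, one_zpow, one_mul]
      exact pow_mem_pw hh
  have hU : M1.V ⊓ phi p M1.E = ⊥ := by
    by_contra hne'
    have hUi := M1.inv_inf M1.inv_V (M1.inv_phi M1.inv_E)
    haveI := M1.inv_normal hUi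
    obtain ⟨z, hz, hzZ, hz1⟩ := exists_mem_zOmega hT hne'
    have hle : Z ≤ M1.V ⊓ phi p M1.E := by
      have h3 : zpowers z = Z := Subgroup.eq_of_le_of_card_ge (zpowers_le.2 hzZ)
        (by rw [card_zpowers_eq hzZ.2 hz1, hZc])
      rw [← h3]
      exact zpowers_le.2 hz
    exact haE (((M1.cl_le hUi hle).trans (inf_le_right.trans (hE1phi.trans
      ((phi_le_self _).trans inf_le_right)))) ha)
  have hphi : phi p M1.E = ⊥ := by
    by_contra hne'
    haveI := M1.E_normal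
    obtain ⟨z, hz, hzZ, hz1⟩ := exists_mem_zOmega hT hne'
    exact hz1 (mem_bot.1 (hU ▸ ⟨M1.zOmega_le_V hzZ, hz⟩))
  have hE1c : ∀ x ∈ M1.E, ∀ y ∈ M1.E, Commute x y := fun x hx y hy =>
    commutatorElement_eq_one_iff_commute.1 (mem_bot.1 (hphi ▸ mem_sup_left (commutator_mem_commutator hx hy)))
  have hE1p : ∀ x ∈ M1.E, x ^ p = 1 := fun x hx =>
    mem_bot.1 (hphi ▸ mem_sup_right (pow_mem_pw hx))
  have hE1 : M1.E = M1.V := (Subgroup.eq_of_le_of_card_ge M1.inv_V.1
    ((elem_card_le hr _ hE1c hE1p).trans hVc.ge)).symm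
  have hTc : Nat.card T = p ^ 4 := by
    rw [← M1.E.card_mul_index, M1.index_eq, hE1, hVc, ← pow_succ]
  have hE2c : Nat.card M2.E = p ^ 3 := Nat.eq_of_mul_eq_mul_right hp.out.pos (by
    have h3 := M2.E.card_mul_index
    rw [M2.index_eq, hTc] at h3
    rw [h3, ← pow_succ])
  have hH : M2.E ⊓ M1.E = A := by rw [hE1, inf_comm]
  -- the second subgroup
  obtain ⟨y, hy, hyE⟩ := exists_not_mem_E hne.symm
  have hE2n : ¬ Commute y v₀ := fun h => hv₀Z (M1.V_fixed_le hyE hv₀.1 h)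
  have hcomm2 : ∀ x ∈ M2.E, ∀ z ∈ M2.E, ⁅x, z⁆ ∈ Z := by
    intro x hx z hz
    have hcard : Nat.card (M2.E ⧸ Z.subgroupOf M2.E) = p ^ 2 := by
      have h3 := (Z.subgroupOf M2.E).card_mul_index
      rw [Nat.card_congr (subgroupOfEquivOfLe M2.zOmega_le).toEquiv, hZc, hE2c, Subgroup.index_eq_card] at h3
      exact Nat.eq_of_mul_eq_mul_left hp.out.pos (h3.trans (by ring))
    haveI := IsPGroup.isMulCommutative_of_card_eq_prime_sq hcard
    have h4 : (⁅(⟨x, hx⟩ : M2.E), ⟨z, hz⟩⁆ : M2.E) ∈ Z.subgroupOf M2.E := by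
      rw [← QuotientGroup.eq_one_iff]
      show QuotientGroup.mk' (Z.subgroupOf M2.E) _ = 1
      rw [map_commutatorElement, commutatorElement_eq_one_iff_mul_comm]
      exact mul_comm' _ _
    exact h4
  have hAn : ¬ M2.Inv A := fun hi => haE (M2.stab2 hT hi (fun e he =>
    ⟨commutator_right_le M1.inv_V ha e, M2.commutator_mem_E a e⟩)
    fun e he => commutatorElement_eq_one_iff_commute.2 (M1.V_comm a ha e he.1))
  have hAE : A ≤ M2.E := inf_le_right
  obtain ⟨g, hg⟩ := M2.exists_conjSub_ne hAE hAn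
  set A' := M2.conjSub g A
  have hA'E : A' ≤ M2.E := M2.conjSub_le hAE
  have hA'c : Nat.card A' = p ^ 2 := (M2.card_conjSub hAE).trans hAc
  have hA'p : ∀ x ∈ A', x ^ p = 1 := fun x hx => by
    obtain ⟨w, hw, rfl⟩ := (M2.mem_conjSub hAE).1 hx
    rw [← M2.cj_pow (hAE hw), M1.V_pow w hw.1, M2.cj_one]
  obtain ⟨b, hb, hbA⟩ : ∃ b ∈ A', b ∉ A := by
    by_contra h
    push Not at h
    exact hg (Subgroup.eq_of_le_of_card_ge h (by rw [hAc, hA'c]))
  have htop : A ⊔ A' = M2.E := by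
    refine Subgroup.eq_of_le_of_card_ge (sup_le hAE hA'E) ?_
    have h3 : A < A ⊔ A' := lt_of_le_of_ne le_sup_left fun e => hbA (e.ge (mem_sup_right hb))
    have h4 := card_mul_le hT h3
    rw [hAc, ← pow_succ'] at h4
    rw [hE2c]
    exact h4
  have hexp : ∀ x ∈ M2.E, x ^ p = 1 := by
    rw [← htop]
    refine pow_p_of_sup hp2 (fun x hx => M1.V_pow x hx.1) hA'p fun x hx z hz w hw => ?_
    rw [htop] at hx hz
    exact (mem_center_iff.1 (hcomm2 x hx z hz).1 w).symm
  have hbE1 : b ∉ M1.E := fun h => hbA (hH.le ⟨hA'E hb, h⟩)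
  obtain ⟨v, hv, hvb⟩ : ∃ v ∈ M1.V, ⁅b, ⁅b, v⁆⁆ ≠ 1 := by
    by_contra h
    push Not at h
    exact hnot b hbE1 fun v hv => M1.V_fixed_le hbE1 (commutator_zero_le M1.inv_V b hv)
      (commutatorElement_eq_one_iff_commute.1 (h v hv))
  exact ⟨⟨hTc, M1.V, hV1n, hVc, M1.V_comm, M1.V_pow, b, fun h => hbE1 (M1.inv_V.1 h), hA'p b hb, v, hv,
    hvb⟩, hE2c, hexp, y, hy, v₀, hv₀.2, hE2n⟩

/-- Case A with a transvection is impossible. -/
theorem pairA_transvection (hT : IsPGroup p T) (hp2 : p ≠ 2) (hr : RankThreeLE p T)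
    (hbig : Nat.card T = p ^ 3 → ∀ x y : T, Commute x y) (𝔖 : Sys.{u, v} p T) (i₀ i₁ : 𝔖.Idx)
    (hne : (𝔖.mdl i₀).E ≠ (𝔖.mdl i₁).E) {a : T} (ha : a ∈ (𝔖.mdl i₀).V) (haE : a ∉ (𝔖.mdl i₁).E)
    (hA : ∀ v ∈ (𝔖.mdl i₀).V ⊓ (𝔖.mdl i₁).E, v ∈ zOmega p T) : False := by
  set M1 := 𝔖.mdl i₀
  set M2 := 𝔖.mdl i₁
  set Z := zOmega p T
  have hV2 : M2.V ≠ Z := fun hV2 => haE (M2.stab2 hT M2.inv_V
    (fun e he => hV2 ▸ hA _ ⟨commutator_right_le M1.inv_V ha e, M2.commutator_mem_E a e⟩)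
    fun e he => commutatorElement_eq_one_iff_commute.2
      (mem_center_iff.1 ((hV2 ▸ he : e ∈ Z)).1 a))
  obtain ⟨b, hb, hbE⟩ : ∃ b ∈ M2.V, b ∉ M1.E := by
    by_contra h
    push Not at h
    exact hV2 (le_antisymm (fun v hv => M2.V_fixed_le haE hv ((M1.V_spec a ha).1 v (h v hv)))
      M2.zOmega_le_V)
  have haE1 := M1.inv_V.1 ha
  have hbE2 := M2.inv_V.1 hb
  set H := M1.E ⊓ M2.E with hH
  haveI := M1.E_normal
  haveI := M2.E_normal
  haveI hHn : H.Normal := Subgroup.normal_inf_normal M1.E M2.E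
  have hdec : ∀ t, ∃ i j : ℤ, ∃ h ∈ H, t = a ^ i * (b ^ j * h) := fun t => by
    obtain ⟨i, e, he, rfl⟩ := exists_decomp M2 haE t
    obtain ⟨j, h, hh, rfl⟩ := exists_decomp M1 hbE e
    exact ⟨i, j, h, ⟨hh, (Subgroup.mul_mem_cancel_left _ (zpow_mem hbE2 j)).1 he⟩, rfl⟩
  have hac : ∀ h ∈ H, Commute a h := fun h hh => (M1.V_spec a ha).1 h hh.1
  have hbc : ∀ h ∈ H, Commute b h := fun h hh => (M2.V_spec b hb).1 h hh.2
  set c := ⁅a, b⁆ with hc
  have hcZ : c ∈ Z := hA c ⟨commutator_right_le M1.inv_V ha b, M2.commutator_mem_E a b⟩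
  have hc1 : c ≠ 1 := fun h => by
    refine haE (M2.center_le (mem_center_iff.2 fun t => ?_))
    obtain ⟨i, j, k, hk, rfl⟩ := hdec t
    exact ((((Commute.refl a).zpow_right i).mul_right
      (((commutatorElement_eq_one_iff_commute.1 h).zpow_right j).mul_right (hac k hk))).eq).symm
  set ℓ := zpowers c
  haveI hln : ℓ.Normal := ⟨fun x hx g => by
    rw [mem_center_iff.1 ((zpowers_le.2 hcZ.1 : ℓ ≤ center T) hx) g, mul_inv_cancel_right]
    exact hx⟩
  -- an elementary quotient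
  have hquot : ∀ K : Subgroup T, K.Normal → c ∈ K → (∀ x ∈ H, ∀ y ∈ H, ⁅x, y⁆ ∈ K) →
      ∀ x y : T, ⁅x, y⁆ ∈ K := by
    intro K hK hcK hHK x y
    set π := QuotientGroup.mk' K
    have h0 : ∀ x y : T, ⁅x, y⁆ ∈ K → Commute (π x) (π y) := fun x y h => by
      rw [← commutatorElement_eq_one_iff_commute, ← map_commutatorElement]
      exact (QuotientGroup.eq_one_iff _).2 h
    have hac' : ∀ k ∈ H, Commute (π a) (π k) := fun k hk => (hac k hk).map π
    have hbc' : ∀ k ∈ H, Commute (π b) (π k) := fun k hk => (hbc k hk).map π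
    have hall : ∀ t, Commute (π t) (π a) ∧ Commute (π t) (π b) ∧ ∀ k ∈ H, Commute (π t) (π k) := by
      intro t
      obtain ⟨i, j, h, hh, rfl⟩ := hdec t
      simp only [map_mul, map_zpow]
      exact ⟨((Commute.refl _).zpow_left i).mul_left (((h0 a b hcK).symm.zpow_left j).mul_left (hac' h hh).symm),
        ((h0 a b hcK).zpow_left i).mul_left (((Commute.refl _).zpow_left j).mul_left (hbc' h hh).symm),
        fun k hk => ((hac' k hk).zpow_left i).mul_left
          (((hbc' k hk).zpow_left j).mul_left (h0 h k (hHK h hh k hk)))⟩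
    have hxy : Commute (π x) (π y) := by
      obtain ⟨i, j, h, hh, rfl⟩ := hdec y
      simp only [map_mul, map_zpow]
      exact ((hall x).1.zpow_right i).mul_right (((hall x).2.1.zpow_right j).mul_right ((hall x).2.2 h hh))
    rw [← commutatorElement_eq_one_iff_commute, ← map_commutatorElement] at hxy
    exact (QuotientGroup.eq_one_iff _).1 hxy
  have hHE2 : ¬ M2.E ≤ M1.E := fun h => hbE (h hbE2)
  have hHi : Nat.card T = p ^ 2 * Nat.card H := by
    have h1 := Subgroup.relIndex_mul_index (show H ≤ M2.E from inf_le_right)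
    have h2 : H.relIndex M2.E = p := by
      rw [hH, Subgroup.inf_relIndex_right]
      rcases (Nat.dvd_prime hp.out).1 (M1.index_eq ▸ Subgroup.relIndex_dvd_index_of_normal M1.E M2.E) with h | h
      · exact absurd (Subgroup.relIndex_eq_one.1 h) hHE2
      · exact h
    rw [← H.card_mul_index, ← h1, h2, M2.index_eq]
    ring
  have hH1 : ∃ h₀ ∈ H, H ≤ ℓ ⊔ zpowers h₀ := by
    have hℓH : ℓ ≤ H := zpowers_le.2 ⟨M1.zOmega_le hcZ, M2.zOmega_le hcZ⟩
    set K := ℓ ⊔ phi p H with hK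
    have hKH : K ≤ H := sup_le hℓH (phi_le_self H)
    haveI : K.Normal := @Subgroup.sup_normal _ _ _ _ hln inferInstance
    have hb1 := hr ⊤ K le_top (fun x _ y _ => hquot K inferInstance (mem_sup_left (mem_zpowers c))
      (fun x hx y hy => mem_sup_right (mem_sup_left (commutator_mem_commutator hx hy))) x y)
      (fun t _ => by
        obtain ⟨i, j, h, hh, rfl⟩ := hdec t
        set π := QuotientGroup.mk' K
        rw [← QuotientGroup.eq_one_iff]
        show π _ = 1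
        have hab : Commute (π a) (π b) := by
          rw [← commutatorElement_eq_one_iff_commute, ← map_commutatorElement]
          exact (QuotientGroup.eq_one_iff _).2 (mem_sup_left (mem_zpowers c))
        have hah : Commute (π a) (π h) := (hac h hh).map π
        have hbh : Commute (π b) (π h) := (hbc h hh).map π
        have hhp : π h ^ p = 1 := by
          rw [← map_pow]
          exact (QuotientGroup.eq_one_iff _).2 (mem_sup_right (mem_sup_right (pow_mem_pw hh)))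
        have hz : ∀ (x : T), x ^ p = 1 → ∀ k : ℤ, (π x ^ k) ^ p = 1 := fun x hx k => by
          rw [← zpow_natCast, ← zpow_mul, mul_comm, zpow_mul, zpow_natCast, ← map_pow, hx, map_one, one_zpow]
        rw [map_pow, map_mul, map_mul, map_zpow, map_zpow,
          ((hab.zpow_zpow i j).mul_right (hah.zpow_left i)).mul_pow, (hbh.zpow_left j).mul_pow,
          hz a (M1.V_pow a ha), hz b (M2.V_pow b hb), hhp, one_mul, one_mul])
    rw [Subgroup.card_top, hHi] at hb1
    have hb2 : Nat.card H ≤ p * Nat.card K := by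
      rw [show p ^ 3 * Nat.card K = p ^ 2 * (p * Nat.card K) by ring] at hb1
      exact Nat.le_of_mul_le_mul_left hb1 (pow_pos hp.out.pos 2)
    obtain ⟨h₀, hh₀, hle⟩ : ∃ h₀ ∈ H, H ≤ K ⊔ zpowers h₀ := by
      by_cases hKe : H ≤ K
      · exact ⟨1, one_mem _, hKe.trans le_sup_left⟩
      · obtain ⟨h₀, hh₀, hh₀K⟩ := SetLike.not_le_iff_exists.1 hKe
        exact ⟨h₀, hh₀, (Subgroup.eq_of_le_of_card_ge (sup_le hKH (zpowers_le.2 hh₀))
          (hb2.trans (lt_card_sup hT hh₀K))).ge⟩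
    refine ⟨h₀, hh₀, le_of_sup_phi hT (sup_le hℓH (zpowers_le.2 hh₀)) (hle.trans ?_)⟩
    rw [hK]
    exact sup_le (sup_le (le_sup_left.trans le_sup_left) le_sup_right) (le_sup_right.trans le_sup_left)
  obtain ⟨h₀, hh₀, hHle⟩ := hH1
  have hHc : ∀ x ∈ H, ∀ y ∈ H, Commute x y := fun x hx y hy =>
    sup_pair_abelian (U := ℓ) (fun u hu w hw => (mem_center_iff.1 ((zpowers_le.2 hcZ.1 : ℓ ≤ center T) hu) w).symm)
      (fun w hw => mem_center_iff.1 ((zpowers_le.2 hcZ.1 : ℓ ≤ center T) hw) h₀) x (hHle hx) y (hHle hy)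
  have hHcen : H ≤ center T := fun x hx => mem_center_iff.2 fun t => by
    obtain ⟨i, j, h, hh, rfl⟩ := hdec t
    exact (((hac x hx).zpow_left i).mul_left (((hbc x hx).zpow_left j).mul_left (hHc h hh x hx))).eq
  have hcenH : center T = H := le_antisymm (le_inf M1.center_le M2.center_le) hHcen
  have hcomm : ∀ x y : T, ⁅x, y⁆ ∈ ℓ := hquot ℓ hln (mem_zpowers c)
    fun x hx y hy => by rw [commutatorElement_eq_one_iff_commute.2 (hHc x hx y hy)]; exact one_mem _
  have hcen : ∀ x y : T, ⁅x, y⁆ ∈ center T := fun x y => (zpowers_le.2 hcZ.1 : ℓ ≤ center T) (hcomm x y)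
  have hpow : ∀ t : T, t ^ p ∈ pw p H := fun t => by
    obtain ⟨i, j, h, hh, rfl⟩ := hdec t
    have hab : (a ^ i * b ^ j) ^ p = 1 := by
      have hk : ∀ x : T, x ^ p = 1 → ∀ k : ℤ, (x ^ k) ^ p = 1 := fun x hx k => by
        rw [← zpow_natCast, ← zpow_mul, mul_comm, zpow_mul, zpow_natCast, hx, one_zpow]
      rw [Cfsg.Lib.PGroups.mul_pow_of_central (hcen _ _), hk a (M1.V_pow a ha), hk b (M2.V_pow b hb),
        one_mul, one_mul]
      obtain ⟨k, hk'⟩ := Cfsg.Lib.PGroups.dvd_choose_two hp.out hp2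
      obtain ⟨m, hm⟩ := hcomm (b ^ j) (a ^ i)
      rw [← hm, hk', pow_mul, hk c hcZ.2, one_pow]
    rw [← mul_assoc, (show Commute (a ^ i * b ^ j) h from
      ((hac h hh).zpow_left i).mul_left ((hbc h hh).zpow_left j)).mul_pow, hab, one_mul]
    exact pow_mem_pw hh
  -- the Frattini powers are in the core
  have hHE : ∀ k, H ≤ (𝔖.mdl k).E := fun k => hHcen.trans (𝔖.mdl k).center_le
  have hpwE : ∀ k, pw p (𝔖.mdl k).E = pw p H := fun k =>
    le_antisymm (pw_le_iff.2 fun x _ => hpow x) (pw_mono (hHE k))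
  have hpwH : pw p H = ⊥ := 𝔖.core _ (fun k => hpwE k ▸ (𝔖.mdl k).inv_pw (𝔖.mdl k).inv_E)
    fun β hβ => by rw [map_pw, ← hcenH, Sys.char_center]
  have hexp : ∀ t : T, t ^ p = 1 := fun t => mem_bot.1 (hpwH ▸ hpow t)
  have hHZ : H = Z := le_antisymm (fun x hx => ⟨hHcen hx, hexp x⟩) fun x hx => hcenH.le hx.1
  have hℓc : Nat.card ℓ = p := card_zpowers_eq hcZ.2 hc1
  have hHcard : Nat.card H = p ^ 2 := by
    obtain ⟨n, hn⟩ := card_eq_pow hT H
    have h1 := hr ⊤ ℓ le_top (fun x _ y _ => hcomm x y) (fun x _ => by rw [hexp x]; exact one_mem _)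
    rw [Subgroup.card_top, hHi, hℓc, hn, ← pow_add, ← pow_succ] at h1
    have h2 := (Nat.pow_le_pow_iff_right hp.out.one_lt).1 h1
    have h3 : n ≠ 0 := fun e => hc1 (by
      have : H = ⊥ := Subgroup.card_eq_one.1 (by rw [hn, e, pow_zero])
      exact mem_bot.1 (this ▸ hHZ.ge hcZ))
    have h4 : n ≠ 1 := fun e => by
      have := hbig (by rw [hHi, hn, e, ← pow_add]) a b
      exact hc1 (commutatorElement_eq_one_iff_commute.2 this)
    rw [hn, show n = 2 by omega]
  -- the planes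
  have hplane : ∀ k, ∃ C : Subgroup T, (𝔖.mdl k).Inv C ∧ C ≤ H ∧ C ⊓ ℓ = ⊥ ∧ Nat.card C = p ∧
      ∃ β ∈ 𝔖.B, β c = c⁻¹ ∧ (∀ x ∈ C, β x = x) ∧
        ∀ X : Subgroup T, (𝔖.mdl k).Inv X → X ≤ H → Nat.card X = p → X = C := by
    intro k
    set M := 𝔖.mdl k
    obtain ⟨x, hx⟩ := M.exists_not_mem
    have hEc : Nat.card M.E = p ^ 3 := Nat.eq_of_mul_eq_mul_right hp.out.pos (by
      have h3 := M.E.card_mul_index
      rw [M.index_eq, hHi, hHcard] at h3
      rw [h3]; ring)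
    obtain ⟨s, hs, hsH⟩ := exists_not_mem_of_card (A := H) (B := M.E) (by
      rw [hHcard, hEc]; exact Nat.pow_lt_pow_right hp.out.one_lt (by norm_num))
    have hEeq : H ⊔ zpowers s = M.E := Subgroup.eq_of_le_of_card_ge (sup_le (hHE k) (zpowers_le.2 hs)) (by
      have := lt_card_sup hT hsH
      rw [hHcard, ← pow_succ'] at this
      rw [hEc]; exact this)
    have hEab : ∀ v ∈ M.E, ∀ e ∈ M.E, Commute v e := fun v hv e he =>
      sup_pair_abelian hHc (fun w hw => mem_center_iff.1 (hHcen hw) s) v (hEeq.ge hv) e (hEeq.ge he)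
    have hnc : ∃ v ∈ M.E, ⁅x, v⁆ ≠ 1 := by
      by_contra h
      push Not at h
      exact hx (M.centralizer_E_le (mem_centralizer_iff.2 fun v hv =>
        (commutatorElement_eq_one_iff_commute.1 (h v hv)).eq.symm))
    have hℓZ : ℓ ≤ Z := zpowers_le.2 hcZ
    have hnotinv : ∀ X : Subgroup T, M.Inv X → ℓ ≤ X → X ≤ H → False := fun X hX hℓX hXH =>
      hx (M.stab2 hT hX (fun e _ => hℓX (hcomm x e))
        fun e he => commutatorElement_eq_one_iff_commute.2 (mem_center_iff.1 (hHcen (hXH he)) x))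
    have hfix : ¬ M.Inv (M.E ⊓ center T) := fun h =>
      hnotinv _ h (le_inf ((zpowers_le.2 hcZ.1 : ℓ ≤ center T).trans M.center_le) (zpowers_le.2 hcZ.1))
        (inf_le_right.trans hcenH.le)
    obtain ⟨N, C, P⟩ := M.exists_plane hT M.inv_E hEab (fun v _ => hexp v) (Or.inr hEc) hcZ.1
      (fun v _ => hcomm x v) hnc hfix
    obtain ⟨v, hv, hvne⟩ := hnc
    have hcN : c ∈ N := by
      obtain ⟨i, hi⟩ := hcomm x v
      have hm := P.comm_le x v hv
      rw [← hi] at hm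
      refine mem_of_zpow_mem (by rw [hcZ.2]; exact one_mem _) (fun hd => hvne ?_) hm
      rw [← hi]
      exact (zpow_eq_one_iff hcZ.2 hc1 i).2 hd
    obtain ⟨g, -, hgn, hgN, hgC⟩ := P.neg
    obtain ⟨β, hβ, hβg⟩ := 𝔖.norm k g hgn
    have hβE : ∀ e ∈ M.E, β e = M.cj g e := fun e he => (M.cj_eq he (hβg e)).symm
    have hCH : C ≤ H := P.C_center.trans hcenH.le
    have hCc : Nat.card C = p := by
      haveI := M.inv_normal P.inv_N
      have h1 := card_sup N C
      rw [P.sup_eq, P.inf_eq, Subgroup.card_bot, mul_one, hEc, P.card_N,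
        show p ^ 3 = p ^ 2 * p by ring] at h1
      exact (Nat.eq_of_mul_eq_mul_left (pow_pos hp.out.pos 2) h1).symm
    have hCℓ : C ⊓ ℓ = ⊥ := eq_bot_iff.2 fun y hy =>
      P.inf_eq ▸ (⟨(zpowers_le.2 hcN) hy.2, hy.1⟩ : y ∈ N ⊓ C)
    refine ⟨C, P.inv_C, hCH, hCℓ, hCc, β, hβ, ?_, fun y hy => ?_, fun X hX hXH hXc => ?_⟩
    · rw [hβE c (M.zOmega_le hcZ), hgN c hcN]
    · rw [hβE y (P.inv_C.1 hy), hgC y hy]
    · -- a second invariant line would be the commutator line
      haveI := M.inv_normal P.inv_C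
      have hsum : C ⊔ ℓ = H := Subgroup.eq_of_le_of_card_ge
        (sup_le hCH (hℓZ.trans hHZ.ge)) (by
          have h1 := card_sup C ℓ
          rw [hCℓ, Subgroup.card_bot, mul_one, hCc, hℓc, ← sq] at h1
          rw [h1, hHcard])
      by_contra hne'
      have hXℓ : X ≤ ℓ := fun y hy => by
        obtain ⟨y₁, hy₁, y₂, hy₂, rfl⟩ := mem_sup_of_normal_left.1 (hsum.ge (hXH hy))
        have h1 : y₁ * y₁ ∈ X := by
          have h2 := mul_mem hy (hX.2 g _ hy)
          rw [M.cj_mul (P.inv_C.1 hy₁) ((zpowers_le.2 hcN : ℓ ≤ N).trans P.inv_N.1 hy₂), hgC y₁ hy₁,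
            hgN y₂ ((zpowers_le.2 hcN : ℓ ≤ N) hy₂)] at h2
          have hc' : Commute y₂ y₁ := (mem_center_iff.1 ((zpowers_le.2 hcZ.1 : ℓ ≤ center T) hy₂) y₁).symm
          rwa [mul_assoc, ← mul_assoc y₂, hc'.eq, mul_assoc, mul_inv_cancel, mul_one] at h2
        by_contra hyℓ
        have hy₁1 : y₁ ≠ 1 := fun e => hyℓ (by rw [e, one_mul]; exact hy₂)
        have h3 : y₁ ∈ X := mem_of_zpow_mem (i := 2) (by rw [hexp]; exact one_mem _)
          (fun hd => hp2 ((Nat.prime_dvd_prime_iff_eq hp.out Nat.prime_two).1 (by exact_mod_cast hd)))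
          (by rw [zpow_two]; exact h1)
        have h4 : zpowers y₁ = C := Subgroup.eq_of_le_of_card_ge (zpowers_le.2 hy₁)
          (by rw [card_zpowers_eq (hexp _) hy₁1, hCc])
        exact hne' (Subgroup.eq_of_le_of_card_ge (h4 ▸ zpowers_le.2 h3) (by rw [hXc, hCc])).symm
      exact hnotinv X hX (Subgroup.eq_of_le_of_card_ge hXℓ (by rw [hℓc, hXc])).ge hXH
  choose C hCi hCH hCℓ hCc β hβB hβc hβC hCu using hplane
  -- the lines coincide
  have hall : ∀ k m, C m ≤ C k := by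
    intro k m l' hl'
    have hsum : C k ⊔ ℓ = H := by
      haveI := (𝔖.mdl k).inv_normal (hCi k)
      refine Subgroup.eq_of_le_of_card_ge (sup_le (hCH k) ((zpowers_le.2 hcZ : ℓ ≤ Z).trans hHZ.ge)) ?_
      have h1 := card_sup (C k) ℓ
      rw [hCℓ k, Subgroup.card_bot, mul_one, hCc k, hℓc, ← sq] at h1
      rw [h1, hHcard]
    obtain ⟨l, hl, _, ⟨i, rfl⟩, hli⟩ : ∃ y₁ ∈ C k, ∃ y₂ ∈ ℓ, y₁ * y₂ = l' := by
      haveI := (𝔖.mdl k).inv_normal (hCi k)
      exact mem_sup_of_normal_left.1 (hsum.ge (hCH m hl'))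
    set u := β k * β m
    have hu1 : u l' = l' * c ^ (-2 * i) := by
      rw [show u l' = β k (β m l') from rfl, hβC m l' hl', ← hli, map_mul, map_zpow, hβC k l hl, hβc k,
        inv_zpow', mul_assoc, ← zpow_add]
      congr 2
      ring
    have huc : u c = c := by
      rw [show u c = β k (β m c) from rfl, hβc m, map_inv, hβc k, inv_inv]
    have hun : ∀ n : ℕ, (u ^ n) l' = l' * c ^ (-2 * i * n) := by
      intro n
      induction n with
      | zero => simp
      | succ n ih =>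
        rw [pow_succ', MulAut.mul_apply, ih, map_mul, map_zpow, hu1, huc, mul_assoc, ← zpow_add]
        congr 2
        push_cast
        ring
    haveI : Finite (MulAut T) := Finite.of_injective (fun f : MulAut T => (f : T → T)) DFunLike.coe_injective
    obtain ⟨e, q, hq, hm⟩ := Nat.exists_eq_pow_mul_and_not_dvd (orderOf_pos u).ne' p hp.out.ne_one
    obtain ⟨s, hs⟩ := 𝔖.inner (u ^ q) (pow_mem (mul_mem (hβB k) (hβB m)) q)
      ⟨e, by rw [← pow_mul, mul_comm, ← hm, pow_orderOf_eq_one]⟩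
    have h1 := hun q
    rw [hs, mem_center_iff.1 (hHcen (hCH m hl')) s, mul_inv_cancel_right, left_eq_mul,
      zpow_eq_one_iff hcZ.2 hc1] at h1
    have h2 : (p : ℤ) ∣ i := by
      have hP := Nat.prime_iff_prime_int.1 hp.out
      rcases hP.dvd_or_dvd h1 with h | h
      · rcases hP.dvd_or_dvd h with h | h
        · exact absurd ((Nat.prime_dvd_prime_iff_eq hp.out Nat.prime_two).1 (by exact_mod_cast dvd_neg.1 h)) hp2
        · exact h
      · exact absurd (by exact_mod_cast h) hq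
    rw [← hli]
    show l * c ^ i ∈ C k
    rw [(zpow_eq_one_iff hcZ.2 hc1 i).2 h2, mul_one]
    exact hl
  have heq : ∀ k, C k = C i₀ := fun k => le_antisymm (hall i₀ k) (hall k i₀)
  have hbot : C i₀ = ⊥ := 𝔖.core _ (fun k => heq k ▸ hCi k) fun b' hb' => by
    obtain ⟨j, -, hj⟩ := 𝔖.move b' hb' i₀
    rw [hCu j _ (hj _ (hCi i₀)) ((Subgroup.map_mono (hCH i₀)).trans (by rw [← hcenH, Sys.char_center]))
      ((Subgroup.card_map_of_injective b'.injective).trans (hCc i₀)), heq j]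
  have h5 := hCc i₀
  rw [hbot, Subgroup.card_bot] at h5
  exact hp.out.ne_one h5.symm

end Cfsg.Lib.Fusion.RankThreePair
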