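import Cfsg.Agent.Fusion.RankThreePair.PairC

/-!
The closure of the centre is contained in a subgroup of order at most `p ^ 3` invariant in both models.
-/

set_option autoImplicit false
set_option linter.unusedSectionVars false
set_option linter.style.haveILetI false

namespace Cfsg.Lib.Fusion.RankThreePair

open Subgroup Cfsg.Lib.Fusion.RankThree
open scoped commutatorElement

universe u

variable {p : ℕ} [hp : Fact p.Prime] {T : Type u} [Group T] [Finite T]

/-- Elementary abelian of order `p ^ 3`. -/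
structure Elem3 (p : ℕ) (A : Subgroup T) : Prop where
  card : Nat.card A = p ^ 3
  comm : ∀ x ∈ A, ∀ y ∈ A, Commute x y
  pow : ∀ x ∈ A, x ^ p = 1

theorem Elem3.conjSub {M : Mdl p T} {A : Subgroup T} (h : Elem3 p A) (hA : A ≤ M.E) (g : M.G) :
    Elem3 p (M.conjSub g A) where
  card := (M.card_conjSub hA).trans h.card
  comm x hx y hy := by
    obtain ⟨a, ha, rfl⟩ := (M.mem_conjSub hA).1 hx
    obtain ⟨b, hb, rfl⟩ := (M.mem_conjSub hA).1 hy
    show _ * _ = _ * _
    rw [← M.cj_mul (hA ha) (hA hb), ← M.cj_mul (hA hb) (hA ha), (h.comm a ha b hb).eq]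
  pow x hx := by
    obtain ⟨a, ha, rfl⟩ := (M.mem_conjSub hA).1 hx
    rw [← M.cj_pow (hA ha), h.pow a ha, M.cj_one]

/-- Two elementary abelian subgroups of order `p ^ 3` over a common subgroup of order `p ^ 2`. -/
theorem sup_two (hT : IsPGroup p T) (hp2 : p ≠ 2) (hr : RankThreeLE p T) {A B V : Subgroup T} [A.Normal]
    (hA : Elem3 p A) (hB : Elem3 p B) (hVA : V ≤ A) (hVB : V ≤ B) (hV : Nat.card V = p ^ 2)
    (hne : A ≠ B) (hBn : ∀ a ∈ A, ∀ b ∈ B, a * b * a⁻¹ ∈ B) :
    A ⊓ B = V ∧ Nat.card (A ⊔ B : Subgroup T) = p ^ 4 ∧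
      ∃ c ∈ V, c ≠ 1 ∧ ⁅A ⊔ B, A ⊔ B⁆ = zpowers c := by
  have hinf : A ⊓ B = V := by
    refine (Subgroup.eq_of_le_of_card_ge (le_inf hVA hVB) ?_).symm
    have hlt : A ⊓ B < A := lt_of_le_of_ne inf_le_left fun e =>
      hne (Subgroup.eq_of_le_of_card_ge (e.ge.trans inf_le_right) (by rw [hA.card, hB.card]))
    have h := card_mul_le hT hlt
    rw [hA.card, show p ^ 3 = p * p ^ 2 by ring] at h
    rw [hV]
    exact Nat.le_of_mul_le_mul_left h hp.out.pos
  have hsup : Nat.card (A ⊔ B : Subgroup T) = p ^ 4 := by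
    have h := card_sup A B
    rw [hinf, hV, hA.card, hB.card] at h
    exact Nat.eq_of_mul_eq_mul_right (pow_pos hp.out.pos 2) (h.trans (by ring))
  refine ⟨hinf, hsup, ?_⟩
  obtain ⟨hcomm, hcen, hexp⟩ := sup_elem_props hp2 hA.comm hB.comm hA.pow hB.pow
    (fun b _ a ha => ‹A.Normal›.conj_mem a ha b) hBn
  rw [hinf] at hcomm hcen
  obtain ⟨w, hw, hwV⟩ := exists_not_mem_of_card (A := V) (B := A)
    (by rw [hV, hA.card]; exact Nat.pow_lt_pow_right hp.out.one_lt (by norm_num))
  obtain ⟨w', hw', hw'V⟩ := exists_not_mem_of_card (A := V) (B := B)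
    (by rw [hV, hB.card]; exact Nat.pow_lt_pow_right hp.out.one_lt (by norm_num))
  set U := A ⊔ B
  have hgenA : V ⊔ zpowers w = A := Subgroup.eq_of_le_of_card_ge (sup_le hVA (zpowers_le.2 hw)) (by
    have h := lt_card_sup hT hwV
    rw [hV, ← pow_succ'] at h; rw [hA.card]; exact h)
  have hgenB : V ⊔ zpowers w' = B := Subgroup.eq_of_le_of_card_ge (sup_le hVB (zpowers_le.2 hw')) (by
    have h := lt_card_sup hT hw'V
    rw [hV, ← pow_succ'] at h; rw [hB.card]; exact h)
  set c := ⁅w, w'⁆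
  have hcV : c ∈ V := hcomm w (mem_sup_left hw) w' (mem_sup_right hw')
  have hcle : ⁅U, U⁆ ≤ zpowers c := by
    haveI hn : ((zpowers c).subgroupOf U).Normal := ⟨fun x hx g => by
      rw [mem_subgroupOf] at hx ⊢
      simp only [Subgroup.coe_mul, Subgroup.coe_inv]
      rwa [← (hcen _ ((zpowers_le.2 hcV) hx) g g.2).eq, mul_inv_cancel_right]⟩
    set π := QuotientGroup.mk' ((zpowers c).subgroupOf U)
    have hUle : (⊤ : Subgroup U) ≤ (center (U ⧸ (zpowers c).subgroupOf U)).comap π := by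
      have hcw : Commute (π ⟨w, mem_sup_left hw⟩) (π ⟨w', mem_sup_right hw'⟩) := by
        rw [← commutatorElement_eq_one_iff_commute, ← map_commutatorElement]
        exact (QuotientGroup.eq_one_iff _).2 (mem_zpowers c)
      -- the generators are central modulo the line
      have hgen : ∀ x : U, ((x : T) ∈ V ∨ (x : T) = w ∨ (x : T) = w') → ∀ y : U,
          ((y : T) ∈ V ∨ (y : T) = w ∨ (y : T) = w') → Commute (π x) (π y) := by
        intro x hx y hy
        rcases hx with hx | hx | hx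
        · exact (show Commute x y from Subtype.ext (hcen _ hx y y.2).eq).map π
        all_goals rcases hy with hy | hy | hy
        · exact (show Commute x y from Subtype.ext (hcen _ hy x x.2).eq.symm).map π
        · rw [show x = y from Subtype.ext (hx.trans hy.symm)]
        · rw [show x = ⟨w, mem_sup_left hw⟩ from Subtype.ext hx,
            show y = ⟨w', mem_sup_right hw'⟩ from Subtype.ext hy]; exact hcw
        · exact (show Commute x y from Subtype.ext (hcen _ hy x x.2).eq.symm).map π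
        · rw [show x = ⟨w', mem_sup_right hw'⟩ from Subtype.ext hx,
            show y = ⟨w, mem_sup_left hw⟩ from Subtype.ext hy]; exact hcw.symm
        · rw [show x = y from Subtype.ext (hx.trans hy.symm)]
      have hclos : ∀ P : Subgroup U, (∀ x : U, ((x : T) ∈ V ∨ (x : T) = w ∨ (x : T) = w') → x ∈ P) → P = ⊤ := by
        intro P hP
        refine eq_top_iff.2 fun x _ => ?_
        have hU' : U ≤ P.map U.subtype := by
          refine sup_le (hgenA ▸ sup_le ?_ ?_) (hgenB ▸ sup_le ?_ ?_)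
          · exact fun v hv => ⟨⟨v, mem_sup_left (hVA hv)⟩, hP _ (Or.inl hv), rfl⟩
          · exact zpowers_le.2 ⟨⟨w, mem_sup_left hw⟩, hP _ (Or.inr (Or.inl rfl)), rfl⟩
          · exact fun v hv => ⟨⟨v, mem_sup_left (hVA hv)⟩, hP _ (Or.inl hv), rfl⟩
          · exact zpowers_le.2 ⟨⟨w', mem_sup_right hw'⟩, hP _ (Or.inr (Or.inr rfl)), rfl⟩
        exact (Subgroup.mem_map_iff_mem U.subtype_injective).1 (hU' x.2)
      intro x _
      have h1 : ∀ y : U, ((y : T) ∈ V ∨ (y : T) = w ∨ (y : T) = w') → ∀ z : U, Commute (π y) (π z) := by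
        intro y hy z
        have hz := (hclos ((centralizer {π y}).comap π) fun z hz =>
          mem_centralizer_singleton_iff.2 (hgen z hz y hy).eq).ge (mem_top z)
        exact (mem_centralizer_singleton_iff.1 hz).symm
      exact (hclos ((center _).comap π) fun y hy => mem_center_iff.2 fun q => by
        obtain ⟨z, rfl⟩ := QuotientGroup.mk'_surjective _ q
        exact (h1 y hy z).eq.symm).ge (mem_top x)
    rw [Subgroup.commutator_le]
    intro x hx y hy
    have h := mem_center_iff.1 (hUle (mem_top (⟨x, hx⟩ : U))) (π ⟨y, hy⟩)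
    rw [eq_comm, ← commutatorElement_eq_one_iff_mul_comm, ← map_commutatorElement] at h
    exact (QuotientGroup.eq_one_iff (N := (zpowers c).subgroupOf U) _).1 h
  have hc1 : c ≠ 1 := fun e => by
    rw [e, zpowers_one_eq_bot, le_bot_iff] at hcle
    have h := elem_card_le hr U (fun x hx y hy => commutatorElement_eq_one_iff_commute.1
      (mem_bot.1 (hcle ▸ commutator_mem_commutator hx hy))) hexp
    rw [hsup] at h
    exact absurd ((Nat.pow_le_pow_iff_right hp.out.one_lt).1 h) (by norm_num)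
  exact ⟨c, hcV, hc1, le_antisymm hcle
    (zpowers_le.2 (commutator_mem_commutator (mem_sup_left hw) (mem_sup_right hw')))⟩

namespace Mdl

variable (M : Mdl p T)

theorem card_zOmega_of_card_V (hT : IsPGroup p T) (hV : M.V ≠ zOmega p T) (h : Nat.card M.V = p ^ 2) :
    Nat.card (zOmega p T) = p := by
  have h1 := card_mul_le hT (lt_of_le_of_ne M.zOmega_le_V (Ne.symm hV))
  rw [h, sq] at h1
  exact le_antisymm (Nat.le_of_mul_le_mul_left h1 hp.out.pos) (one_lt_card_zOmega hT M)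

theorem false_of_two (hT : IsPGroup p T) (hp2 : p ≠ 2) (hr : RankThreeLE p T) (hV : M.V ≠ zOmega p T)
    (hVc : Nat.card M.V = p ^ 2) {A B : Subgroup T} [hAn : A.Normal] (hA : Elem3 p A) (hB : Elem3 p B)
    (hVA : M.V ≤ A) (hVB : M.V ≤ B) (hne : A ≠ B) (hBn : ∀ a ∈ A, ∀ b ∈ B, a * b * a⁻¹ ∈ B)
    (hU : M.Inv (A ⊔ B)) : False := by
  obtain ⟨-, -, c, hcV, hc1, hc⟩ := sup_two hT hp2 hr hA hB hVA hVB hVc hne hBn
  have hi : M.Inv (zpowers c) := hc ▸ M.inv_commutator hU hU
  have hcp := M.V_pow c hcV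
  haveI := M.inv_normal hi
  have hcc := Cfsg.Lib.PGroups.le_center_of_card_eq_prime hT (card_zpowers_eq hcp hc1)
  have he : zpowers c = zOmega p T := Subgroup.eq_of_le_of_card_ge
    (zpowers_le.2 ⟨hcc (mem_zpowers c), hcp⟩)
    (by rw [M.card_zOmega_of_card_V hT hV hVc, card_zpowers_eq hcp hc1])
  exact hV (le_antisymm (M.cl_le (he ▸ hi) le_rfl) M.zOmega_le_V)

/-- Only one invariant elementary subgroup of order `p ^ 3` lies over the closure of the centre. -/
theorem elem3_unique (hT : IsPGroup p T) (hp2 : p ≠ 2) (hr : RankThreeLE p T) (hV : M.V ≠ zOmega p T)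
    (hVc : Nat.card M.V = p ^ 2) {A B : Subgroup T} (hA : Elem3 p A) (hB : Elem3 p B) (hAi : M.Inv A)
    (hBi : M.Inv B) : A = B := by
  by_contra hne
  haveI := M.inv_normal hAi
  exact M.false_of_two hT hp2 hr hV hVc hA hB (M.cl_le hAi (zOmega_le_of_inv hT M hAi hA hV hVc))
    (M.cl_le hBi (zOmega_le_of_inv hT M hBi hB hV hVc)) hne
    (fun a ha b hb => (M.inv_normal hBi).conj_mem b hb a) (M.inv_sup hAi hBi)
where
  zOmega_le_of_inv (hT : IsPGroup p T) (M : Mdl p T) {A : Subgroup T} (hAi : M.Inv A) (hA : Elem3 p A)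
      (hV : M.V ≠ zOmega p T) (hVc : Nat.card M.V = p ^ 2) : zOmega p T ≤ A := by
    haveI := M.inv_normal hAi
    have hne : A ≠ ⊥ := fun e => by
      have h := hA.card
      rw [e, Subgroup.card_bot] at h
      exact absurd h.symm (Nat.one_lt_pow (by norm_num) hp.out.one_lt).ne'
    obtain ⟨z, hz, hzZ, hz1⟩ := exists_mem_zOmega hT hne
    have h : zpowers z = zOmega p T := Subgroup.eq_of_le_of_card_ge (zpowers_le.2 hzZ)
      (by rw [M.card_zOmega_of_card_V hT hV hVc, card_zpowers_eq hzZ.2 hz1])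
    exact h ▸ zpowers_le.2 hz

/-- The closure of a normal elementary subgroup of order `p ^ 3` over an invariant one of order `p ^ 2`. -/
theorem cl_two (hT : IsPGroup p T) (hp2 : p ≠ 2) (hr : RankThreeLE p T) {X V : Subgroup T} [X.Normal]
    (hX : Elem3 p X) (hXE : X ≤ M.E) (hV : M.Inv V) (hVX : V ≤ X) (hVc : Nat.card V = p ^ 2) {g : M.G}
    (hg : M.conjSub g X ≠ X) : X ⊔ M.conjSub g X = M.cl X := by
  set U := M.cl X
  have hUi : M.Inv U := M.inv_cl hXE
  have hVh : ∀ h, V ≤ M.conjSub h X := fun h => (M.conjSub_eq_of_inv hV).ge.trans (M.conjSub_mono hVX)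
  have hpair : ∀ h k : M.G, ∀ x ∈ X, ∀ y ∈ X, ⁅M.cj h x, M.cj k y⁆ ∈ V := by
    intro h k x hx y hy
    have key : ⁅x, M.cj (h⁻¹ * k) y⁆ ∈ V := by
      by_cases he : M.conjSub (h⁻¹ * k) X = X
      · rw [commutatorElement_eq_one_iff_commute.2 (hX.comm x hx _ (he.le (M.cj_mem_conjSub hXE hy)))]
        exact one_mem _
      · obtain ⟨hcomm, -, -⟩ := sup_elem_props hp2 hX.comm (hX.conjSub hXE _).comm hX.pow
          (hX.conjSub hXE _).pow (fun b _ a ha => ‹X.Normal›.conj_mem a ha b)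
          (fun a ha b hb => M.conjSub_normal hXE inferInstance a (hXE ha) b hb)
        obtain ⟨hinf, -, -⟩ := sup_two hT hp2 hr hX (hX.conjSub hXE (h⁻¹ * k)) hVX (hVh _) hVc (Ne.symm he)
          (fun a ha b hb => M.conjSub_normal hXE inferInstance a (hXE ha) b hb)
        exact hinf ▸ hcomm x (mem_sup_left hx) _ (mem_sup_right (M.cj_mem_conjSub hXE hy))
    have h2 := hV.2 h _ key
    rwa [M.cj_comm (hXE hx) (M.cj_mem (hXE hy)), ← M.cj_mul_left (hXE hy), mul_inv_cancel_left] at h2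
  haveI := M.inv_normal hV
  set π := QuotientGroup.mk' V
  have h1 : ∀ h : M.G, ∀ x ∈ X, ∀ u ∈ U, Commute (π (M.cj h x)) (π u) := by
    intro h x hx u hu
    have hle : U ≤ (centralizer {π (M.cj h x)}).comap π := M.cl_le_of_conj hXE fun k y hy =>
      mem_centralizer_singleton_iff.2 (by
        rw [← commutatorElement_eq_one_iff_mul_comm, ← map_commutatorElement]
        exact (QuotientGroup.eq_one_iff _).2 (hpair k h y hy x hx))
    exact (mem_centralizer_singleton_iff.1 (hle hu)).symm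
  have hcomm : ∀ a ∈ U, ∀ b ∈ U, ⁅a, b⁆ ∈ V := fun a ha b hb => by
    have hle : U ≤ (centralizer {π b}).comap π := M.cl_le_of_conj hXE fun k y hy =>
      mem_centralizer_singleton_iff.2 (h1 k y hy b hb).eq
    refine (QuotientGroup.eq_one_iff _).1 ?_
    show π _ = 1
    rw [map_commutatorElement, commutatorElement_eq_one_iff_mul_comm]
    exact mem_centralizer_singleton_iff.1 (hle ha)
  have hcen : ∀ v ∈ V, ∀ u ∈ U, Commute v u := fun v hv u hu => by
    have hle : U ≤ centralizer ({v} : Set T) := M.cl_le_of_conj hXE fun k y hy =>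
      mem_centralizer_singleton_iff.2 ((hX.conjSub hXE k).comm _ (M.cj_mem_conjSub hXE hy) v (hVh k hv)).eq
    exact (mem_centralizer_singleton_iff.1 (hle hu)).symm
  have hexp : ∀ u ∈ U, u ^ p = 1 := by
    let W : Subgroup T :=
      { carrier := {x | x ∈ U ∧ x ^ p = 1}
        one_mem' := ⟨one_mem _, one_pow _⟩
        mul_mem' := fun {a b} ha hb => ⟨mul_mem ha.1 hb.1, by
          rw [Cfsg.Lib.PGroups.mul_pow_of_commute_commutator (hcen _ (hcomm b hb.1 a ha.1) a ha.1)
            (hcen _ (hcomm b hb.1 a ha.1) b hb.1), ha.2, hb.2, one_mul, one_mul]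
          obtain ⟨k, hk⟩ := Cfsg.Lib.PGroups.dvd_choose_two hp.out hp2
          rw [hk, pow_mul, hX.pow _ (hVX (hcomm b hb.1 a ha.1)), one_pow]⟩
        inv_mem' := fun {a} ha => ⟨inv_mem ha.1, by rw [inv_pow, ha.2, inv_one]⟩ }
    exact fun u hu => ((M.cl_le_of_conj hXE fun k y hy =>
      (⟨hUi.2 k y (M.le_cl X hy), by rw [← M.cj_pow (hXE hy), hX.pow y hy, M.cj_one]⟩ :
        M.cj k y ∈ W) : U ≤ W) hu).2
  have hle : X ⊔ M.conjSub g X ≤ U := sup_le (M.le_cl X) (M.conjSub_le_cl hXE)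
  obtain ⟨-, hc4, -⟩ := sup_two hT hp2 hr hX (hX.conjSub hXE g) hVX (hVh g) hVc (Ne.symm hg)
    (fun a ha b hb => M.conjSub_normal hXE inferInstance a (hXE ha) b hb)
  refine Subgroup.eq_of_le_of_card_ge hle ?_
  rw [hc4]
  obtain ⟨n, hn⟩ := card_eq_pow hT U
  rw [hn]
  refine Nat.pow_le_pow_right hp.out.pos ?_
  by_contra hlt
  exact false_of_isotropic hT hr (hVX.trans (M.le_cl X)) hVc hcen hcomm hexp
    (by rw [hn]; exact Nat.pow_le_pow_right hp.out.pos (by omega))

end Mdl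

/-- Case B: the closure in the second model is elementary and invariant in the first. -/
theorem pair_invariant (hT : IsPGroup p T) (hp2 : p ≠ 2) (hr : RankThreeLE p T) {M1 M2 : Mdl p T}
    (hne : M1.E ≠ M2.E) (hV : M1.V ≠ zOmega p T) (hle : M1.V ≤ M2.E) :
    M1.Inv (M2.cl M1.V) ∧ (∀ x ∈ M2.cl M1.V, ∀ y ∈ M2.cl M1.V, Commute x y) ∧
      ∀ x ∈ M2.cl M1.V, x ^ p = 1 := by
  set V := M1.V
  set W := M2.cl V
  have hc : ∀ g h : M2.G, ∀ u ∈ V, ∀ v ∈ V, Commute (M2.cj g u) (M2.cj h v) := by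
    intro g h u hu v hv
    have h1 : Commute u (M2.cj (g⁻¹ * h) v) := by
      by_contra hn
      exact pairC_false hT hp2 hr hne hV hle hu hv hn
    have h2 := congrArg (M2.cj g) h1.eq
    rwa [M2.cj_mul (hle hu) (M2.cj_mem (hle hv)), M2.cj_mul (M2.cj_mem (hle hv)) (hle hu),
      ← M2.cj_mul_left (hle hv), mul_inv_cancel_left] at h2
  have h1 : ∀ g, ∀ u ∈ V, ∀ w ∈ W, Commute (M2.cj g u) w := fun g u hu w hw => by
    have hle' : W ≤ centralizer ({M2.cj g u} : Set T) := M2.cl_le_of_conj hle fun k y hy =>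
      mem_centralizer_singleton_iff.2 (hc k g y hy u hu).eq
    exact (mem_centralizer_singleton_iff.1 (hle' hw)).symm
  have hcomm : ∀ x ∈ W, ∀ y ∈ W, Commute x y := fun x hx y hy => by
    have hle' : W ≤ centralizer ({y} : Set T) := M2.cl_le_of_conj hle fun k v hv =>
      mem_centralizer_singleton_iff.2 (h1 k v hv y hy).eq
    exact mem_centralizer_singleton_iff.1 (hle' hx)
  have hpow : ∀ x ∈ W, x ^ p = 1 := by
    let K : Subgroup T :=
      { carrier := {x | x ∈ W ∧ x ^ p = 1}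
        one_mem' := ⟨one_mem _, one_pow _⟩
        mul_mem' := fun {a b} ha hb => ⟨mul_mem ha.1 hb.1, by
          rw [(hcomm a ha.1 b hb.1).mul_pow, ha.2, hb.2, mul_one]⟩
        inv_mem' := fun {a} ha => ⟨inv_mem ha.1, by rw [inv_pow, ha.2, inv_one]⟩ }
    exact fun x hx => ((M2.cl_le_of_conj hle fun k v hv =>
      (⟨(M2.inv_cl hle).2 k v (M2.le_cl V hv), by rw [← M2.cj_pow (hle hv), M1.V_pow v hv, M2.cj_one]⟩ :
        M2.cj k v ∈ K) : W ≤ K) hx).2
  refine ⟨?_, hcomm, hpow⟩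
  have hWE : W ≤ M1.E := fun w hw => by
    rw [← M1.centralizer_V_eq hV]
    exact mem_centralizer_iff.2 fun v hv => (hcomm v (M2.le_cl V hv) w hw).eq
  by_cases hWV : W = V
  · rw [hWV]; exact M1.inv_V
  have hlt : V < W := lt_of_le_of_ne (M2.le_cl V) (Ne.symm hWV)
  have hW3 := elem_card_le hr W hcomm hpow
  have h2 := card_mul_le hT hlt
  have h3 := card_mul_le hT (lt_of_le_of_ne M1.zOmega_le_V (Ne.symm hV))
  have hZ := one_lt_card_zOmega hT M1
  have hVc : Nat.card V = p ^ 2 := by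
    refine le_antisymm ?_ (by rw [sq]; exact (Nat.mul_le_mul_left p hZ).trans h3)
    have h4 := h2.trans hW3
    rw [show p ^ 3 = p * p ^ 2 by ring] at h4
    exact Nat.le_of_mul_le_mul_left h4 hp.out.pos
  have hWe : Elem3 p W := ⟨le_antisymm hW3 (by rw [hVc, ← pow_succ'] at h2; exact h2), hcomm, hpow⟩
  haveI := M2.inv_normal (M2.inv_cl hle)
  by_contra hni
  obtain ⟨g, hg⟩ := M1.exists_conjSub_ne hWE hni
  have heq := M1.cl_two hT hp2 hr hWe hWE M1.inv_V (M2.le_cl V) hVc hg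
  exact M1.false_of_two hT hp2 hr hV hVc hWe (hWe.conjSub hWE g) (M2.le_cl V)
    ((M1.conjSub_eq_of_inv M1.inv_V).ge.trans (M1.conjSub_mono (M2.le_cl V))) (Ne.symm hg)
    (fun a ha b hb => M1.conjSub_normal hWE inferInstance a (hWE ha) b hb)
    (heq ▸ M1.inv_cl hWE)

end Cfsg.Lib.Fusion.RankThreePair
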