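import Cfsg.Agent.Fusion.RankThreePair.ConjTools

/-!
The conjugates of the closure of the centre inside a second subgroup commute.
-/

set_option autoImplicit false
set_option linter.unusedSectionVars false
set_option linter.style.haveILetI false

namespace Cfsg.Lib.Fusion.RankThreePair

open Subgroup Cfsg.Lib.Fusion.RankThree
open scoped commutatorElement

universe u

variable {p : ℕ} [hp : Fact p.Prime] {T : Type u} [Group T] [Finite T]

/-- What is shown first about a pair of noncommuting conjugates. -/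
structure CData (M1 M2 : Mdl p T) (g : M2.G) (b c : T) : Prop where
  b_mem : b ∈ M2.conjSub g M1.V
  b_not : b ∉ M1.E
  b_pow : b ^ p = 1
  c_mem : c ∈ zOmega p T
  c_ne : c ≠ 1
  line : ∀ t : T, ∀ v ∈ M1.V, ⁅t, v⁆ ∈ zpowers c
  b_line : ∀ e ∈ M2.E, ⁅b, e⁆ ∈ zpowers c
  inv_Z : M2.Inv (zOmega p T)
  card_V : Nat.card M1.V = p ^ 2 ∨ Nat.card M1.V = p ^ 3

theorem exists_cdata (hT : IsPGroup p T) (hp2 : p ≠ 2) (hr : RankThreeLE p T) {M1 M2 : Mdl p T}
    (hV : M1.V ≠ zOmega p T) (hle : M1.V ≤ M2.E) {g : M2.G} {u₀ v₀ : T} (hu₀ : u₀ ∈ M1.V)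
    (hv₀ : v₀ ∈ M1.V) (hnc : ¬ Commute u₀ (M2.cj g v₀)) :
    ∃ b c, CData M1 M2 g b c := by
  set Z := zOmega p T
  set V := M1.V
  have hVn := M1.inv_normal M1.inv_V
  have hZV : Z ≤ V := M1.zOmega_le_V
  -- facts about any noncommuting conjugate
  have hout : ∀ h : M2.G, ∀ u ∈ V, ∀ w ∈ V, ¬ Commute u (M2.cj h w) → M2.cj h w ∉ M1.E :=
    fun h u hu w _ hn he => hn ((M1.V_spec u hu).1 _ he)
  have hmeet : ∀ h : M2.G, ∀ u ∈ V, ∀ w ∈ V, ¬ Commute u (M2.cj h w) →
      V ⊓ M2.conjSub h V ≤ Z ⊓ M2.conjSub h Z := by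
    intro h u hu w hw hn x hx
    obtain ⟨x', hx', rfl⟩ := (M2.mem_conjSub hle).1 hx.2
    refine ⟨M1.V_fixed_le (hout h u hu w hw hn) hx.1 ?_, ?_⟩
    · show M2.cj h w * M2.cj h x' = M2.cj h x' * M2.cj h w
      rw [← M2.cj_mul (hle hw) (hle hx'), ← M2.cj_mul (hle hx') (hle hw), (M1.V_comm w hw x' hx').eq]
    · refine M2.cj_mem_conjSub M2.zOmega_le (M1.V_fixed_le (x := M2.cj h⁻¹ u) (fun he => hn ?_) hx' ?_)
      · have h1 : Commute (M2.cj h⁻¹ u) w := ((M1.V_spec w hw).1 _ he).symm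
        have h2 := congrArg (M2.cj h) h1.eq
        rwa [M2.cj_mul (M2.cj_mem (hle hu)) (hle hw), M2.cj_mul (hle hw) (M2.cj_mem (hle hu)),
          M2.cj_cj_inv (hle hu)] at h2
      · have h1 : Commute u (M2.cj h x') := M1.V_comm u hu _ hx.1
        have h2 := congrArg (M2.cj h⁻¹) h1.eq
        rwa [M2.cj_mul (hle hu) (M2.cj_mem (hle hx')), M2.cj_mul (M2.cj_mem (hle hx')) (hle hu),
          M2.cj_inv_cj (hle hx')] at h2
  have hcommI : ∀ h : M2.G, ∀ e ∈ M2.conjSub h V, ∀ w ∈ V, ⁅e, w⁆ ∈ V ⊓ M2.conjSub h V := by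
    intro h e he w hw
    refine ⟨commutator_zero_le M1.inv_V e hw, ?_⟩
    rw [commutatorElement_def, mul_assoc, mul_assoc, ← mul_assoc w]
    exact mul_mem he (M2.conjSub_normal hle hVn w (hle hw) _ (inv_mem he))
  set b := M2.cj g v₀
  have hb : b ∈ M2.conjSub g V := M2.cj_mem_conjSub hle hv₀
  have hbE : b ∉ M1.E := hout g u₀ hu₀ v₀ hv₀ hnc
  have hbp : b ^ p = 1 := by rw [← M2.cj_pow (hle hv₀), M1.V_pow v₀ hv₀, M2.cj_one]
  have hbZ : ∀ w ∈ V, ⁅b, w⁆ ∈ Z := fun w hw => (hmeet g u₀ hu₀ v₀ hv₀ hnc (hcommI g b hb w hw)).1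
  -- the sizes
  have h1 : Nat.card V ≤ Nat.card Z * Nat.card Z :=
    inv_le_centre_card_le M1 M1.inv_V M1.V_comm (fun v hv x hx hc => M1.V_fixed_le hx hv hc) hbE hbZ
  have h2 := card_mul_le hT (lt_of_le_of_ne hZV (Ne.symm hV))
  have h3 := M1.V_card hr
  have hZp := one_lt_card_zOmega hT M1
  obtain ⟨m, hm⟩ := card_eq_pow hT Z
  obtain ⟨n, hn⟩ := card_eq_pow hT V
  rw [hm, hn] at h1 h2
  rw [hn] at h3
  rw [hm] at hZp
  rw [← pow_add] at h1
  rw [← pow_succ'] at h2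
  have e1 := (Nat.pow_le_pow_iff_right hp.out.one_lt).1 h1
  have e2 := (Nat.pow_le_pow_iff_right hp.out.one_lt).1 h2
  have e3 := (Nat.pow_le_pow_iff_right hp.out.one_lt).1 h3
  have e4 : 1 ≤ m := by
    by_contra h
    rw [show m = 0 by omega, pow_zero] at hZp
    exact absurd hp.out.one_lt (not_lt.2 hZp)
  have hnm : n = m + 1 := by omega
  subst hnm
  -- the line
  obtain ⟨a₀, ha₀, ha₀Z⟩ := exists_not_mem_of_card (A := Z) (B := V) (by
    rw [hm, hn]; exact Nat.pow_lt_pow_right hp.out.one_lt (by omega))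
  have hVeq : Z ⊔ zpowers a₀ = V := Subgroup.eq_of_le_of_card_ge (sup_le hZV (zpowers_le.2 ha₀)) (by
    have := lt_card_sup hT ha₀Z
    rw [hm, ← pow_succ'] at this
    rw [hn]; exact this)
  set c := ⁅b, a₀⁆
  have hcZ : c ∈ Z := hbZ a₀ ha₀
  have hc1 : c ≠ 1 := fun h => ha₀Z (M1.V_fixed_le hbE ha₀ (commutatorElement_eq_one_iff_commute.1 h))
  have hline : ∀ t : T, ∀ w ∈ V, ⁅t, w⁆ ∈ zpowers c := by
    intro t w hw
    obtain ⟨i, e, he, rfl⟩ := exists_decomp M1 hbE t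
    haveI : Z.Normal := inferInstance
    obtain ⟨j, z, hz, rfl⟩ := mem_sup_zpowers (hVeq.ge hw)
    rw [Cfsg.Lib.PGroups.mul_left_commutator,
      commutatorElement_eq_one_iff_commute.2 ((M1.V_spec _ hw).1 e he).symm, mul_one, mul_inv_cancel,
      one_mul, Cfsg.Lib.PGroups.mul_right_commutator,
      commutatorElement_eq_one_iff_commute.2 (show Commute (b ^ i) z from mem_center_iff.1 hz.1 _),
      mul_one, mul_inv_cancel, mul_one]
    have hc' : ⁅b, a₀ ^ j⁆ = c ^ j := commutator_zpow_right hcZ.1 j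
    have hc'' : ⁅a₀ ^ j, b⁆ ∈ center T := by
      rw [← commutatorElement_inv, hc']; exact inv_mem (zpow_mem hcZ.1 j)
    rw [← commutatorElement_inv (a₀ ^ j) (b ^ i), commutator_zpow_right hc'', ← inv_zpow,
      commutatorElement_inv, hc', ← zpow_mul]
    exact zpow_mem (mem_zpowers c) _
  set ℓ := zpowers c
  have hℓc : Nat.card ℓ = p := card_zpowers_eq hcZ.2 hc1
  have hℓE : ℓ ≤ M2.E := zpowers_le.2 (M2.zOmega_le hcZ)
  have hconjline : ∀ h : M2.G, ∀ e ∈ M2.E, ∀ w ∈ V, ⁅e, M2.cj h w⁆ ∈ M2.conjSub h ℓ := by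
    intro h e he w hw
    refine (M2.mem_conjSub hℓE).2 ⟨⁅M2.cj h⁻¹ e, w⁆, hline _ w hw, ?_⟩
    rw [M2.cj_comm (M2.cj_mem he) (hle hw), M2.cj_cj_inv he]
  have hℓI : ∀ h : M2.G, ∀ u ∈ V, ∀ w ∈ V, ¬ Commute u (M2.cj h w) →
      M2.conjSub h ℓ = ℓ ∧ ℓ ≤ V ⊓ M2.conjSub h V ∧ M2.conjSub h Z = Z := by
    intro h u hu w hw hn'
    have hy : ⁅M2.cj h w, u⁆ ≠ 1 := fun e => hn' (commutatorElement_eq_one_iff_commute.1 e).symm
    have hgen : zpowers ⁅M2.cj h w, u⁆ = ℓ := Subgroup.eq_of_le_of_card_ge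
      (zpowers_le.2 (hline _ u hu)) (by
        rw [card_zpowers_eq ((show ℓ ≤ Z from zpowers_le.2 hcZ) (hline _ u hu)).2 hy, hℓc])
    have hℓh : M2.conjSub h ℓ = ℓ := by
      refine (Subgroup.eq_of_le_of_card_ge (hgen.ge.trans (zpowers_le.2 ?_)) (M2.card_conjSub hℓE).le).symm
      rw [← commutatorElement_inv]
      exact inv_mem (hconjline h u (hle hu) w hw)
    have hℓle : ℓ ≤ V ⊓ M2.conjSub h V :=
      hgen.ge.trans (zpowers_le.2 (hcommI h _ (M2.cj_mem_conjSub hle hw) u hu))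
    refine ⟨hℓh, hℓle, ?_⟩
    obtain ⟨k, hk⟩ := card_eq_pow hT (V ⊓ M2.conjSub h V)
    have hk1 := Subgroup.card_le_of_le (hmeet h u hu w hw hn')
    have hZh : Nat.card (M2.conjSub h Z) = p ^ m := (M2.card_conjSub M2.zOmega_le).trans hm
    have hk2 : k ≤ m := (Nat.pow_le_pow_iff_right hp.out.one_lt).1
      (hk ▸ hm ▸ hk1.trans (Subgroup.card_le_of_le inf_le_left))
    have hk3 : 1 ≤ k := (Nat.pow_le_pow_iff_right hp.out.one_lt).1
      (by rw [pow_one, ← hk]; exact hℓc.ge.trans (Subgroup.card_le_of_le hℓle))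
    have hmk : k = m := by
      by_contra hne
      have hk4 : k = 1 := by omega
      have hm4 : m = 2 := by omega
      obtain ⟨hcm, hcen, hexp⟩ := sup_elem_props (A := V) (B := M2.conjSub h V) hp2 M1.V_comm
        (fun a ha a' ha' => by
          obtain ⟨x, hx, rfl⟩ := (M2.mem_conjSub hle).1 ha
          obtain ⟨x', hx', rfl⟩ := (M2.mem_conjSub hle).1 ha'
          show _ * _ = _ * _
          rw [← M2.cj_mul (hle hx) (hle hx'), ← M2.cj_mul (hle hx') (hle hx), (M1.V_comm x hx x' hx').eq])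
        M1.V_pow (fun a ha => by
          obtain ⟨x, hx, rfl⟩ := (M2.mem_conjSub hle).1 ha
          rw [← M2.cj_pow (hle hx), M1.V_pow x hx, M2.cj_one])
        (fun e _ a ha => hVn.conj_mem a ha e)
        (fun a ha e he => M2.conjSub_normal hle hVn a (hle ha) e he)
      have h5 := hr (V ⊔ M2.conjSub h V) (V ⊓ M2.conjSub h V) (inf_le_left.trans le_sup_left) hcm
        fun x hx => by rw [hexp x hx]; exact one_mem _
      have h6 := card_sup V (M2.conjSub h V)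
      rw [hn, M2.card_conjSub hle, hn, hk, hk4, hm4] at h6
      rw [hk, hk4] at h5
      have h7 : p ^ 6 ≤ p ^ 5 := by
        calc p ^ 6 = p ^ (2 + 1) * p ^ (2 + 1) := by ring
          _ = _ := h6.symm
          _ ≤ p ^ 3 * p ^ 1 * p ^ 1 := Nat.mul_le_mul_right _ h5
          _ = p ^ 5 := by ring
      exact absurd ((Nat.pow_le_pow_iff_right hp.out.one_lt).1 h7) (by norm_num)
    have hI1 : V ⊓ M2.conjSub h V = Z := Subgroup.eq_of_le_of_card_ge
      ((hmeet h u hu w hw hn').trans inf_le_left) (by rw [hk, hm, hmk])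
    exact (Subgroup.eq_of_le_of_card_ge (hI1.ge.trans ((hmeet h u hu w hw hn').trans inf_le_right))
      (by rw [hZh, hm])).symm
  obtain ⟨hℓg, -, hZg⟩ := hℓI g u₀ hu₀ v₀ hv₀ hnc
  refine ⟨b, c, hb, hbE, hbp, hcZ, hc1, hline, fun e he => ?_, ?_, ?_⟩
  · rw [← commutatorElement_inv]
    exact inv_mem (hℓg.le (hconjline g e he v₀ hv₀))
  swap
  · rw [hn]
    rcases (show m + 1 = 2 ∨ m + 1 = 3 by omega) with h | h <;> rw [h] <;> simp
  -- the centre is invariant
  refine M2.inv_of_conjSub_le M2.zOmega_le fun h => ?_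
  by_contra hne
  have hZh : M2.conjSub h Z ≠ Z := fun e => hne e.le
  have hcV : ∀ x ∈ M2.conjSub h V, ∀ u ∈ V, Commute x u := fun x hx u hu => by
    obtain ⟨w, hw, rfl⟩ := (M2.mem_conjSub hle).1 hx
    by_contra hn'
    exact hZh (hℓI h u hu w hw fun hc' => hn' hc'.symm).2.2
  have hcG : ∀ x ∈ M2.conjSub h V, ∀ y ∈ M2.conjSub g V, Commute x y := fun x hx y hy => by
    obtain ⟨w, hw, rfl⟩ := (M2.mem_conjSub hle).1 hx
    obtain ⟨w', hw', rfl⟩ := (M2.mem_conjSub hle).1 hy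
    by_contra hn'
    have h1 : ¬ Commute w (M2.cj (h⁻¹ * g) w') := fun hc' => hn' (by
      show _ * _ = _ * _
      have h2 := congrArg (M2.cj h) hc'.eq
      rwa [M2.cj_mul (hle hw) (M2.cj_mem (hle hw')), M2.cj_mul (M2.cj_mem (hle hw')) (hle hw),
        ← M2.cj_mul_left (hle hw'), mul_inv_cancel_left] at h2)
    have h2 := congrArg (M2.conjSub h) (hℓI _ w hw w' hw' h1).2.2
    rw [M2.conjSub_mul M2.zOmega_le, mul_inv_cancel_left, hZg] at h2
    exact hZh h2.symm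
  haveI hℓn : ℓ.Normal := ⟨fun x hx t => by
    rw [mem_center_iff.1 ((zpowers_le.2 hcZ.1 : ℓ ≤ center T) hx) t, mul_inv_cancel_right]; exact hx⟩
  set π := QuotientGroup.mk' ℓ
  have hab : ∀ k : M2.G, ∀ x ∈ M2.conjSub k V, ∀ y ∈ M2.conjSub k V, Commute x y := fun k x hx y hy => by
    obtain ⟨w, hw, rfl⟩ := (M2.mem_conjSub hle).1 hx
    obtain ⟨w', hw', rfl⟩ := (M2.mem_conjSub hle).1 hy
    show _ * _ = _ * _
    rw [← M2.cj_mul (hle hw) (hle hw'), ← M2.cj_mul (hle hw') (hle hw), (M1.V_comm w hw w' hw').eq]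
  have hpk : ∀ k : M2.G, ∀ x ∈ M2.conjSub k V, x ^ p = 1 := fun k x hx => by
    obtain ⟨w, hw, rfl⟩ := (M2.mem_conjSub hle).1 hx
    rw [← M2.cj_pow (hle hw), M1.V_pow w hw, M2.cj_one]
  have hmapc : ∀ {A : Subgroup T}, (∀ x ∈ A, ∀ y ∈ A, Commute x y) →
      ∀ x ∈ A.map π, ∀ y ∈ A.map π, Commute x y := by
    rintro A hA _ ⟨x, hx, rfl⟩ _ ⟨y, hy, rfl⟩
    exact (hA x hx y hy).map π
  have hmapp : ∀ {A : Subgroup T}, (∀ x ∈ A, x ^ p = 1) → ∀ x ∈ A.map π, x ^ p = 1 := by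
    rintro A hA _ ⟨x, hx, rfl⟩
    rw [← map_pow, hA x hx, map_one]
  have h12 := sup_comm_elem (hmapc M1.V_comm) (hmapc (hab g)) (by
    rintro _ ⟨x, hx, rfl⟩ _ ⟨y, hy, rfl⟩
    rw [← commutatorElement_eq_one_iff_commute, ← map_commutatorElement]
    refine (QuotientGroup.eq_one_iff _).2 ?_
    rw [← commutatorElement_inv]
    exact inv_mem (hline y x hx)) (hmapp M1.V_pow) (hmapp (hpk g))
  have hmc : ∀ x ∈ V.map π ⊔ (M2.conjSub g V).map π, ∀ y ∈ (M2.conjSub h V).map π, Commute x y := by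
    rintro x hx _ ⟨y, hy, rfl⟩
    have hle' : V.map π ⊔ (M2.conjSub g V).map π ≤ centralizer ({π y} : Set (T ⧸ ℓ)) := by
      refine sup_le ?_ ?_
      · rintro _ ⟨x, hx, rfl⟩
        exact mem_centralizer_singleton_iff.2 ((hcV y hy x hx).symm.map π).eq
      · rintro _ ⟨x, hx, rfl⟩
        exact mem_centralizer_singleton_iff.2 ((hcG y hy x hx).symm.map π).eq
    exact mem_centralizer_singleton_iff.1 (hle' hx)
  obtain ⟨h123, h123p⟩ := sup_comm_elem h12.1 (hmapc (hab h)) hmc h12.2 (hmapp (hpk h))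
  rw [← Subgroup.map_sup, ← Subgroup.map_sup] at h123 h123p
  set X1 := V ⊔ M2.conjSub g V
  set X := X1 ⊔ M2.conjSub h V
  have hX : Nat.card X ≤ p ^ 4 := by
    have h4 := elem_card_le (rankThreeLE_quotient hr ℓ) (X.map π) h123 h123p
    have h5 : ℓ ≤ X := (zpowers_le.2 (hZV hcZ)).trans (le_sup_left.trans le_sup_left)
    rw [← Subgroup.relIndex_ker, QuotientGroup.ker_mk'] at h4
    have h6 := Subgroup.relIndex_mul_relIndex ⊥ ℓ X bot_le h5
    rw [Subgroup.relIndex_bot_left, Subgroup.relIndex_bot_left, hℓc] at h6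
    rw [← h6, pow_succ']
    exact Nat.mul_le_mul_left p h4
  have hX1 : p ^ (m + 2) ≤ Nat.card X1 := by
    have h4 := card_sup V (M2.conjSub g V)
    have h5 : Nat.card (V ⊓ M2.conjSub g V : Subgroup T) ≤ p ^ m := by
      rw [← hm]
      exact Subgroup.card_le_of_le ((hmeet g u₀ hu₀ v₀ hv₀ hnc).trans inf_le_left)
    rw [hn, M2.card_conjSub hle, hn, ← pow_add] at h4
    refine Nat.le_of_mul_le_mul_right ?_ (pow_pos hp.out.pos m)
    rw [← pow_add, show m + 2 + m = m + 1 + (m + 1) by omega, ← h4]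
    exact Nat.mul_le_mul_left _ h5
  have hinf : X1 ⊓ M2.conjSub h V ≤ Z := by
    rintro x ⟨hx1, hx2⟩
    haveI := hVn
    obtain ⟨w, hw, y, hy, rfl⟩ := mem_sup_of_normal_left.1 hx1
    have hyc : Commute y u₀ := by
      have h1 : Commute (w⁻¹ * (w * y)) u₀ := ((M1.V_comm w hw u₀ hu₀).inv_left).mul_left (hcV _ hx2 u₀ hu₀)
      rwa [inv_mul_cancel_left] at h1
    obtain ⟨w', hw', rfl⟩ := (M2.mem_conjSub hle).1 hy
    have hyZ : M2.cj g w' ∈ Z := by
      refine hZg ▸ M2.cj_mem_conjSub M2.zOmega_le (M1.V_fixed_le (x := M2.cj g⁻¹ u₀) (fun he => hnc ?_) hw' ?_)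
      · have h1 : Commute (M2.cj g⁻¹ u₀) v₀ := ((M1.V_spec v₀ hv₀).1 _ he).symm
        have h2 := congrArg (M2.cj g) h1.eq
        rwa [M2.cj_mul (M2.cj_mem (hle hu₀)) (hle hv₀), M2.cj_mul (hle hv₀) (M2.cj_mem (hle hu₀)),
          M2.cj_cj_inv (hle hu₀)] at h2
      · have h2 := congrArg (M2.cj g⁻¹) hyc.symm.eq
        rwa [M2.cj_mul (hle hu₀) (M2.cj_mem (hle hw')), M2.cj_mul (M2.cj_mem (hle hw')) (hle hu₀),
          M2.cj_inv_cj (hle hw')] at h2
    exact M1.V_fixed_le hbE (mul_mem hw (hZV hyZ)) (hcG _ hx2 b hb).symm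
  have h4 := card_mul_le_sup X1 (M2.conjSub h V)
  have h5 : Nat.card (X1 ⊓ M2.conjSub h V : Subgroup T) ≤
      Nat.card (Z ⊓ M2.conjSub h V : Subgroup T) := Subgroup.card_le_of_le (le_inf hinf inf_le_right)
  obtain ⟨k, hk⟩ := card_eq_pow hT (Z ⊓ M2.conjSub h V)
  have hkm : k ≤ m := (Nat.pow_le_pow_iff_right hp.out.one_lt).1
    (hk ▸ hm ▸ Subgroup.card_le_of_le inf_le_left)
  rw [M2.card_conjSub hle, hn] at h4
  have h6 : p ^ (m + 2 + (m + 1)) ≤ p ^ (4 + k) := by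
    rw [pow_add, pow_add p 4, ← hk]
    exact ((Nat.mul_le_mul_right _ hX1).trans h4).trans (Nat.mul_le_mul hX h5)
  have h7 := (Nat.pow_le_pow_iff_right hp.out.one_lt).1 h6
  have hm1 : m = 1 := by omega
  have hk1 : k = 1 := by omega
  have hZle : Z ≤ M2.conjSub h V := by
    have h8 : Z ⊓ M2.conjSub h V = Z := Subgroup.eq_of_le_of_card_ge inf_le_left (by rw [hk, hm, hm1, hk1])
    exact h8 ▸ inf_le_right
  have hZhle : M2.conjSub h Z ≤ M2.conjSub h V := M2.conjSub_mono hZV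
  have hsum : Z ⊔ M2.conjSub h Z = M2.conjSub h V := by
    refine Subgroup.eq_of_le_of_card_ge (sup_le hZle hZhle) ?_
    obtain ⟨z, hz, hzZ⟩ : ∃ z ∈ M2.conjSub h Z, z ∉ Z := by
      by_contra h8
      push Not at h8
      exact hne h8
    have h8 := (lt_card_sup hT hzZ).trans
      (Subgroup.card_le_of_le (sup_le_sup_left (zpowers_le.2 hz) Z))
    rw [hm, ← pow_succ'] at h8
    rw [M2.card_conjSub hle, hn]
    exact h8
  have hcenE : M2.conjSub h V ≤ centralizer (M2.E : Set T) := by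
    rw [← hsum]
    refine sup_le (fun z hz => mem_centralizer_iff.2 fun e _ => mem_center_iff.1 hz.1 e) fun y hy => ?_
    obtain ⟨z, hz, rfl⟩ := (M2.mem_conjSub M2.zOmega_le).1 hy
    refine mem_centralizer_iff.2 fun e he => ?_
    have h2 := congrArg (M2.cj h) (mem_center_iff.1 hz.1 (M2.cj h⁻¹ e))
    rwa [M2.cj_mul (M2.cj_mem he) (M2.zOmega_le hz), M2.cj_mul (M2.zOmega_le hz) (M2.cj_mem he),
      M2.cj_cj_inv he] at h2
  refine hnc ?_
  have h2 := congrArg (M2.cj h⁻¹) (mem_centralizer_iff.1 (hcenE (M2.cj_mem_conjSub hle hu₀))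
    (M2.cj h (M2.cj g v₀)) (M2.cj_mem (M2.cj_mem (hle hv₀))))
  rw [M2.cj_mul (M2.cj_mem (M2.cj_mem (hle hv₀))) (M2.cj_mem (hle hu₀)),
    M2.cj_mul (M2.cj_mem (hle hu₀)) (M2.cj_mem (M2.cj_mem (hle hv₀))),
    M2.cj_inv_cj (M2.cj_mem (hle hv₀)), M2.cj_inv_cj (hle hu₀)] at h2
  exact h2.symm

theorem inv_centre (M : Mdl p T) : M.Inv (M.E ⊓ centralizer (M.E : Set T)) := M.inv_centralizer M.inv_E

/-- Case C is impossible. -/
theorem pairC_false (hT : IsPGroup p T) (hp2 : p ≠ 2) (hr : RankThreeLE p T) {M1 M2 : Mdl p T}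
    (hne : M1.E ≠ M2.E) (hV : M1.V ≠ zOmega p T) (hle : M1.V ≤ M2.E) {g : M2.G} {u₀ v₀ : T}
    (hu₀ : u₀ ∈ M1.V) (hv₀ : v₀ ∈ M1.V) (hnc : ¬ Commute u₀ (M2.cj g v₀)) : False := by
  obtain ⟨b, c, hd⟩ := exists_cdata hT hp2 hr hV hle hu₀ hv₀ hnc
  set Z := zOmega p T
  set V := M1.V
  set ℓ := zpowers c
  haveI hℓn : ℓ.Normal := ⟨fun x hx t => by
    rw [mem_center_iff.1 ((zpowers_le.2 hd.c_mem.1 : ℓ ≤ center T) hx) t, mul_inv_cancel_right]; exact hx⟩
  have hℓc : Nat.card ℓ = p := card_zpowers_eq hd.c_mem.2 hd.c_ne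
  obtain ⟨N, C, P⟩ := M1.exists_plane hT M1.inv_V (fun v hv e he => (M1.V_spec v hv).1 e he) M1.V_pow
    hd.card_V (x := b) hd.c_mem.1 (fun v hv => hd.line b v hv) (by
      by_contra h
      push Not at h
      exact hV (le_antisymm (fun v hv => M1.V_fixed_le hd.b_not hv
        (commutatorElement_eq_one_iff_commute.1 (h v hv))) M1.zOmega_le_V))
    (fun h => hV (le_antisymm ((M1.cl_le h (le_inf M1.zOmega_le_V fun z hz => hz.1)).trans
      fun v hv => ⟨hv.2, M1.V_pow v hv.1⟩) M1.zOmega_le_V))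
  obtain ⟨a, haN, haZ⟩ : ∃ a ∈ N, a ∉ Z := by
    by_contra h
    push Not at h
    exact hV (le_antisymm (P.sup_eq.ge.trans (sup_le h fun x hx => ⟨P.C_center hx, M1.V_pow x (P.C_le hx)⟩))
      M1.zOmega_le_V)
  have haV := P.N_le haN
  have haE2 := hle haV
  have hbE2 : b ∈ M2.E := M2.conjSub_le hle hd.b_mem
  have hba : ⁅b, a⁆ ≠ 1 := fun h => haZ (M1.V_fixed_le hd.b_not haV (commutatorElement_eq_one_iff_commute.1 h))
  have hcN : c ∈ N := by
    obtain ⟨i, hi⟩ := hd.line b a haV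
    have hm := P.comm_le b a haV
    rw [← hi] at hm
    refine mem_of_zpow_mem (by rw [hd.c_mem.2]; exact one_mem _) (fun hdd => hba ?_) hm
    rw [← hi]
    exact (zpow_eq_one_iff hd.c_mem.2 hd.c_ne i).2 hdd
  set z := ⁅b, a⁆
  have hzℓ : z ∈ ℓ := hd.line b a haV
  have hzgen : zpowers z = ℓ := Subgroup.eq_of_le_of_card_ge (zpowers_le.2 hzℓ) (by
    rw [card_zpowers_eq ((zpowers_le.2 hd.c_mem : ℓ ≤ Z) hzℓ).2 hba, hℓc])
  have hzc : z ∈ center T := (zpowers_le.2 hd.c_mem.1 : ℓ ≤ center T) hzℓ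
  have hzp : z ^ p = 1 := ((zpowers_le.2 hd.c_mem : ℓ ≤ Z) hzℓ).2
  -- the structure of the second subgroup
  set H := M1.E ⊓ M2.E
  haveI := M1.E_normal
  haveI := M2.E_normal
  have haH : a ∈ H := ⟨M1.inv_V.1 haV, haE2⟩
  have hCa : ∀ t, Commute t a → t ∈ M1.E := fun t ht => by
    by_contra htE
    exact haZ (M1.V_fixed_le htE haV ht)
  set D := H ⊓ centralizer ({b} : Set T)
  have hbH : ∀ h ∈ H, ∃ k : ℤ, a ^ (-k) * h ∈ D := fun h hh => by
    obtain ⟨k, hk⟩ := hzgen.ge (hd.b_line h hh.2)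
    refine ⟨k, mul_mem (zpow_mem haH _) hh, mem_centralizer_singleton_iff.2 ?_⟩
    have h1 : ⁅b, a ^ (-k) * h⁆ = 1 := by
      rw [Cfsg.Lib.PGroups.commutator_mul_right_of_central
        ((zpowers_le.2 hd.c_mem.1 : ℓ ≤ center T) (hd.b_line h hh.2)),
        commutator_zpow_right hzc, ← hk, ← zpow_add, neg_add_cancel, zpow_zero]
    exact (commutatorElement_eq_one_iff_commute.1 h1).eq.symm
  have hdecE2 : ∀ e ∈ M2.E, ∃ i j : ℤ, ∃ d ∈ D, e = b ^ i * (a ^ j * d) := fun e he => by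
    obtain ⟨i, h, hh, rfl⟩ := exists_decomp M1 hd.b_not e
    obtain ⟨k, hk⟩ := hbH h ⟨hh, (Subgroup.mul_mem_cancel_left _ (zpow_mem hbE2 i)).1 he⟩
    exact ⟨i, k, _, hk, by group⟩
  have haD : ∀ d ∈ D, Commute a d := fun d hd' => (M1.V_spec a haV).1 d hd'.1.1
  have hbD : ∀ d ∈ D, Commute b d := fun d hd' => (mem_centralizer_singleton_iff.1 hd'.2).symm
  set π := QuotientGroup.mk' ℓ
  have hπ : ∀ x y : T, ⁅x, y⁆ ∈ ℓ → Commute (π x) (π y) := fun x y h => by
    rw [← commutatorElement_eq_one_iff_commute, ← map_commutatorElement]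
    exact (QuotientGroup.eq_one_iff _).2 h
  have hww : ∀ i j i' j' : ℤ, ⁅b ^ i * a ^ j, b ^ i' * a ^ j'⁆ ∈ ℓ := fun i j i' j' => by
    refine (QuotientGroup.eq_one_iff _).1 ?_
    show π _ = 1
    rw [map_commutatorElement, commutatorElement_eq_one_iff_commute]
    simp only [map_mul, map_zpow]
    have hc' := hπ b a hzℓ
    exact (((Commute.refl _).zpow_zpow i i').mul_right (hc'.zpow_zpow i j')).mul_left
      ((hc'.symm.zpow_zpow j i').mul_right ((Commute.refl _).zpow_zpow j j'))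
  have hwd : ∀ (i j : ℤ), ∀ d ∈ D, Commute d (b ^ i * a ^ j) := fun i j d hd' =>
    ((hbD d hd').symm.zpow_right i).mul_right ((haD d hd').symm.zpow_right j)
  set K := ℓ ⊔ phi p D
  have hℓD : ℓ ≤ D := le_inf (le_inf (zpowers_le.2 (M1.zOmega_le hd.c_mem)) (zpowers_le.2 (M2.zOmega_le hd.c_mem)))
    (zpowers_le.2 (mem_centralizer_singleton_iff.2 (mem_center_iff.1 hd.c_mem.1 b).symm))
  have hKD : K ≤ D := sup_le hℓD (phi_le_self D)
  have hDE : D ≤ M2.E := inf_le_left.trans inf_le_right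
  have hE2sec : Nat.card M2.E ≤ p ^ 3 * Nat.card K := by
    refine hr M2.E K (hKD.trans hDE) (fun x hx y hy => ?_) fun x hx => ?_
    · obtain ⟨i, j, d, hd1, rfl⟩ := hdecE2 x hx
      obtain ⟨i', j', d', hd2, rfl⟩ := hdecE2 y hy
      rw [← mul_assoc, ← mul_assoc,
        mul_commutator_mul (hwd i' j' d hd1) (hwd i j d' hd2) (hwd i j d hd1) (hwd i' j' d' hd2)]
      exact mul_mem (mem_sup_left (hww i j i' j'))
        (mem_sup_right (mem_sup_left (commutator_mem_commutator hd1 hd2)))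
    · obtain ⟨i, j, d, hd1, rfl⟩ := hdecE2 x hx
      rw [← mul_assoc, (hwd i j d hd1).symm.mul_pow]
      refine mul_mem ?_ (mem_sup_right (mem_sup_right (pow_mem_pw hd1)))
      have hk : ∀ y : T, y ^ p = 1 → ∀ k : ℤ, (y ^ k) ^ p = 1 := fun y hy k => by
        rw [← zpow_natCast, ← zpow_mul, mul_comm, zpow_mul, zpow_natCast, hy, one_zpow]
      have hcc : ⁅a ^ j, b ^ i⁆ ∈ ℓ := by
        have := hww 0 j i 0
        rwa [zpow_zero, zpow_zero, one_mul, mul_one] at this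
      rw [Cfsg.Lib.PGroups.mul_pow_of_central ((zpowers_le.2 hd.c_mem.1 : ℓ ≤ center T) hcc), hk b hd.b_pow,
        hk a (M1.V_pow a haV), one_mul, one_mul]
      exact mem_sup_left (pow_mem hcc _)
  have hHc : Nat.card H = p * Nat.card D := by
    let f : H →* T :=
      { toFun := fun h => ⁅b, (h : T)⁆
        map_one' := by simp
        map_mul' := fun x y => Cfsg.Lib.PGroups.commutator_mul_right_of_central
          ((zpowers_le.2 hd.c_mem.1 : ℓ ≤ center T) (hd.b_line y y.2.2)) }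
    have hr' : f.range = ℓ := le_antisymm (by rintro _ ⟨h, rfl⟩; exact hd.b_line h h.2.2)
      (hzgen ▸ zpowers_le.2 ⟨⟨a, haH⟩, rfl⟩)
    have hk : Nat.card f.ker = Nat.card D := Nat.card_congr
      ⟨fun h => ⟨(h : H), (h : H).2, mem_centralizer_singleton_iff.2
        (commutatorElement_eq_one_iff_commute.1 h.2).eq.symm⟩,
        fun d => ⟨⟨d, d.2.1⟩, commutatorElement_eq_one_iff_commute.2 (hbD d d.2)⟩,
        fun _ => rfl, fun _ => rfl⟩
    have h1 := f.ker.card_mul_index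
    rw [Subgroup.index_ker, hr', hℓc, hk] at h1
    rw [← h1, mul_comm]
  have hE2c : p * Nat.card H ≤ Nat.card M2.E :=
    card_mul_le hT (lt_of_le_of_ne inf_le_right fun e => hd.b_not (e.ge hbE2).1)
  obtain ⟨d₀, hd₀, hDle⟩ : ∃ d₀ ∈ D, D ≤ ℓ ⊔ zpowers d₀ := by
    have hb2 : Nat.card D ≤ p * Nat.card K := by
      refine Nat.le_of_mul_le_mul_left ?_ (pow_pos hp.out.pos 2)
      calc p ^ 2 * Nat.card D = p * Nat.card H := by rw [hHc]; ring
        _ ≤ p ^ 3 * Nat.card K := hE2c.trans hE2sec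
        _ = p ^ 2 * (p * Nat.card K) := by ring
    obtain ⟨h₀, hh₀, hle'⟩ : ∃ h₀ ∈ D, D ≤ K ⊔ zpowers h₀ := by
      by_cases hKe : D ≤ K
      · exact ⟨1, one_mem _, hKe.trans le_sup_left⟩
      · obtain ⟨h₀, hh₀, hh₀K⟩ := SetLike.not_le_iff_exists.1 hKe
        exact ⟨h₀, hh₀, (Subgroup.eq_of_le_of_card_ge (sup_le hKD (zpowers_le.2 hh₀))
          (hb2.trans (lt_card_sup hT hh₀K))).ge⟩
    refine ⟨h₀, hh₀, le_of_sup_phi hT (sup_le hℓD (zpowers_le.2 hh₀)) (hle'.trans ?_)⟩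
    exact sup_le (sup_le (le_sup_left.trans le_sup_left) le_sup_right) (le_sup_right.trans le_sup_left)
  have hℓab : ∀ x ∈ ℓ, ∀ y : T, Commute x y := fun x hx y =>
    (mem_center_iff.1 ((zpowers_le.2 hd.c_mem.1 : ℓ ≤ center T) hx) y).symm
  have hDab : ∀ x ∈ D, ∀ y ∈ D, Commute x y := fun x hx y hy =>
    sup_pair_abelian (U := ℓ) (fun u hu w _ => hℓab u hu w) (fun w hw => (hℓab w hw d₀).symm)
      x (hDle hx) y (hDle hy)
  have hDcen : D = M2.E ⊓ centralizer (M2.E : Set T) := by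
    refine le_antisymm (le_inf hDE fun d hd' => ?_) fun x hx => ?_
    · refine mem_centralizer_iff.2 fun e he => ?_
      obtain ⟨i, j, d', hd2, rfl⟩ := hdecE2 e he
      exact (((hbD d hd').zpow_left i).mul_left (((haD d hd').zpow_left j).mul_left (hDab d' hd2 d hd'))).eq
    · exact Subgroup.mem_inf.2 ⟨Subgroup.mem_inf.2 ⟨hCa x (mem_centralizer_iff.1 hx.2 a haE2).symm, hx.1⟩,
        mem_centralizer_singleton_iff.2 (mem_centralizer_iff.1 hx.2 b hbE2).symm⟩
  have hDi : M2.Inv D := hDcen ▸ inv_centre M2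
  haveI hDn := M2.inv_normal hDi
  have hℓi : M2.Inv ℓ := by
    have : ⁅M2.E, M2.E⁆ = ℓ := by
      refine le_antisymm (Subgroup.commutator_le.2 fun x hx y hy => ?_)
        (hzgen ▸ zpowers_le.2 (commutator_mem_commutator hbE2 haE2))
      obtain ⟨i, j, d, hd1, rfl⟩ := hdecE2 x hx
      obtain ⟨i', j', d', hd2, rfl⟩ := hdecE2 y hy
      rw [← mul_assoc, ← mul_assoc,
        mul_commutator_mul (hwd i' j' d hd1) (hwd i j d' hd2) (hwd i j d hd1) (hwd i' j' d' hd2),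
        commutatorElement_eq_one_iff_commute.2 (hDab d hd1 d' hd2), mul_one]
      exact hww i j i' j'
    exact this ▸ M2.inv_commutator M2.inv_E M2.inv_E
  -- an element outside the second subgroup
  obtain ⟨y, hy, hyE⟩ := exists_not_mem_E hne
  obtain ⟨c1, hc1⟩ : ∃ c1, c1 = y⁻¹ * (b * y * b⁻¹) := ⟨_, rfl⟩
  have hc1H : c1 ∈ H := by
    refine Subgroup.mem_inf.2 ⟨hc1 ▸ mul_mem (inv_mem hy) (M1.E_normal.conj_mem y hy b), ?_⟩
    rw [show c1 = (y⁻¹ * b * y⁻¹⁻¹) * b⁻¹ by simp only [hc1, inv_inv, mul_assoc]]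
    exact mul_mem (M2.E_normal.conj_mem b hbE2 y⁻¹) (inv_mem hbE2)
  obtain ⟨i, hi⟩ := hbH c1 hc1H
  have hya : Commute y a := ((M1.V_spec a haV).1 y hy).symm
  have hi0 : ¬ (p : ℤ) ∣ i := by
    intro hdd
    refine hyE ?_
    have hc1D : c1 ∈ D := by
      rwa [(orderOf_dvd_iff_zpow_eq_one.1 ((Int.natCast_dvd_natCast.2
        (orderOf_dvd_of_pow_eq_one (M1.V_pow a haV))).trans (dvd_neg.2 hdd)) : a ^ (-i) = 1), one_mul] at hi
    set πD := QuotientGroup.mk' D
    have hyD : ∀ e ∈ M2.E, ⁅y, e⁆ ∈ D := fun e he => by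
      obtain ⟨k, j, d, hd1, rfl⟩ := hdecE2 e he
      refine (QuotientGroup.eq_one_iff _).1 ?_
      show πD _ = 1
      have hyb : Commute (πD y) (πD b) := by
        have h1 : πD c1 = 1 := (QuotientGroup.eq_one_iff _).2 hc1D
        simp only [hc1, map_mul, map_inv] at h1
        rw [inv_mul_eq_one, eq_mul_inv_iff_mul_eq] at h1
        exact h1
      rw [map_commutatorElement, commutatorElement_eq_one_iff_commute]
      simp only [map_mul, map_zpow]
      exact (hyb.zpow_right k).mul_right (((hya.map πD).zpow_right j).mul_right (by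
        rw [show πD d = 1 from (QuotientGroup.eq_one_iff _).2 hd1]; exact Commute.one_right _))
    -- the chain of powers
    have hzs : ∀ (x : T) (m : ℤ), (x ^ m) ^ p = (x ^ p) ^ m := fun x m => by
      rw [← zpow_natCast, ← zpow_mul, mul_comm, zpow_mul, zpow_natCast]
    let Pk : ℕ → Subgroup T := fun k => Nat.rec D (fun _ X => pw p X) k
    have hPinv : ∀ k, M2.Inv (Pk k) := fun k => by
      induction k with
      | zero => exact hDi
      | succ k ih => exact M2.inv_pw ih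
    have hPle : ∀ k, Pk k ≤ ℓ ⊔ zpowers (d₀ ^ p ^ k) ∧ d₀ ^ p ^ k ∈ Pk k := fun k => by
      induction k with
      | zero => exact ⟨by rw [pow_zero, pow_one]; exact hDle, by rw [pow_zero, pow_one]; exact hd₀⟩
      | succ k ih =>
        refine ⟨pw_le_iff.2 fun x hx => ?_, by rw [pow_succ, pow_mul]; exact pow_mem_pw ih.2⟩
        obtain ⟨m, l, hl, rfl⟩ := mem_sup_zpowers (ih.1 hx)
        rw [((hℓab l hl _).symm : Commute ((d₀ ^ p ^ k) ^ m) l).mul_pow, pow_succ,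
          ((zpowers_le.2 hd.c_mem : ℓ ≤ Z) hl).2, mul_one, hzs _ m, ← pow_mul]
        exact mem_sup_right (zpow_mem (mem_zpowers _) _)
    obtain ⟨n₀, hn₀⟩ := hT d₀
    refine M2.stab hT (n := n₀ + 2)
      (fun k => if k = 0 then M2.E else if k ≤ n₀ + 1 then Pk (k - 1) ⊔ ℓ else ⊥) (by simp)
      (by simp) (fun k hk => ?_) fun k hk e he => ?_
    · by_cases h0 : k = 0
      · simp only [h0, if_true]; exact M2.inv_E
      · simp only [h0, if_false, show k ≤ n₀ + 1 by omega, if_true]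
        exact M2.inv_sup (hPinv _) hℓi
    · by_cases h0 : k = 0
      · subst h0
        simp only [if_true] at he
        simp only [zero_add, one_ne_zero, if_false, Nat.le_add_left, if_true, Nat.sub_self]
        exact mem_sup_left (hyD e he)
      · simp only [h0, if_false, show k ≤ n₀ + 1 by omega, if_true] at he
        simp only [Nat.add_eq_zero_iff, one_ne_zero, and_false, if_false, Nat.add_sub_cancel]
        by_cases hk' : k + 1 ≤ n₀ + 1
        · simp only [hk', if_true]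
          obtain ⟨j, rfl⟩ : ∃ j, k = j + 1 := ⟨k - 1, by omega⟩
          simp only [Nat.add_sub_cancel] at he
          haveI := M2.inv_normal (M2.inv_sup (hPinv (j + 1)) hℓi)
          set πk := QuotientGroup.mk' (Pk (j + 1) ⊔ ℓ)
          haveI := M2.inv_normal (M2.inv_sup (hPinv j) hℓi)
          set Q := (Pk j ⊔ ℓ).map πk
          haveI : Q.Normal := Subgroup.Normal.map (M2.inv_normal (M2.inv_sup (hPinv j) hℓi)) _ (QuotientGroup.mk'_surjective _)
          refine (QuotientGroup.eq_one_iff _).1 ?_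
          show πk _ = 1
          have hQle : Q ≤ zpowers (πk (d₀ ^ p ^ j)) := by
            refine Subgroup.map_le_iff_le_comap.2 ((sup_le (hPle j).1 le_sup_left).trans (sup_le ?_ ?_))
            · intro l hl
              rw [mem_comap, show πk l = 1 from (QuotientGroup.eq_one_iff _).2 (mem_sup_right hl)]
              exact one_mem _
            · exact zpowers_le.2 (mem_zpowers (πk (d₀ ^ p ^ j)))
          rw [map_commutatorElement, commutatorElement_eq_one_iff_commute]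
          have hzp' : πk (d₀ ^ p ^ j) ^ p = 1 := by
            rw [← map_pow, ← pow_mul, ← pow_succ]
            exact (QuotientGroup.eq_one_iff _).2 (mem_sup_left (hPle (j + 1)).2)
          have hQc : Q ≤ center _ := by
            by_cases hQb : Q = ⊥
            · rw [hQb]; exact bot_le
            · refine Cfsg.Lib.PGroups.le_center_of_card_eq_prime (hT.to_quotient _) (le_antisymm ?_ ?_)
              · refine (Subgroup.card_le_of_le hQle).trans ?_
                rw [Nat.card_zpowers]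
                exact orderOf_le_of_pow_eq_one hp.out.pos hzp'
              · obtain ⟨m, hm⟩ := IsPGroup.iff_card.1 ((hT.to_quotient _).to_subgroup Q)
                rw [hm]
                exact Nat.le_self_pow (fun e => hQb (Subgroup.card_eq_one.1 (by rw [hm, e, pow_zero]))) p
          exact mem_center_iff.1 (hQc (mem_map_of_mem _ he)) _
        · simp only [hk', if_false]
          have hkn : k = n₀ + 1 := by omega
          subst hkn
          simp only [Nat.add_sub_cancel] at he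
          have h1 : Pk n₀ ⊔ ℓ ≤ ℓ := by
            refine sup_le ((hPle n₀).1.trans ?_) le_rfl
            rw [hn₀, zpowers_one_eq_bot, sup_bot_eq]
          exact mem_bot.2 (commutatorElement_eq_one_iff_commute.2 (hℓab e (h1 he) y).symm)
  -- the derived subgroup of the first one
  set πD := QuotientGroup.mk' D
  have hdecE1 : ∀ e ∈ M1.E, ∃ k : ℤ, ∃ h ∈ H, e = y ^ k * h := fun e he => by
    obtain ⟨k, h, hh, rfl⟩ := exists_decomp M2 hyE e
    exact ⟨k, h, ⟨(Subgroup.mul_mem_cancel_left _ (zpow_mem hy k)).1 he, hh⟩, rfl⟩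
  have hHπ : ∀ h ∈ H, ∃ k : ℤ, πD h = πD a ^ k := fun h hh => by
    obtain ⟨k, hk⟩ := hbH h hh
    refine ⟨k, ?_⟩
    have h1 : πD (a ^ (-k) * h) = 1 := (QuotientGroup.eq_one_iff _).2 hk
    rwa [map_mul, map_zpow, zpow_neg, inv_mul_eq_one, eq_comm] at h1
  have hE1' : ⁅M1.E, M1.E⁆ ≤ D := Subgroup.commutator_le.2 fun x hx x' hx' => by
    obtain ⟨k, h, hh, rfl⟩ := hdecE1 x hx
    obtain ⟨k', h', hh', rfl⟩ := hdecE1 x' hx'
    obtain ⟨m, hm⟩ := hHπ h hh
    obtain ⟨m', hm'⟩ := hHπ h' hh'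
    refine (QuotientGroup.eq_one_iff _).1 ?_
    show πD _ = 1
    rw [map_commutatorElement, commutatorElement_eq_one_iff_commute]
    simp only [map_mul, map_zpow, hm, hm']
    have hc' := hya.map πD
    exact (((Commute.refl _).zpow_zpow k k').mul_right (hc'.zpow_zpow k m')).mul_left
      ((hc'.symm.zpow_zpow m k').mul_right ((Commute.refl _).zpow_zpow m m'))
  have hN1 : ∀ U : Subgroup T, M1.Inv U → (a ∈ U → False) → ∀ x ∈ U, x ∈ N → x = 1 := by
    intro U hU haU x hx hxN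
    rcases P.irr (U ⊓ N) inf_le_right (M1.inv_inf hU P.inv_N) with h | h
    · exact mem_bot.1 (h ▸ ⟨hx, hxN⟩)
    · exact (haU (h.ge haN).1).elim
  set E1' := ⁅M1.E, M1.E⁆
  have hE1'N : ∀ x ∈ E1', x ∈ N → x = 1 := hN1 E1' (M1.inv_commutator M1.inv_E M1.inv_E) fun ha' =>
    hba (commutatorElement_eq_one_iff_commute.2 (hbD a (hE1' ha')))
  -- the powers of the commutator
  have hσa : b * a * b⁻¹ = z * a := by simp [z, commutatorElement_def]
  set d' := a ^ (-i) * c1 with hd'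
  have hσc1 : b * c1 * b⁻¹ = z ^ i * c1 := by
    have h1 : c1 = a ^ i * d' := by rw [hd']; group
    rw [h1, ← conj_mul, ← conj_zpow, hσa, (hbD d' hi).eq, mul_inv_cancel_right,
      ((hℓab z hzℓ a).mul_zpow i), mul_assoc]
  have hiter : ∀ n : ℕ, b ^ n * y * (b ^ n)⁻¹ = y * c1 ^ n * (z ^ i) ^ (n.choose 2) := fun n => by
    induction n with
    | zero => simp
    | succ n ih =>
      have hc2 : Commute (z ^ i) c1 := (hℓab z hzℓ c1).zpow_left i
      have hbz : Commute b (z ^ i) := ((hℓab z hzℓ b).zpow_left i).symm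
      rw [pow_succ', mul_inv_rev, show b * b ^ n * y * ((b ^ n)⁻¹ * b⁻¹) =
        b * (b ^ n * y * (b ^ n)⁻¹) * b⁻¹ by group, ih, ← conj_mul, ← conj_mul, ← conj_pow, hσc1,
        hc2.mul_pow, (hbz.pow_right _).eq, mul_inv_cancel_right,
        show b * y * b⁻¹ = y * c1 by simp [hc1],
        pow_succ' c1 n, Nat.choose_succ_succ, Nat.choose_one_right, pow_add (z ^ i) n,
        show (z ^ i) ^ n * c1 ^ n = c1 ^ n * (z ^ i) ^ n from (hc2.pow_pow n n).eq]
      group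
  have hc1p : c1 ^ p = 1 := by
    have h1 := hiter p
    rw [hd.b_pow, one_mul, inv_one, mul_one, mul_assoc, left_eq_mul] at h1
    obtain ⟨k, hk⟩ := Cfsg.Lib.PGroups.dvd_choose_two hp.out hp2
    rwa [hk, pow_mul, ← zpow_natCast (z ^ i), ← zpow_mul, mul_comm, zpow_mul, zpow_natCast z, hzp,
      one_zpow, one_pow, mul_one] at h1
  -- the Frattini subgroup misses the plane
  set Φ := phi p M1.E
  haveI hE1'n : E1'.Normal := M1.inv_normal (M1.inv_commutator M1.inv_E M1.inv_E)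
  set π' := QuotientGroup.mk' E1'
  have hab' : ∀ x ∈ M1.E, ∀ x' ∈ M1.E, Commute (π' x) (π' x') := fun x hx x' hx' => by
    rw [← commutatorElement_eq_one_iff_commute, ← map_commutatorElement]
    exact (QuotientGroup.eq_one_iff _).2 (commutator_mem_commutator hx hx')
  have hpowσ : ∀ x ∈ M1.E, π' (b * x * b⁻¹) ^ p = π' x ^ p := by
    let W : Subgroup T :=
      { carrier := {x | x ∈ M1.E ∧ π' (b * x * b⁻¹) ^ p = π' x ^ p}
        one_mem' := ⟨one_mem _, by simp⟩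
        mul_mem' := fun {x x'} hx hx' => ⟨mul_mem hx.1 hx'.1, by
          rw [← conj_mul, map_mul π' (b * x * b⁻¹) (b * x' * b⁻¹), map_mul π' x x',
            (hab' _ (M1.E_normal.conj_mem x hx.1 b) _ (M1.E_normal.conj_mem x' hx'.1 b)).mul_pow,
            (hab' x hx.1 x' hx'.1).mul_pow, hx.2, hx'.2]⟩
        inv_mem' := fun {x} hx => ⟨inv_mem hx.1, by
          rw [show b * x⁻¹ * b⁻¹ = (b * x * b⁻¹)⁻¹ by group, map_inv, map_inv, inv_pow, inv_pow, hx.2]⟩ }
    intro x hx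
    obtain ⟨k, h, hh, rfl⟩ := hdecE1 x hx
    suffices hmem : y ∈ W ∧ h ∈ W from (W.mul_mem (W.zpow_mem hmem.1 k) hmem.2).2
    refine ⟨⟨hy, ?_⟩, ⟨hh.1, ?_⟩⟩
    · rw [show b * y * b⁻¹ = y * c1 by simp [hc1], map_mul, (hab' y hy c1 hc1H.1).mul_pow, ← map_pow _ c1,
        hc1p, map_one, mul_one]
    · obtain ⟨m, hm⟩ := hzgen.ge (hd.b_line h hh.2)
      rw [show b * h * b⁻¹ = z ^ m * h by rw [show z ^ m = ⁅b, h⁆ from hm]; simp [commutatorElement_def], map_mul,
        (((hℓab z hzℓ h).zpow_left m).map π').mul_pow, ← map_pow _ (z ^ m), ← zpow_natCast (z ^ m), ← zpow_mul,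
        mul_comm m, zpow_mul, zpow_natCast, hzp, one_zpow, map_one, one_mul]
  have haΦ : a ∉ Φ := by
    intro ha'
    let W : Subgroup T :=
      { carrier := {x | π' (b * x * b⁻¹) = π' x}
        one_mem' := by simp
        mul_mem' := fun {x x'} hx hx' => by
          show π' _ = π' _
          rw [← conj_mul, map_mul π' (b * x * b⁻¹), map_mul π' x,
            show π' (b * x * b⁻¹) = π' x from hx, show π' (b * x' * b⁻¹) = π' x' from hx']
        inv_mem' := fun {x} hx => by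
          show π' _ = π' _
          rw [show b * x⁻¹ * b⁻¹ = (b * x * b⁻¹)⁻¹ by group, map_inv, map_inv,
            show π' (b * x * b⁻¹) = π' x from hx] }
    have hΦW : Φ ≤ W := sup_le (fun x hx => by
        show π' _ = π' _
        rw [show π' x = 1 from (QuotientGroup.eq_one_iff _).2 hx]
        exact (QuotientGroup.eq_one_iff _).2 (hE1'n.conj_mem x hx b))
      (pw_le_iff.2 fun x hx => by
        show π' _ = π' _
        rw [← conj_pow, map_pow, map_pow, hpowσ x hx])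
    have h1 : π' (b * a * b⁻¹) = π' a := hΦW ha'
    rw [hσa, map_mul, mul_eq_right] at h1
    exact hba (hE1'N z ((QuotientGroup.eq_one_iff _).1 h1) ((zpowers_le.2 hcN : ℓ ≤ N) hzℓ))
  have hΦN : ∀ x ∈ Φ, x ∈ N → x = 1 := hN1 Φ (M1.inv_phi M1.inv_E) haΦ
  haveI hΦn : Φ.Normal := M1.inv_normal (M1.inv_phi M1.inv_E)
  -- the complement of the plane
  have hΦH : Φ ≤ H := le_inf (phi_le_self _) (sup_le
    (Subgroup.commutator_le.2 fun x _ x' _ => M2.commutator_mem_E x x')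
    (pw_le_iff.2 fun x _ => M2.pow_mem_E x))
  have hNH : N ≤ H := le_inf P.inv_N.1 (P.N_le.trans hle)
  have hHeq : N ⊔ Φ = H := by
    refine Subgroup.eq_of_le_of_card_ge (sup_le hNH hΦH) ?_
    haveI := M1.inv_normal P.inv_N
    have h1 := card_sup N Φ
    rw [show N ⊓ Φ = ⊥ from eq_bot_iff.2 fun x hx => mem_bot.2 (hΦN x hx.2 hx.1),
      Subgroup.card_bot, mul_one, P.card_N] at h1
    have h2 := card_mul_le hT (K := H) (L := M1.E) (lt_of_le_of_ne inf_le_left fun e => hyE (e.ge hy).2)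
    have h3 := hr M1.E Φ (phi_le_self _) (fun x hx x' hx' => mem_sup_left (commutator_mem_commutator hx hx'))
      fun x hx => mem_sup_right (pow_mem_pw hx)
    rw [h1]
    refine Nat.le_of_mul_le_mul_left ?_ hp.out.pos
    calc p * Nat.card H ≤ p ^ 3 * Nat.card Φ := h2.trans h3
      _ = p * (p ^ 2 * Nat.card Φ) := by ring
  set πF := QuotientGroup.mk' Φ
  have habF : ∀ x ∈ M1.E, ∀ x' ∈ M1.E, Commute (πF x) (πF x') := fun x hx x' hx' => by
    rw [← commutatorElement_eq_one_iff_commute, ← map_commutatorElement]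
    exact (QuotientGroup.eq_one_iff _).2 (mem_sup_left (commutator_mem_commutator hx hx'))
  have hHi : M1.Inv H := hHeq ▸ M1.inv_sup P.inv_N (M1.inv_phi M1.inv_E)
  obtain ⟨g₀, hg₀, hgn, hgN, -⟩ := P.neg
  obtain ⟨b', hb'⟩ := hgn b
  have hcjσ : ∀ x ∈ M1.E, M1.cj g₀ (b * x * b⁻¹) = b' * M1.cj g₀ x * b'⁻¹ := fun x hx =>
    M1.cj_eq (M1.E_normal.conj_mem x hx b) (by
      simp only [map_mul, map_inv, hb', M1.ι_cj hx]; group)
  have haE1 := M1.inv_V.1 haV
  have hzN : z ∈ N := (zpowers_le.2 hcN : ℓ ≤ N) hzℓ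
  set e := b⁻¹ * b'
  have he : e ∈ M1.E := by
    refine hCa e ?_
    have h1 := hcjσ a haE1
    rw [hσa, hgN _ (mul_mem hzN haN), hgN a haN, mul_inv_rev] at h1
    have h2 := congrArg (·⁻¹) h1
    simp only [mul_inv_rev, inv_inv] at h2
    rw [← mul_assoc, ← hσa] at h2
    show b⁻¹ * b' * a = a * (b⁻¹ * b')
    calc b⁻¹ * b' * a = b⁻¹ * (b' * a * b'⁻¹) * b' := by group
      _ = a * (b⁻¹ * b') := by rw [← h2]; group
  have hσF : ∀ x ∈ M1.E, πF (b' * x * b'⁻¹) = πF (b * x * b⁻¹) := fun x hx => by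
    rw [show b' * x * b'⁻¹ = b * (e * x * e⁻¹) * b⁻¹ by simp only [e]; group]
    simp only [map_mul, map_inv, (habF e he x hx).eq, mul_inv_cancel_right]
  obtain ⟨m, hm, hym⟩ : ∃ m ∈ H, M1.cj g₀ y = y * m := by
    refine ⟨y⁻¹ * M1.cj g₀ y, ?_, by rw [mul_inv_cancel_left]⟩
    have h1 := M1.L_trivial hHi M1.inv_E
      (fun t e' he' => ⟨commutator_zero_le M1.inv_E t he', M2.commutator_mem_E t e'⟩) g₀ hg₀ y hy
    haveI := M1.inv_normal hHi
    have h2 := (M1.inv_normal hHi).conj_mem _ h1 y⁻¹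
    rwa [inv_inv, mul_assoc, inv_mul_cancel_right] at h2
  have hc1neg : πF (M1.cj g₀ c1) = (πF c1)⁻¹ := by
    obtain ⟨n, hn, f, hf, hnf⟩ := mem_sup_of_normal_right.1 (hHeq.ge hc1H)
    rw [← hnf, M1.cj_mul (P.inv_N.1 hn) (phi_le_self _ hf), hgN n hn, map_mul, map_mul,
      show πF f = 1 from (QuotientGroup.eq_one_iff _).2 hf,
      show πF (M1.cj g₀ f) = 1 from (QuotientGroup.eq_one_iff _).2 ((M1.inv_phi M1.inv_E).2 g₀ f hf),
      mul_one, mul_one, map_inv]
  obtain ⟨s, hs⟩ := hzgen.ge (hd.b_line m hm.2)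
  have hmain : (πF c1)⁻¹ = πF c1 * πF z ^ s := by
    have h1 := congrArg πF (hcjσ y hy)
    rw [show b * y * b⁻¹ = y * c1 by simp [hc1], M1.cj_mul hy hc1H.1, map_mul, hc1neg, hym,
      hσF _ (mul_mem hy hm.1), ← conj_mul, show b * y * b⁻¹ = y * c1 by simp [hc1],
      show b * m * b⁻¹ = z ^ s * m by
        rw [show z ^ s = ⁅b, m⁆ from hs]; simp [commutatorElement_def], map_mul, map_mul,
      map_mul, map_mul, map_zpow] at h1
    have hcm : Commute (πF m) (πF c1 * πF z ^ s) := (habF m hm.1 c1 hc1H.1).mul_right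
      (((habF m hm.1 z (P.inv_N.1 hzN))).zpow_right s)
    rw [mul_assoc (πF y), mul_assoc (πF y), mul_right_inj, ← mul_assoc (πF c1), ← hcm.eq] at h1
    exact mul_left_cancel h1
  have hsq : c1 ^ (2 : ℤ) ∈ ℓ ⊔ Φ := by
    have h1 : πF (c1 * c1 * z ^ s) = 1 := by
      rw [map_mul, map_mul, map_zpow, mul_assoc, ← hmain, mul_inv_cancel]
    have h2 := mem_sup_right (S := ℓ) ((QuotientGroup.eq_one_iff _).1 h1)
    have h3 : z ^ (-s) ∈ ℓ ⊔ Φ := mem_sup_left (zpow_mem hzℓ _)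
    have h4 := mul_mem h2 h3
    rwa [mul_assoc, ← zpow_add, add_neg_cancel, zpow_zero, mul_one, ← zpow_two] at h4
  have hc1Φ : c1 ∈ ℓ ⊔ Φ := mem_of_zpow_mem (by rw [hc1p]; exact one_mem _)
    (fun hdd => hp2 ((Nat.prime_dvd_prime_iff_eq hp.out Nat.prime_two).1 (by exact_mod_cast hdd))) hsq
  obtain ⟨l, hl, f, hf, hlf⟩ := mem_sup_of_normal_left.1 hc1Φ
  have hzΦ : z ^ i ∈ Φ := by
    have h1 : z ^ i = ⁅b, c1⁆ := by rw [commutatorElement_def, hσc1, mul_inv_cancel_right]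
    rw [h1, ← hlf, Cfsg.Lib.PGroups.mul_right_commutator,
      commutatorElement_eq_one_iff_commute.2 (hℓab l hl b).symm, one_mul]
    exact hΦn.conj_mem _ (mul_mem (hΦn.conj_mem f hf b) (inv_mem hf)) l
  exact hba (by
    have h1 := hΦN _ hzΦ (zpow_mem hzN i)
    exact absurd ((zpow_eq_one_iff hzp hba i).1 h1) hi0)

end Cfsg.Lib.Fusion.RankThreePair
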