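import Mathlib

/-!
An abelian `p`-group with two transvection-like automorphisms of order `p` has exponent `p`, for `p ≥ 5`.
-/

set_option autoImplicit false
set_option linter.unusedSectionVars false

namespace Cfsg.Lib.Fusion.RankThreePair

universe u

variable {p : ℕ} [hp : Fact p.Prime] {N : Type u} [AddCommGroup N]

/-- One transvection-like automorphism pushes the second generator down. -/
theorem nsmul_eq_sq_of_step (hp5 : 5 ≤ p) {a b : N} (hgen : AddSubgroup.closure ({a, b} : Set N) = ⊤)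
    {τ : AddMonoid.End N} (hτ : τ ^ p = 1) (ta : ∃ w, τ a = a + b + p • w)
    (tb : ∃ w, τ b = b + p • w) : ∃ u, p • b = (p * p) • u := by
  set D : AddMonoid.End N := τ - 1 with hD
  have hDapp : ∀ x, D x = τ x - x := fun x => rfl
  have hDb : ∃ w, D b = p • w := by
    obtain ⟨w, hw⟩ := tb
    exact ⟨w, by rw [hDapp, hw, add_sub_cancel_left]⟩
  have hDa : ∃ w, D a = b + p • w := by
    obtain ⟨w, hw⟩ := ta
    exact ⟨w, by rw [hDapp, hw]; abel⟩
  have hgood : ∀ x : N, ∃ (i : ℤ) (w : N), D x = i • b + p • w := by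
    let H : AddSubgroup N :=
      { carrier := {x | ∃ (i : ℤ) (w : N), D x = i • b + p • w}
        zero_mem' := ⟨0, 0, by simp⟩
        add_mem' := by
          rintro x y ⟨i, w, hx⟩ ⟨j, v, hy⟩
          exact ⟨i + j, w + v, by rw [map_add, hx, hy, add_zsmul, smul_add]; abel⟩
        neg_mem' := by
          rintro x ⟨i, w, hx⟩
          exact ⟨-i, -w, by rw [map_neg, hx, neg_zsmul, smul_neg]; abel⟩ }
    have hle : AddSubgroup.closure ({a, b} : Set N) ≤ H := (AddSubgroup.closure_le _).2 (by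
      rintro x (rfl | rfl)
      · obtain ⟨w, hw⟩ := hDa; exact ⟨1, w, by rw [one_zsmul]; exact hw⟩
      · obtain ⟨w, hw⟩ := hDb; exact ⟨0, w, by rw [zero_zsmul, zero_add]; exact hw⟩)
    intro x
    exact hle (hgen.ge trivial)
  have hD2 : ∀ x : N, ∃ w, (D ^ 2) x = p • w := fun x => by
    obtain ⟨i, w, hw⟩ := hgood x
    obtain ⟨v, hv⟩ := hDb
    refine ⟨i • v + D w, ?_⟩
    rw [sq, AddMonoid.End.coe_mul, Function.comp_apply, hw, map_add, map_zsmul, map_nsmul, hv, smul_add,
      smul_comm]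
  let Q : AddSubgroup N := (nsmulAddMonoidHom (α := N) (p * p)).range
  have hhigh : ∀ k, 2 ≤ k → k ≤ p → p.choose k • (D ^ k) a ∈ Q := by
    intro k hk hkp
    rcases lt_or_eq_of_le hkp with h | h
    · obtain ⟨m, hm⟩ := hp.out.dvd_choose_self (by omega) h
      obtain ⟨j, rfl⟩ : ∃ j, k = 2 + j := ⟨k - 2, by omega⟩
      obtain ⟨w, hw⟩ := hD2 ((D ^ j) a)
      refine ⟨m • w, ?_⟩
      show (p * p) • m • w = _
      rw [pow_add, AddMonoid.End.coe_mul, Function.comp_apply, hw, hm]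
      simp only [← mul_nsmul']
      congr 1
      ring
    · obtain ⟨j, hj⟩ : ∃ j, p = 2 + (2 + j) := ⟨p - 4, by omega⟩
      obtain ⟨w, hw⟩ := hD2 ((D ^ j) a)
      obtain ⟨v, hv⟩ := hD2 w
      refine ⟨v, ?_⟩
      show (p * p) • v = _
      rw [h, Nat.choose_self, one_nsmul, show D ^ p = D ^ (2 + (2 + j)) from congrArg (D ^ ·) hj, pow_add, pow_add,
        AddMonoid.End.coe_mul, Function.comp_apply, AddMonoid.End.coe_mul, Function.comp_apply, hw,
        map_nsmul, hv, mul_nsmul']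
  have hsum : (∑ k ∈ Finset.range (p + 1), p.choose k • (D ^ k) a) = a := by
    have h := (Commute.one_right D).add_pow p
    rw [hD, sub_add_cancel, hτ, ← hD] at h
    let ev : AddMonoid.End N →+ N := AddMonoidHom.mk' (fun f => f a) fun _ _ => rfl
    have h2 := congrArg ev h
    rw [map_sum] at h2
    refine Eq.trans ?_ h2.symm
    refine Finset.sum_congr rfl fun k _ => ?_
    show _ = (D ^ k * 1 ^ (p - k) * (p.choose k : AddMonoid.End N)) a
    rw [one_pow, mul_one, ← (Nat.cast_commute (p.choose k) (D ^ k)).eq, AddMonoid.End.coe_mul,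
      Function.comp_apply, AddMonoid.End.natCast_apply]
  obtain ⟨q, hq⟩ : ∃ q, p + 1 = 2 + q := ⟨p - 1, by omega⟩
  rw [hq, Finset.sum_range_add, Finset.sum_range_succ, Finset.sum_range_one, Nat.choose_zero_right,
    Nat.choose_one_right, pow_zero, pow_one, one_nsmul, AddMonoid.End.coe_one, id_eq, add_assoc,
    add_eq_left] at hsum
  obtain ⟨u, hu⟩ := Q.sum_mem (t := Finset.range q) (f := fun x => p.choose (2 + x) • (D ^ (2 + x)) a)
    fun x hx => hhigh _ (by omega) (by have := Finset.mem_range.1 hx; omega)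
  obtain ⟨w, hw⟩ := hDa
  refine ⟨-w - u, ?_⟩
  rw [hw, smul_add, ← hu] at hsum
  rw [smul_sub, smul_neg, mul_nsmul']
  show p • b = -(p • p • w) - (nsmulAddMonoidHom (p * p)) u
  rw [eq_sub_iff_add_eq, eq_neg_iff_add_eq_zero, ← hsum]
  abel

/-- Two opposite transvection-like automorphisms force exponent `p`. -/
theorem nsmul_eq_zero_of_natural [Finite N] (hp5 : 5 ≤ p) {n : ℕ} (hN : Nat.card N = p ^ n) {a b : N}
    (hgen : AddSubgroup.closure ({a, b} : Set N) = ⊤) {τ σ : AddMonoid.End N} (hτ : τ ^ p = 1)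
    (hσ : σ ^ p = 1) (ta : ∃ w, τ a = a + b + p • w) (tb : ∃ w, τ b = b + p • w)
    (sa : ∃ w, σ a = a + p • w) (sb : ∃ w, σ b = b - a + p • w) : ∀ x : N, p • x = 0 := by
  obtain ⟨u, hu⟩ := nsmul_eq_sq_of_step hp5 hgen hτ ta tb
  have hgen' : AddSubgroup.closure ({b, -a} : Set N) = ⊤ := by
    refine eq_top_iff.2 (hgen ▸ (AddSubgroup.closure_le _).2 ?_)
    rintro x (h | h) <;> subst h
    · exact neg_mem_iff.1 (AddSubgroup.subset_closure (Or.inr rfl))
    · exact AddSubgroup.subset_closure (Or.inl rfl)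
  obtain ⟨v, hv⟩ := nsmul_eq_sq_of_step hp5 hgen' hσ
    (by obtain ⟨w, hw⟩ := sb; exact ⟨w, by rw [hw, sub_eq_add_neg]⟩)
    (by obtain ⟨w, hw⟩ := sa; exact ⟨-w, by rw [map_neg, hw, smul_neg]; abel⟩)
  have hall : ∀ x : N, ∃ z, p • x = (p * p) • z := by
    let H : AddSubgroup N :=
      { carrier := {x | ∃ z, p • x = (p * p) • z}
        zero_mem' := ⟨0, by simp⟩
        add_mem' := by rintro x y ⟨z, hz⟩ ⟨z', hz'⟩; exact ⟨z + z', by rw [smul_add, hz, hz', smul_add]⟩
        neg_mem' := by rintro x ⟨z, hz⟩; exact ⟨-z, by rw [smul_neg, hz, smul_neg]⟩ }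
    have hle : AddSubgroup.closure ({a, b} : Set N) ≤ H := (AddSubgroup.closure_le _).2 (by
      rintro x (rfl | rfl)
      · exact ⟨-v, by rw [smul_neg, ← hv, smul_neg, neg_neg]⟩
      · exact ⟨u, hu⟩)
    intro x
    exact hle (hgen.ge trivial)
  have hit : ∀ (k : ℕ) (x : N), ∃ z, p • x = p ^ (k + 1) • z := by
    intro k
    induction k with
    | zero => intro x; exact ⟨x, by rw [zero_add, pow_one]⟩
    | succ k ih =>
      intro x
      obtain ⟨z, hz⟩ := hall x
      obtain ⟨w, hw⟩ := ih (p • z)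
      obtain ⟨z', hz'⟩ := ih z
      refine ⟨z', ?_⟩
      rw [hz, mul_nsmul', hz', ← mul_nsmul']
      congr 1
      ring
  intro x
  obtain ⟨z, hz⟩ := hit n x
  rw [hz, pow_succ', mul_nsmul', ← hN, card_nsmul_eq_zero', smul_zero]

end Cfsg.Lib.Fusion.RankThreePair
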