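import Cfsg.Agent.Fusion.RankThreePair.PearlGroup
import Cfsg.Agent.Fusion.RankThreePair.PearlAbelian
import Cfsg.Agent.Fusion.RankThree.TransvectionShift

/-!
The natural module on the Frattini quotient of a two-generator group with several Sylow subgroups in a
group of automorphisms.
-/

set_option autoImplicit false
set_option linter.unusedSectionVars false
set_option linter.style.haveILetI false

namespace Cfsg.Lib.Fusion.RankThreePair

open Subgroup Cfsg.Lib.Fusion
open scoped commutatorElement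

universe u

variable {p : ℕ} [hp : Fact p.Prime] {E : Type u} [Group E] [Finite E]

/-- The automorphisms give two generators with the natural action, and exponent `p` on the abelianization. -/
theorem exists_nat2 (hE : IsPGroup p E) (hp5 : 5 ≤ p) (hidx : (frattini E).index = p ^ 2)
    (A : Subgroup (MulAut E)) (hA : ¬ Subsingleton (Sylow p A))
    (hcore : ∀ α ∈ A, (∀ x, α x * x⁻¹ ∈ frattini E) → ∃ g, α = MulAut.conj g)
    (T : Subgroup (MulAut E)) (hTA : T ≤ A) (hT : IsPGroup p T) (hTne : ∃ α ∈ T, ∀ g, α ≠ MulAut.conj g) :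
    ∃ D : Nat2 p E, ((⊤ : Subgroup E).lowerCentralSeries 1).index = p ^ 2 ∧ D.t ∈ T ∧
      (∃ g, D.t ^ p = MulAut.conj g) ∧ ∀ β ∈ T, ∃ (i : ℕ) (g : E), β = D.t ^ i * MulAut.conj g := by
  classical
  set Φ := frattini E
  set π := QuotientGroup.mk' Φ with hπ
  have hπs : Function.Surjective π := QuotientGroup.mk'_surjective _
  have hΦc : ∀ c : MulAut E, Φ.map c.toMonoidHom = Φ := fun c =>
    Subgroup.characteristic_iff_map_eq.1 inferInstance c
  have hcomm : ∀ x y : E ⧸ Φ, Commute x y := fun x y =>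
    (Cfsg.Lib.PGroups.isMulCommutative_quotient_frattini hE).is_comm.comm x y
  have hexp : ∀ x : E ⧸ Φ, x ^ p = 1 := fun x => Cfsg.Lib.PGroups.pow_prime_quotient_frattini hE x
  have hQc : Nat.card (E ⧸ Φ) = p ^ 2 := by rw [← Subgroup.index_eq_card, hidx]
  have hautπ : ∀ (c : MulAut E) {x y : E}, π x = π y → π (c x) = π (c y) := fun c x y e => by
    rw [hπ, QuotientGroup.mk'_apply, QuotientGroup.mk'_apply, QuotientGroup.eq] at e ⊢
    rw [← map_inv, ← map_mul]
    exact (hΦc c).le (mem_map_of_mem _ e)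
  have hconjπ : ∀ g x : E, π (MulAut.conj g x) = π x := fun g x => by
    rw [MulAut.conj_apply, map_mul, map_mul, map_inv, (hcomm (π g) (π x)).eq, mul_inv_cancel_right]
  -- a fixed point
  let ρ : T →* MulAut (E ⧸ Φ) := (RankThree.quotAut Φ hΦc).comp T.subtype
  letI : MulAction T (E ⧸ Φ) := MulAction.compHom _ ρ
  obtain ⟨v, hv, hv1⟩ := hT.exists_fixed_point_of_prime_dvd_card_of_fixed_point (α := E ⧸ Φ)
    (hQc ▸ dvd_pow_self p two_ne_zero) (a := 1) (fun β => map_one (ρ β))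
  obtain ⟨b, rfl⟩ := hπs v
  have hbfix : ∀ β ∈ T, π (β b) = π b := fun β hβ => hv ⟨β, hβ⟩
  have hord : ∀ x : E, π x ≠ 1 → ((zpowers (π x)).comap π).index = p := fun x hx => by
    rw [Subgroup.index_comap_of_surjective _ hπs]
    have h := (zpowers (π x)).card_mul_index
    rw [Nat.card_zpowers, orderOf_eq_prime (hexp _) hx, hQc, sq] at h
    exact Nat.eq_of_mul_eq_mul_left hp.out.pos h
  have hb1 : π b ≠ 1 := Ne.symm hv1
  set M := (zpowers (π b)).comap π
  haveI hMn : M.Normal := (show (zpowers (π b)).Normal from ⟨fun x hx g => by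
    rw [(hcomm g x).eq, mul_inv_cancel_right]; exact hx⟩).comap π
  -- the plane moves
  obtain ⟨g₀, hg₀, hgb⟩ : ∃ g ∈ A, g b ∉ M := by
    by_contra hall
    push Not at hall
    refine hA (subsingleton_sylow_aut_of_char hE (hidx ▸ dvd_rfl) M (hord b hb1) A fun α hα q hq => ?_)
    obtain ⟨j, hj⟩ := mem_zpowers_iff.1 (mem_comap.1 hq)
    refine mem_comap.2 ?_
    rw [hautπ α (x := q) (y := b ^ j) (by rw [map_zpow, hj]), map_zpow, map_zpow]
    exact zpow_mem (mem_comap.1 (hall α hα)) j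
  set a := g₀ b
  have ha1 : π a ≠ 1 := fun e => hgb (mem_comap.2 (e ▸ one_mem _))
  have hgen : closure ({a, b} : Set E) = ⊤ := by
    refine frattini_nongenerating (eq_top_iff.2 fun x _ => ?_)
    have hK : (closure ({a, b} : Set E) ⊔ Φ).map π = ⊤ := by
      refine eq_top_of_le_card _ ?_
      obtain ⟨k, hk⟩ := IsPGroup.iff_card.1 ((hE.to_quotient Φ).to_subgroup ((closure ({a, b} : Set E) ⊔ Φ).map π))
      rw [hQc, hk]
      refine Nat.pow_le_pow_right hp.out.pos ?_
      by_contra hlt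
      have hle : zpowers (π b) ≤ (closure ({a, b} : Set E) ⊔ Φ).map π :=
        zpowers_le.2 (mem_map_of_mem π (mem_sup_left (subset_closure (Or.inr rfl))))
      have heq := eq_of_le_of_card_ge hle (by
        rw [hk, Nat.card_zpowers, orderOf_eq_prime (hexp _) hb1]
        exact (Nat.pow_le_pow_right hp.out.pos (by omega)).trans (pow_one p).le)
      exact hgb (mem_comap.2 (heq.ge (mem_map_of_mem π (mem_sup_left (subset_closure (Or.inl rfl))))))
    obtain ⟨y, hy, hyx⟩ := hK.ge (mem_top (π x))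
    have hk : y⁻¹ * x ∈ Φ := QuotientGroup.eq.1 hyx
    have := mul_mem hy (mem_sup_right hk : y⁻¹ * x ∈ closure ({a, b} : Set E) ⊔ Φ)
    rwa [mul_inv_cancel_left] at this
  have htriv : ∀ α : MulAut E, π (α a) = π a → π (α b) = π b → ∀ x, α x * x⁻¹ ∈ Φ := fun α e1 e2 x => by
    have hle : closure ({a, b} : Set E) ≤ MonoidHom.eqLocus (π.comp α.toMonoidHom) π := (closure_le _).2 (by
      rintro w (rfl | rfl)
      exacts [e1, e2])
    have h : π (α x) = π x := hle (hgen.ge (mem_top x))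
    rw [← QuotientGroup.eq_one_iff]
    show π (α x * x⁻¹) = 1
    rw [map_mul, map_inv, h, mul_inv_cancel]
  have hmove : ∀ β ∈ T, ∃ i : ℕ, π (β a) = π a * π b ^ i := fun β hβ => by
    have h := mul_inv_mem_of_index_dvd M (hN := hMn) (hord b hb1).dvd β (fun q hq => by
      obtain ⟨j, hj⟩ := mem_zpowers_iff.1 (mem_comap.1 hq)
      refine mem_comap.2 ?_
      rw [hautπ β (x := q) (y := b ^ j) (by rw [map_zpow, hj]), map_zpow, map_zpow, hbfix β hβ]
      exact zpow_mem (mem_zpowers _) j)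
      (by obtain ⟨k, hk⟩ := hT ⟨β, hβ⟩; exact ⟨k, congrArg Subtype.val hk⟩) a
    obtain ⟨i, hi⟩ := (mem_zpowers_iff.1 (mem_comap.1 h))
    obtain ⟨n, hn⟩ : ∃ n : ℕ, π b ^ i = π b ^ n := by
      obtain ⟨n, hn⟩ := (isOfFinOrder_of_finite (π b)).mem_powers_iff_mem_zpowers.2 ⟨i, rfl⟩
      exact ⟨n, hn.symm⟩
    refine ⟨n, ?_⟩
    rw [map_mul, map_inv, hn, eq_mul_inv_iff_mul_eq] at hi
    rw [← hi]; exact (hcomm _ _).eq
  obtain ⟨β₀, hβ₀, i₀, hi₀, hi₀ne⟩ : ∃ β ∈ T, ∃ i : ℕ, π (β a) = π a * π b ^ i ∧ (i : ZMod p) ≠ 0 := by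
    by_contra hall
    push Not at hall
    obtain ⟨α, hα, hαne⟩ := hTne
    obtain ⟨i, hi⟩ := hmove α hα
    obtain ⟨d, rfl⟩ := (ZMod.natCast_eq_zero_iff _ _).1 (hall α hα i hi)
    rw [pow_mul, hexp, one_pow, mul_one] at hi
    obtain ⟨g, hg⟩ := hcore α (hTA hα) (htriv α hi (hbfix α hα))
    exact hαne g hg
  set t := β₀ ^ ((i₀ : ZMod p)⁻¹).val
  have htT : t ∈ T := pow_mem hβ₀ _
  have hiter : ∀ (β : MulAut E) (i : ℕ), β ∈ T → π (β a) = π a * π b ^ i →
      ∀ m : ℕ, π ((β ^ m) a) = π a * π b ^ (m * i) := by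
    intro β i hβ hi m
    induction m with
    | zero => rw [pow_zero, MulAut.one_apply, zero_mul, pow_zero, mul_one]
    | succ m ih =>
      rw [pow_succ', MulAut.mul_apply, hautπ β (y := a * b ^ (m * i)) (by rw [map_mul, map_pow]; exact ih),
        map_mul, map_mul, map_pow, map_pow, hbfix β hβ, hi, mul_assoc, ← pow_add]
      congr 2
      ring
  have hpw : ∀ (x : E ⧸ Φ) (m k : ℕ), (m : ZMod p) = k → x ^ m = x ^ k := fun x m k e => by
    rw [pow_eq_pow_mod m (hexp x), pow_eq_pow_mod k (hexp x), (ZMod.natCast_eq_natCast_iff' m k p).1 e]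
  have hta : π (t a) = π a * π b := by
    rw [hiter β₀ i₀ hβ₀ hi₀]
    conv_rhs => rw [← pow_one (π b)]
    exact congrArg _ (hpw _ _ _ (by
      rw [Nat.cast_mul, ZMod.natCast_zmod_val, inv_mul_cancel₀ hi₀ne, Nat.cast_one]))
  have htb : π (t b) = π b := hbfix t htT
  have htp : ∃ g, t ^ p = MulAut.conj g := hcore _ (pow_mem (hTA htT) p) (htriv _ (by
    rw [hiter t 1 htT (by rw [pow_one]; exact hta), mul_one, hexp, mul_one]) (hbfix _ (pow_mem htT p)))
  -- the opposite element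
  set s₁ := g₀ * t * g₀⁻¹
  have hs₁A : s₁ ∈ A := mul_mem (mul_mem hg₀ (hTA htT)) (inv_mem hg₀)
  obtain ⟨kt, hkt⟩ : ∃ k : ℕ, t ^ p ^ k = 1 := by
    obtain ⟨k, hk⟩ := hT ⟨t, htT⟩; exact ⟨k, congrArg Subtype.val hk⟩
  have hs₁ord : ∀ n, t ^ n = 1 → s₁ ^ n = 1 := fun n hn => by rw [conj_pow, hn, mul_one, mul_inv_cancel]
  have hs₁a : π (s₁ a) = π a := by
    show π (g₀ (t (g₀⁻¹ (g₀ b)))) = π (g₀ b)
    rw [MulAut.inv_apply_self]
    exact hautπ g₀ htb
  obtain ⟨k, hk⟩ : ∃ k : ℤ, π (s₁ b) = π b * π a ^ k := by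
    haveI : ((zpowers (π a)).comap π).Normal := (show (zpowers (π a)).Normal from ⟨fun x hx g => by
      rw [(hcomm g x).eq, mul_inv_cancel_right]; exact hx⟩).comap π
    have h := mul_inv_mem_of_index_dvd ((zpowers (π a)).comap π) (hord a ha1).dvd s₁ (fun q hq => by
      obtain ⟨j, hj⟩ := mem_zpowers_iff.1 (mem_comap.1 hq)
      refine mem_comap.2 ?_
      rw [hautπ s₁ (x := q) (y := a ^ j) (by rw [map_zpow, hj]), map_zpow, map_zpow, hs₁a]
      exact zpow_mem (mem_zpowers _) j) ⟨kt, hs₁ord _ hkt⟩ b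
    obtain ⟨i, hi⟩ := mem_zpowers_iff.1 (mem_comap.1 h)
    refine ⟨i, ?_⟩
    rw [map_mul, map_inv, eq_mul_inv_iff_mul_eq] at hi
    rw [← hi]; exact (hcomm _ _).eq
  have hk0 : (k : ZMod p) ≠ 0 := by
    intro h0
    obtain ⟨d, rfl⟩ := (ZMod.intCast_zmod_eq_zero_iff_dvd _ _).1 h0
    rw [zpow_mul, zpow_natCast, hexp, one_zpow, mul_one] at hk
    obtain ⟨g, hg⟩ := hcore s₁ hs₁A (htriv s₁ hs₁a hk)
    have ht : t = g₀⁻¹ * MulAut.conj g * g₀ := by rw [← hg]; simp only [s₁]; group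
    have : π (t a) = π a := by
      rw [ht, MulAut.mul_apply, MulAut.mul_apply, hautπ g₀⁻¹ (hconjπ g (g₀ a)), MulAut.inv_apply_self]
    rw [hta, mul_eq_left] at this
    exact hb1 this
  set s := s₁ ^ (-(k : ZMod p)⁻¹).val
  have hs₁iter : ∀ m : ℕ, π ((s₁ ^ m) b) = π b * π a ^ (k * m) ∧ π ((s₁ ^ m) a) = π a := by
    intro m
    induction m with
    | zero => constructor <;> simp
    | succ m ih =>
      constructor
      · rw [pow_succ', MulAut.mul_apply, hautπ s₁ (y := b * a ^ (k * m)) (by rw [map_mul, map_zpow]; exact ih.1),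
          map_mul, map_mul, map_zpow, map_zpow, hs₁a, hk, mul_assoc, ← zpow_add]
        congr 2
        push_cast
        ring
      · rw [pow_succ', MulAut.mul_apply, hautπ s₁ ih.2, hs₁a]
  have hsa : π (s a) = π a := (hs₁iter _).2
  have hsb : π (s b) = π b * (π a)⁻¹ := by
    rw [(hs₁iter _).1]
    congr 1
    have hz : ∀ i j : ℤ, (i : ZMod p) = j → π a ^ i = π a ^ j := fun i j e => by
      rw [zpow_eq_zpow_emod' i (hexp _), zpow_eq_zpow_emod' j (hexp (π a)), (ZMod.intCast_eq_intCast_iff' i j p).1 e]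
    refine (hz _ (-1) ?_).trans (zpow_neg_one _)
    push_cast
    rw [ZMod.natCast_zmod_val, mul_neg, mul_inv_cancel₀ hk0]
  have hw : ∀ {x : E} {y : E}, π x = π y → ∀ c : MulAut E, π (c x) = π (c y) := fun e c => hautπ c e
  have hwa : π ((t * s * t) a) = π b := by
    rw [MulAut.mul_apply, MulAut.mul_apply, hw (hw (hta.trans (map_mul π a b).symm) s) t,
      hw (show π (s (a * b)) = π b by
        rw [map_mul, map_mul, hsa, hsb, ← mul_assoc, (hcomm (π a) (π b)).eq, mul_inv_cancel_right]) t, htb]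
  have hwb : π ((t * s * t) b) = π a⁻¹ := by
    rw [MulAut.mul_apply, MulAut.mul_apply, hw (hw htb s) t,
      hw (show π (s b) = π (b * a⁻¹) by rw [hsb, map_mul, map_inv]) t, map_mul, map_mul, map_inv, map_inv,
      htb, hta, mul_inv_rev, mul_inv_cancel_left, map_inv]
  set z := (t * s * t) * (t * s * t)
  have hza : π (z a) = π a⁻¹ := by rw [MulAut.mul_apply, hw hwa (t * s * t), hwb]
  have hzb : π (z b) = π b⁻¹ := by rw [MulAut.mul_apply, hw hwb (t * s * t), map_inv, map_inv, hwa, map_inv]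
  -- the abelianization has exponent `p`
  set ψ := QuotientGroup.mk' ((⊤ : Subgroup E).lowerCentralSeries 1)
  have hψs : Function.Surjective ψ := QuotientGroup.mk'_surjective _
  haveI hQ1 : IsMulCommutative (E ⧸ (⊤ : Subgroup E).lowerCentralSeries 1) := ⟨⟨fun x y => by
    obtain ⟨x, rfl⟩ := hψs x
    obtain ⟨y, rfl⟩ := hψs y
    exact (psi_central (i := 0) (mem_top x) y).eq⟩⟩
  letI : CommGroup (E ⧸ (⊤ : Subgroup E).lowerCentralSeries 1) :=
    { (inferInstance : Group (E ⧸ (⊤ : Subgroup E).lowerCentralSeries 1)) with mul_comm := mul_comm' }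
  set N₁ := Additive (E ⧸ (⊤ : Subgroup E).lowerCentralSeries 1)
  let em : E → N₁ := fun x => Additive.ofMul (ψ x)
  have hems : ∀ v : N₁, ∃ x, em x = v := fun v => by
    obtain ⟨x, hx⟩ := hψs (Additive.toMul v); exact ⟨x, congrArg Additive.ofMul hx⟩
  let R : Subgroup E := ((powMonoidHom p).range).comap ψ
  haveI : R.Normal := ⟨fun x hx g => by
    refine mem_comap.2 ?_
    rw [map_mul, map_mul, map_inv, mul_comm' (ψ g), mul_inv_cancel_right]
    exact mem_comap.1 hx⟩
  have hΦR : Φ ≤ R := by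
    refine Cfsg.Lib.PGroups.SpecialCoprime.frattini_le_of_elementary (p := p) _ (fun x => ⟨ψ x, (map_pow ψ x p).symm⟩) ?_
    intro x hx
    refine mem_comap.2 ⟨1, ?_⟩
    rw [map_one]
    exact ((QuotientGroup.eq_one_iff _).2 (show x ∈ (⊤ : Subgroup E).lowerCentralSeries 1 from hx)).symm
  have hlift : ∀ {x y : E}, π x = π y → ∃ w : N₁, em x = em y + p • w := fun {x y} e => by
    obtain ⟨u, hu⟩ := mem_comap.1 (hΦR (QuotientGroup.eq.1 e.symm : y⁻¹ * x ∈ Φ))
    refine ⟨Additive.ofMul u, ?_⟩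
    show Additive.ofMul (ψ x) = _
    rw [← ofMul_pow, show u ^ p = ψ (y⁻¹ * x) from hu, ← ofMul_mul, ← map_mul, mul_inv_cancel_left]
  have hψaut : ∀ (c : MulAut E) {x y : E}, ψ x = ψ y → ψ (c x) = ψ (c y) := fun c _ _ e => aut_psi c e
  let endo : MulAut E → AddMonoid.End N₁ := fun c =>
    MonoidHom.toAdditive (QuotientGroup.map ((⊤ : Subgroup E).lowerCentralSeries 1) _ c.toMonoidHom
      fun x hx => aut_lcs c hx)
  have hendo : ∀ c x, endo c (em x) = em (c x) := fun c x => rfl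
  have hendop : ∀ (c : MulAut E) (n : ℕ) x, (endo c ^ n) (em x) = em ((c ^ n) x) := by
    intro c n
    induction n with
    | zero => intro x; rfl
    | succ n ih => intro x; rw [pow_succ, AddMonoid.End.coe_mul, Function.comp_apply, hendo, ih, pow_succ, MulAut.mul_apply]
  have hendo1 : ∀ c g, c ^ p = MulAut.conj g → endo c ^ p = 1 := fun c g e => by
    refine AddMonoidHom.ext fun v => ?_
    obtain ⟨x, rfl⟩ := hems v
    show (endo c ^ p) (em x) = em x
    rw [hendop, e]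
    refine congrArg Additive.ofMul ?_
    rw [MulAut.conj_apply, map_mul, map_mul, map_inv, mul_comm' (ψ g), mul_inv_cancel_right]
  obtain ⟨gt, hgt⟩ := htp
  have hgs₁ : s₁ ^ p = MulAut.conj (g₀ gt) := by
    rw [conj_pow, hgt]
    refine MulEquiv.ext fun x => ?_
    simp [MulAut.mul_apply, MulAut.conj_apply]
  obtain ⟨gs, hgs⟩ : ∃ g, s ^ p = MulAut.conj g :=
    ⟨g₀ gt ^ (-(k : ZMod p)⁻¹).val, by rw [← pow_mul, mul_comm, pow_mul, hgs₁, map_pow]⟩
  have hgenN : AddSubgroup.closure ({em a, em b} : Set N₁) = ⊤ := by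
    refine eq_top_iff.2 fun v _ => ?_
    obtain ⟨x, rfl⟩ := hems v
    have hle : closure ({a, b} : Set E) ≤ (AddSubgroup.toSubgroup' (AddSubgroup.closure ({em a, em b} : Set N₁))).comap ψ :=
      (closure_le _).2 (by
        rintro w (rfl | rfl)
        exacts [AddSubgroup.subset_closure (Or.inl rfl), AddSubgroup.subset_closure (Or.inr rfl)])
    exact hle (hgen.ge (mem_top x))
  obtain ⟨nN, hnN⟩ := IsPGroup.iff_card.1 (hE.to_quotient ((⊤ : Subgroup E).lowerCentralSeries 1))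
  have hzero := nsmul_eq_zero_of_natural (p := p) hp5 ((Nat.card_congr Additive.toMul).trans hnN) hgenN
    (hendo1 t gt hgt) (hendo1 s gs hgs)
    (by obtain ⟨w, hw⟩ := hlift (hta.trans (map_mul π a b).symm)
        exact ⟨w, by rw [hendo, hw]; show Additive.ofMul (ψ (a * b)) + _ = _; rw [map_mul, ofMul_mul]⟩)
    (by obtain ⟨w, hw⟩ := hlift htb; exact ⟨w, by rw [hendo, hw]⟩)
    (by obtain ⟨w, hw⟩ := hlift hsa; exact ⟨w, by rw [hendo, hw]⟩)
    (by obtain ⟨w, hw⟩ := hlift (show π (s b) = π (b * a⁻¹) by rw [hsb, map_mul, map_inv])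
        exact ⟨w, by rw [hendo, hw]; show Additive.ofMul (ψ (b * a⁻¹)) + _ = _; rw [map_mul, map_inv, ofMul_mul, ofMul_inv, sub_eq_add_neg]⟩)
  have hpow : ∀ x : E, x ^ p ∈ (⊤ : Subgroup E).lowerCentralSeries 1 := fun x => by
    rw [← QuotientGroup.eq_one_iff]
    show ψ (x ^ p) = 1
    rw [map_pow]
    exact hzero (em x)
  have hΦ : Φ = (⊤ : Subgroup E).lowerCentralSeries 1 := by
    refine le_antisymm (fun x hx => ?_) (Cfsg.Lib.PGroups.commutator_le_frattini hE)
    obtain ⟨u, hu⟩ := mem_comap.1 (hΦR hx)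
    rw [← QuotientGroup.eq_one_iff]
    show ψ x = 1
    rw [← hu]
    exact hzero (Additive.ofMul u)
  have hψπ : ∀ {x y : E}, π x = π y → ψ x = ψ y := fun {x y} e =>
    QuotientGroup.eq.2 (hΦ.le (QuotientGroup.eq.1 e))
  refine ⟨{ a := a, b := b, gen := hgen, t := t, s := s, z := z
            tord := ⟨kt, hkt⟩
            sord := ⟨kt, by rw [← pow_mul, mul_comm, pow_mul, hs₁ord _ hkt, one_pow]⟩
            ta := hψπ (hta.trans (map_mul π a b).symm)
            tb := hψπ htb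
            sa := hψπ hsa
            sb := hψπ (show π (s b) = π (b * a⁻¹) by rw [hsb, map_mul, map_inv])
            za := hψπ hza
            zb := hψπ hzb
            pow := hpow }, hΦ ▸ hidx, htT, ⟨gt, hgt⟩, fun β hβ => ?_⟩
  obtain ⟨i, hi⟩ := hmove β hβ
  have h1 : π ((t ^ i) a) = π (β a) := by
    rw [hiter t 1 htT (by rw [pow_one]; exact hta), mul_one, hi]
  obtain ⟨g, hg⟩ := hcore ((t ^ i)⁻¹ * β) (hTA (mul_mem (inv_mem (pow_mem htT i)) hβ)) (htriv _
    (by rw [MulAut.mul_apply, ← hautπ _ h1, MulAut.inv_apply_self])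
    (hbfix _ (mul_mem (inv_mem (pow_mem htT i)) hβ)))
  exact ⟨i, g, by show β = t ^ i * _; rw [← hg, mul_inv_cancel_left]⟩

end Cfsg.Lib.Fusion.RankThreePair
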