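import Cfsg.Agent.Fusion.RankThree.Tools
import Cfsg.Agent.Fusion.EssentialShape
import Mathlib

/-!
Two-generator groups with the automorphisms of a natural module on the top, in rank three.
-/

set_option autoImplicit false
set_option linter.unusedSectionVars false
set_option linter.style.haveILetI false

namespace Cfsg.Lib.Fusion.RankThreePair

open Subgroup Cfsg.Lib.Fusion.RankThree
open scoped commutatorElement

universe u

variable {p : ℕ} {E : Type u} [Group E]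

local notation:max "Γ" n:max => Subgroup.lowerCentralSeries (⊤ : Subgroup E) n
local notation:max "ψ" n:max => QuotientGroup.mk' (Subgroup.lowerCentralSeries (⊤ : Subgroup E) n)

/-- Two generators with the automorphisms of a natural module on the abelianization. -/
structure Nat2 (p : ℕ) (E : Type u) [Group E] where
  a : E
  b : E
  gen : closure ({a, b} : Set E) = ⊤
  t : MulAut E
  s : MulAut E
  z : MulAut E
  tord : ∃ k : ℕ, t ^ p ^ k = 1
  sord : ∃ k : ℕ, s ^ p ^ k = 1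
  ta : QuotientGroup.mk' ((⊤ : Subgroup E).lowerCentralSeries 1) (t a) = QuotientGroup.mk' ((⊤ : Subgroup E).lowerCentralSeries 1) (a * b)
  tb : QuotientGroup.mk' ((⊤ : Subgroup E).lowerCentralSeries 1) (t b) = QuotientGroup.mk' ((⊤ : Subgroup E).lowerCentralSeries 1) b
  sa : QuotientGroup.mk' ((⊤ : Subgroup E).lowerCentralSeries 1) (s a) = QuotientGroup.mk' ((⊤ : Subgroup E).lowerCentralSeries 1) a
  sb : QuotientGroup.mk' ((⊤ : Subgroup E).lowerCentralSeries 1) (s b) = QuotientGroup.mk' ((⊤ : Subgroup E).lowerCentralSeries 1) (b * a⁻¹)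
  za : QuotientGroup.mk' ((⊤ : Subgroup E).lowerCentralSeries 1) (z a) = QuotientGroup.mk' ((⊤ : Subgroup E).lowerCentralSeries 1) a⁻¹
  zb : QuotientGroup.mk' ((⊤ : Subgroup E).lowerCentralSeries 1) (z b) = QuotientGroup.mk' ((⊤ : Subgroup E).lowerCentralSeries 1) b⁻¹
  pow : ∀ x : E, x ^ p ∈ (⊤ : Subgroup E).lowerCentralSeries 1

theorem lcs_le (j : ℕ) : ∀ i : ℕ, ⁅Γ i, Γ j⁆ ≤ Γ (i + j + 1) := by
  induction j with
  | zero => intro i; rw [Subgroup.lowerCentralSeries_zero, add_zero, Subgroup.lowerCentralSeries_succ]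
  | succ j ih =>
    intro i
    set π := QuotientGroup.mk' (Γ (i + (j + 1) + 1))
    have hπ : ∀ A : Subgroup E, A ≤ Γ (i + (j + 1) + 1) → A.map π = ⊥ := fun A hA => by
      rw [Subgroup.map_eq_bot_iff, QuotientGroup.ker_mk']; exact hA
    suffices h : (⁅Γ i, Γ (j + 1)⁆).map π = ⊥ by
      rwa [Subgroup.map_eq_bot_iff, QuotientGroup.ker_mk'] at h
    rw [commutator_comm, Subgroup.lowerCentralSeries_succ _ j, map_commutator, map_commutator]
    refine commutator_commutator_eq_bot_of_rotate ?_ ?_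
    · rw [← map_commutator, ← map_commutator]
      refine hπ _ ?_
      rw [commutator_comm ⊤, ← Subgroup.lowerCentralSeries_succ]
      exact (ih (i + 1)).trans (le_of_eq (by congr 1; omega))
    · rw [← map_commutator, ← map_commutator]
      refine hπ _ ((commutator_mono (ih i) le_rfl).trans (le_of_eq ?_))
      rw [← Subgroup.lowerCentralSeries_succ]
      congr 1

theorem comm_mem {i : ℕ} {x : E} (hx : x ∈ Γ i) (y : E) : ⁅x, y⁆ ∈ Γ (i + 1) :=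
  commutator_mem_commutator hx (mem_top y)

theorem lcs_anti {i j : ℕ} (h : i ≤ j) : Γ j ≤ Γ i := Subgroup.lowerCentralSeries_antitone _ h

theorem psi_eq {n : ℕ} {x y : E} : ψ n x = ψ n y ↔ x⁻¹ * y ∈ Γ n := QuotientGroup.eq

theorem psi_mono {i j : ℕ} (h : i ≤ j) {x y : E} (e : ψ j x = ψ j y) : ψ i x = ψ i y :=
  psi_eq.2 (lcs_anti h (psi_eq.1 e))

theorem psi_central {i : ℕ} {x : E} (hx : x ∈ Γ i) (y : E) : Commute (ψ (i + 1) x) (ψ (i + 1) y) :=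
  commutatorElement_eq_one_iff_commute.1 (by
    rw [← map_commutatorElement]; exact (QuotientGroup.eq_one_iff _).2 (comm_mem hx y))

theorem comm_left {i : ℕ} {x x' : E} (_hx : x ∈ Γ i) (hx' : x' ∈ Γ i) (y : E) :
    ψ (i + 2) ⁅x * x', y⁆ = ψ (i + 2) ⁅x, y⁆ * ψ (i + 2) ⁅x', y⁆ := by
  have h := psi_central (comm_mem hx' y) x
  have h' := psi_central (comm_mem hx' y) ⁅x, y⁆
  have e : ⁅x * x', y⁆ = x * ⁅x', y⁆ * x⁻¹ * ⁅x, y⁆ := by simp only [commutatorElement_def]; group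
  rw [e, map_mul, map_mul, map_mul, ← h.eq, mul_assoc (ψ (i + 2) ⁅x', y⁆), map_inv, mul_inv_cancel, mul_one]
  exact h'.eq

theorem comm_right {i : ℕ} {x : E} (hx : x ∈ Γ i) (y y' : E) :
    ψ (i + 2) ⁅x, y * y'⁆ = ψ (i + 2) ⁅x, y⁆ * ψ (i + 2) ⁅x, y'⁆ := by
  have h := psi_central (comm_mem hx y') y
  have e : ⁅x, y * y'⁆ = ⁅x, y⁆ * (y * ⁅x, y'⁆ * y⁻¹) := by simp only [commutatorElement_def]; group
  rw [e, map_mul, map_mul, map_mul, ← h.eq, mul_assoc (ψ (i + 2) ⁅x, y'⁆), map_inv, mul_inv_cancel, mul_one]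

theorem comm_congr {i : ℕ} {x x' y y' : E} (hx : x ∈ Γ i) (ex : ψ (i + 1) x = ψ (i + 1) x')
    (ey : ψ 1 y = ψ 1 y') : ψ (i + 2) ⁅x, y⁆ = ψ (i + 2) ⁅x', y'⁆ := by
  have hk : x⁻¹ * x' ∈ Γ (i + 1) := psi_eq.1 ex
  have hl : y⁻¹ * y' ∈ Γ 1 := psi_eq.1 ey
  have h1 : ψ (i + 2) ⁅x⁻¹ * x', y'⁆ = 1 := (QuotientGroup.eq_one_iff _).2 (comm_mem hk _)
  have h2 : ψ (i + 2) ⁅x, y⁻¹ * y'⁆ = 1 :=
    (QuotientGroup.eq_one_iff _).2 (lcs_le 1 i (commutator_mem_commutator hx hl))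
  calc ψ (i + 2) ⁅x, y⁆ = ψ (i + 2) ⁅x, y * (y⁻¹ * y')⁆ := by rw [comm_right hx, h2, mul_one]
    _ = ψ (i + 2) ⁅x, y'⁆ := by rw [mul_inv_cancel_left]
    _ = ψ (i + 2) ⁅x * (x⁻¹ * x'), y'⁆ := by rw [comm_left hx (lcs_anti (Nat.le_succ i) hk), h1, mul_one]
    _ = ψ (i + 2) ⁅x', y'⁆ := by rw [mul_inv_cancel_left]

theorem comm_one_left {i : ℕ} (y : E) : ψ (i + 2) ⁅(1 : E), y⁆ = 1 := by
  rw [commutatorElement_one_left, map_one]

theorem comm_inv_left {i : ℕ} {x : E} (hx : x ∈ Γ i) (y : E) :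
    ψ (i + 2) ⁅x⁻¹, y⁆ = (ψ (i + 2) ⁅x, y⁆)⁻¹ := by
  refine eq_inv_of_mul_eq_one_left ?_
  rw [← comm_left (inv_mem hx) hx, inv_mul_cancel, comm_one_left]

theorem comm_inv_right {i : ℕ} {x : E} (hx : x ∈ Γ i) (y : E) :
    ψ (i + 2) ⁅x, y⁻¹⁆ = (ψ (i + 2) ⁅x, y⁆)⁻¹ := by
  refine eq_inv_of_mul_eq_one_left ?_
  rw [← comm_right hx, inv_mul_cancel, commutatorElement_one_right, map_one]

theorem aut_lcs (f : MulAut E) {n : ℕ} {x : E} (hx : x ∈ Γ n) : f x ∈ Γ n :=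
  (Subgroup.characteristic_iff_map_eq.1 (inferInstance : (Γ n).Characteristic) f).le (mem_map_of_mem _ hx)

theorem aut_psi (f : MulAut E) {n : ℕ} {x y : E} (e : ψ n x = ψ n y) : ψ n (f x) = ψ n (f y) := by
  refine psi_eq.2 ?_
  rw [← map_inv, ← map_mul]
  exact aut_lcs f (psi_eq.1 e)

theorem aut_comm (f : MulAut E) {i : ℕ} {x x' y y' : E} (hx : x ∈ Γ i)
    (ex : ψ (i + 1) (f x) = ψ (i + 1) x') (ey : ψ 1 (f y) = ψ 1 y') :
    ψ (i + 2) (f ⁅x, y⁆) = ψ (i + 2) ⁅x', y'⁆ := by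
  rw [map_commutatorElement]
  exact comm_congr (aut_lcs f hx) ex ey

namespace Nat2

variable (D : Nat2 p E)

include D

/-- A subgroup above the next term that contains the commutators of a generating set. -/
theorem succ_le {i : ℕ} {H : Subgroup E} (hH : Γ (i + 2) ≤ H) {s : Set E} (hs : s ⊆ Γ i)
    (hgen : Γ i ≤ closure s ⊔ Γ (i + 1)) (ha : ∀ x ∈ s, ⁅x, D.a⁆ ∈ H) (hb : ∀ x ∈ s, ⁅x, D.b⁆ ∈ H) :
    Γ (i + 1) ≤ H := by
  have key : ∀ u v : E, ψ (i + 2) u = ψ (i + 2) v → v ∈ H → u ∈ H := fun u v e hv => by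
    have := H.mul_mem hv (H.inv_mem (hH (psi_eq.1 e)))
    rwa [mul_inv_rev, inv_inv, mul_inv_cancel_left] at this
  have hall : ∀ x ∈ s, ∀ y, ⁅x, y⁆ ∈ H := fun x hx y => by
    have hy : y ∈ closure ({D.a, D.b} : Set E) := D.gen.ge (mem_top y)
    induction hy using closure_induction with
    | mem y hy =>
      rcases hy with rfl | rfl
      exacts [ha x hx, hb x hx]
    | one => simp
    | mul y y' _ _ h1 h2 => exact key _ (⁅x, y⁆ * ⁅x, y'⁆) (by rw [map_mul]; exact comm_right (hs hx) y y') (H.mul_mem h1 h2)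
    | inv y _ h1 => exact key _ ⁅x, y⁆⁻¹ (by rw [map_inv]; exact comm_inv_right (hs hx) y) (H.inv_mem h1)
  rw [Subgroup.lowerCentralSeries_succ, commutator_le]
  intro x hx y _
  let K : Subgroup E :=
    { carrier := {w | w ∈ Γ i ∧ ⁅w, y⁆ ∈ H}
      one_mem' := ⟨one_mem _, by simp⟩
      mul_mem' := fun {u v} hu hv => ⟨mul_mem hu.1 hv.1, key _ (⁅u, y⁆ * ⁅v, y⁆)
        (by rw [map_mul]; exact comm_left hu.1 hv.1 y) (H.mul_mem hu.2 hv.2)⟩
      inv_mem' := fun {u} hu => ⟨inv_mem hu.1, key _ ⁅u, y⁆⁻¹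
        (by rw [map_inv]; exact comm_inv_left hu.1 y) (H.inv_mem hu.2)⟩ }
  have hle : closure s ⊔ Γ (i + 1) ≤ K := sup_le ((closure_le _).2 fun w hw => ⟨hs hw, hall w hw y⟩)
    fun w hw => ⟨lcs_anti (Nat.le_succ i) hw, hH (comm_mem hw y)⟩
  exact (hle (hgen hx)).2

theorem gen_zero : Γ 0 ≤ closure ({D.a, D.b} : Set E) ⊔ Γ 1 := fun x _ =>
  mem_sup_left (D.gen.ge (mem_top x))

/-- The commutator of the generators. -/
def c : E := ⁅D.a, D.b⁆

/-- The weight-one commutators. -/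
def f1 : E := ⁅D.c, D.a⁆

/-- The weight-one commutators. -/
def f2 : E := ⁅D.c, D.b⁆

theorem c_mem : D.c ∈ Γ 1 := comm_mem (mem_top _) _
theorem f1_mem : D.f1 ∈ Γ 2 := comm_mem D.c_mem _
theorem f2_mem : D.f2 ∈ Γ 2 := comm_mem D.c_mem _

theorem gen_one : Γ 1 ≤ closure ({D.c} : Set E) ⊔ Γ 2 := by
  have hc : D.c ∈ closure ({D.c} : Set E) ⊔ Γ 2 := mem_sup_left (subset_closure rfl)
  refine D.succ_le le_sup_right (fun x _ => mem_top x) D.gen_zero ?_ ?_ <;> rintro x (rfl | rfl)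
  · simp
  · rw [← commutatorElement_inv]; exact inv_mem hc
  · exact hc
  · simp

theorem gen_two : Γ 2 ≤ closure ({D.f1, D.f2} : Set E) ⊔ Γ 3 := by
  refine D.succ_le le_sup_right (s := {D.c}) (fun x hx => by rw [Set.mem_singleton_iff.1 hx]; exact D.c_mem)
    D.gen_one ?_ ?_ <;> rintro x rfl
  · exact mem_sup_left (subset_closure (Or.inl rfl))
  · exact mem_sup_left (subset_closure (Or.inr rfl))

theorem t_c : ψ 2 (D.t D.c) = ψ 2 D.c := by
  rw [c, aut_comm (i := 0) D.t (mem_top _) D.ta D.tb, comm_left (mem_top _) (mem_top _),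
    commutatorElement_self, map_one, mul_one]

theorem s_c : ψ 2 (D.s D.c) = ψ 2 D.c := by
  rw [c, aut_comm (i := 0) D.s (mem_top _) D.sa D.sb, comm_right (mem_top _),
    comm_inv_right (mem_top _), commutatorElement_self, map_one, inv_one, mul_one]

theorem z_c : ψ 2 (D.z D.c) = ψ 2 D.c := by
  rw [c, aut_comm (i := 0) D.z (mem_top _) D.za D.zb, comm_inv_left (mem_top _),
    comm_inv_right (mem_top _), inv_inv]

theorem t_f1 : ψ 3 (D.t D.f1) = ψ 3 D.f1 * ψ 3 D.f2 :=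
  (aut_comm D.t D.c_mem D.t_c D.ta).trans (comm_right D.c_mem _ _)

theorem s_f2 : ψ 3 (D.s D.f2) = ψ 3 D.f2 * (ψ 3 D.f1)⁻¹ :=
  (aut_comm D.s D.c_mem D.s_c D.sb).trans
    ((comm_right D.c_mem _ _).trans (congrArg (ψ 3 D.f2 * ·) (comm_inv_right D.c_mem _)))

theorem t_f2 : ψ 3 (D.t D.f2) = ψ 3 D.f2 := aut_comm D.t D.c_mem D.t_c D.tb
theorem s_f1 : ψ 3 (D.s D.f1) = ψ 3 D.f1 := aut_comm D.s D.c_mem D.s_c D.sa
theorem z_f1 : ψ 3 (D.z D.f1) = ψ 3 D.f1⁻¹ :=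
  (aut_comm D.z D.c_mem D.z_c D.za).trans ((comm_inv_right D.c_mem _).trans (map_inv _ _).symm)
theorem z_f2 : ψ 3 (D.z D.f2) = ψ 3 D.f2⁻¹ :=
  (aut_comm D.z D.c_mem D.z_c D.zb).trans ((comm_inv_right D.c_mem _).trans (map_inv _ _).symm)

/-- The powers. -/
theorem pow_mem : ∀ i : ℕ, ∀ x ∈ Γ i, x ^ p ∈ Γ (i + 1) := by
  intro i
  induction i with
  | zero => intro x _; exact D.pow x
  | succ i ih =>
    intro x hx
    let K : Subgroup E :=
      { carrier := {w | w ∈ Γ (i + 1) ∧ (ψ (i + 2) w) ^ p = 1}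
        one_mem' := ⟨one_mem _, by rw [map_one, one_pow]⟩
        mul_mem' := fun {u v} hu hv => ⟨mul_mem hu.1 hv.1, by
          rw [map_mul, (psi_central hu.1 v).mul_pow, hu.2, hv.2, one_mul]⟩
        inv_mem' := fun {u} hu => ⟨inv_mem hu.1, by rw [map_inv, inv_pow, hu.2, inv_one]⟩ }
    have hle : Γ (i + 1) ≤ K := by
      rw [Subgroup.lowerCentralSeries_succ, commutator_le]
      intro u hu y _
      refine ⟨comm_mem hu y, ?_⟩
      have hpow : ∀ m : ℕ, ψ (i + 2) ⁅u ^ m, y⁆ = (ψ (i + 2) ⁅u, y⁆) ^ m := by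
        intro m
        induction m with
        | zero => rw [pow_zero, pow_zero, comm_one_left]
        | succ m ihm => rw [pow_succ, pow_succ, comm_left (Subgroup.pow_mem _ hu m) hu, ihm]
      rw [← hpow]
      exact (QuotientGroup.eq_one_iff _).2 (comm_mem (ih u hu) y)
    exact (QuotientGroup.eq_one_iff _).1 ((map_pow _ x p).trans (hle hx).2)

variable [hp : Fact p.Prime] [Finite E]

theorem inverted_pow (hE : IsPGroup p E) (hp2 : p ≠ 2) {i : ℕ} {x : E} (hx : x ∈ Γ i)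
    (hinv : ψ (i + 1) (D.z x) = ψ (i + 1) x⁻¹)
    (hfix : ψ (i + 2) (D.z (x ^ p)) = ψ (i + 2) (x ^ p)) : x ^ p ∈ Γ (i + 2) := by
  set k := (x⁻¹)⁻¹ * D.z x with hk
  have hkm : k ∈ Γ (i + 1) := psi_eq.1 hinv.symm
  have e : D.z x = x⁻¹ * k := by rw [hk, mul_inv_cancel_left]
  have hkp : (ψ (i + 2) k) ^ p = 1 := by
    rw [← map_pow]; exact (QuotientGroup.eq_one_iff _).2 (D.pow_mem (i + 1) k hkm)
  rw [map_pow D.z, e, map_pow, map_mul, (psi_central hkm x⁻¹).symm.mul_pow, hkp, mul_one, map_inv,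
    inv_pow, ← map_pow, inv_eq_iff_mul_eq_one, ← sq, ← map_pow, ← pow_mul] at hfix
  have h2 : x ^ (p * 2) ∈ Γ (i + 2) := (QuotientGroup.eq_one_iff _).1 hfix
  have hp' : (ψ (i + 2) (x ^ p)) ^ 2 = 1 := by
    rw [← map_pow, ← pow_mul]; exact (QuotientGroup.eq_one_iff _).2 h2
  obtain ⟨m, hm⟩ := hE (x ^ p)
  have h3 : orderOf (ψ (i + 2) (x ^ p)) ∣ p ^ m := orderOf_dvd_of_pow_eq_one (by
    rw [← map_pow, hm, map_one])
  have h4 : orderOf (ψ (i + 2) (x ^ p)) = 1 := Nat.eq_one_of_dvd_coprimes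
    (Nat.Coprime.pow_right m ((Nat.coprime_primes Nat.prime_two hp.out).2 (Ne.symm hp2)))
    (orderOf_dvd_of_pow_eq_one hp') h3
  exact (QuotientGroup.eq_one_iff _).1 (orderOf_eq_one_iff.1 h4)

theorem fixed_of_small (f : MulAut E) (hf : ∃ k : ℕ, f ^ p ^ k = 1) (hE : IsPGroup p E) {i : ℕ}
    (hsmall : Nat.card (Γ i) ≤ p * Nat.card (Γ (i + 1))) {x : E} (hx : x ∈ Γ i) :
    ψ (i + 1) (f x) = ψ (i + 1) x := by
  set Q := Γ i
  have hle : Γ (i + 1) ≤ Q := lcs_anti (Nat.le_succ i)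
  have hmap : Q.map f.toMonoidHom = Q :=
    Subgroup.characteristic_iff_map_eq.1 (inferInstance : Q.Characteristic) f
  let a' : MulAut Q := (f.subgroupMap Q).trans (MulEquiv.subgroupCongr hmap)
  have ha' : ∀ w : Q, (a' w : E) = f w := fun w => rfl
  have hiter : ∀ (j : ℕ) (w : Q), ((a' ^ j) w : E) = (f ^ j) w := by
    intro j
    induction j with
    | zero => intro w; rfl
    | succ j ih => intro w; rw [pow_succ, MulAut.mul_apply, ih, ha', pow_succ, MulAut.mul_apply]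
  obtain ⟨k, hk⟩ := hf
  have hk' : a' ^ p ^ k = 1 := MulEquiv.ext fun w => Subtype.ext (by rw [hiter, hk]; rfl)
  obtain ⟨j, hj⟩ := (hE.to_subgroup Q).index ((Γ (i + 1)).subgroupOf Q)
  have hidx : ((Γ (i + 1)).subgroupOf Q).index ∣ p := by
    have h1 := ((Γ (i + 1)).subgroupOf Q).card_mul_index
    rw [Nat.card_congr (subgroupOfEquivOfLe hle).toEquiv] at h1
    have h2 : ((Γ (i + 1)).subgroupOf Q).index ≤ p := by
      refine Nat.le_of_mul_le_mul_left ?_ (Nat.card_pos (α := Γ (i + 1)))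
      rw [h1, mul_comm]; exact hsmall
    rw [hj] at h2 ⊢
    have hj1 : j ≤ 1 := (Nat.pow_le_pow_iff_right hp.out.one_lt).1 (h2.trans (pow_one p).ge)
    interval_cases j <;> simp
  have h := mul_inv_mem_of_index_dvd (hN := inferInstance) ((Γ (i + 1)).subgroupOf Q) hidx a'
    (fun w hw => mem_subgroupOf.2 ((ha' w).symm ▸ aut_lcs f (mem_subgroupOf.1 hw))) ⟨k, hk'⟩ ⟨x, hx⟩
  have h' : f x * x⁻¹ ∈ Γ (i + 1) := h
  refine (psi_eq.2 ?_).symm
  have := (inferInstance : (Γ (i + 1)).Normal).conj_mem _ h' x⁻¹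
  rwa [inv_inv, mul_assoc, mul_assoc, inv_mul_cancel, mul_one] at this

theorem lcs_eq_bot (hE : IsPGroup p E) {n : ℕ} (h : Γ n ≤ Γ (n + 1)) : Γ n = ⊥ :=
  eq_bot_of_le hE _ (h.trans (le_sup_of_le_left (by
    rw [Subgroup.lowerCentralSeries_succ, commutator_comm])))

theorem big_two (hE : IsPGroup p E) (h2 : Γ 2 ≠ ⊥) : p * Nat.card (Γ 3) < Nat.card (Γ 2) := by
  by_contra hle
  have e1 := D.fixed_of_small D.t D.tord hE (not_lt.1 hle) D.f1_mem
  have e2 := D.fixed_of_small D.s D.sord hE (not_lt.1 hle) D.f2_mem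
  rw [D.t_f1, mul_eq_left] at e1
  rw [D.s_f2, mul_eq_left, inv_eq_one] at e2
  refine h2 (D.lcs_eq_bot hE (D.gen_two.trans (sup_le ((closure_le _).2 ?_) le_rfl)))
  rintro x (rfl | rfl)
  exacts [(QuotientGroup.eq_one_iff _).1 e2, (QuotientGroup.eq_one_iff _).1 e1]

theorem jacobi : ψ 4 ⁅D.f1, D.b⁆ = ψ 4 ⁅D.f2, D.a⁆ := by
  set c := D.c with hcdef
  have e0 : c * (D.b * D.a) = D.a * D.b := by simp only [hcdef, Nat2.c, commutatorElement_def]; group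
  have e1 : ⁅c, c * (D.b * D.a)⁆ = c * ⁅c, D.b * D.a⁆ * c⁻¹ := by
    simp only [commutatorElement_def]; group
  have hcc : ψ 4 (c * ⁅c, D.b * D.a⁆ * c⁻¹) = ψ 4 ⁅c, D.b * D.a⁆ := by
    rw [map_mul, map_mul, map_inv, mul_inv_eq_iff_eq_mul]
    refine (commutatorElement_eq_one_iff_commute.1 ?_).eq
    rw [← map_commutatorElement]
    exact (QuotientGroup.eq_one_iff _).2 (lcs_le 2 1 (commutator_mem_commutator D.c_mem (comm_mem D.c_mem _)))
  have e2 : ψ 4 ⁅c, D.a * D.b⁆ = ψ 4 ⁅c, D.b * D.a⁆ := by rw [← e0, e1, hcc]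
  have hx : ∀ f y : E, f ∈ Γ 2 → ψ 4 (y * f * y⁻¹) = ψ 4 f * (ψ 4 ⁅f, y⁆)⁻¹ := fun f y hf => by
    have e : y * f * y⁻¹ = ⁅f, y⁆⁻¹ * f := by simp only [commutatorElement_def]; group
    rw [e, map_mul, map_inv]
    exact (psi_central (inv_mem (comm_mem hf y)) f).eq.trans (by rw [map_inv])
  have ea : ψ 4 ⁅c, D.a * D.b⁆ = ψ 4 D.f1 * (ψ 4 D.f2 * (ψ 4 ⁅D.f2, D.a⁆)⁻¹) := by
    have e : ⁅c, D.a * D.b⁆ = D.f1 * (D.a * D.f2 * D.a⁻¹) := by
      simp only [Nat2.f1, Nat2.f2, ← hcdef, commutatorElement_def]; group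
    rw [e, map_mul, hx _ _ D.f2_mem]
  have eb : ψ 4 ⁅c, D.b * D.a⁆ = ψ 4 D.f2 * (ψ 4 D.f1 * (ψ 4 ⁅D.f1, D.b⁆)⁻¹) := by
    have e : ⁅c, D.b * D.a⁆ = D.f2 * (D.b * D.f1 * D.b⁻¹) := by
      simp only [Nat2.f1, Nat2.f2, ← hcdef, commutatorElement_def]; group
    rw [e, map_mul, hx _ _ D.f1_mem]
  have hff : Commute (ψ 4 D.f1) (ψ 4 D.f2) := commutatorElement_eq_one_iff_commute.1 (by
    rw [← map_commutatorElement]
    exact (QuotientGroup.eq_one_iff _).2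
      (lcs_anti (by norm_num) (lcs_le 2 2 (commutator_mem_commutator D.f1_mem D.f2_mem))))
  rw [ea, eb, ← mul_assoc, ← mul_assoc, hff.eq, mul_right_inj, inv_inj] at e2
  exact e2.symm

theorem z_fix_three {x : E} (hx : x ∈ Γ 3) : ψ 4 (D.z x) = ψ 4 x := by
  let H : Subgroup E := MonoidHom.eqLocus ((ψ 4).comp D.z.toMonoidHom) (ψ 4)
  have hf : ∀ f y, f ∈ Γ 2 → ψ 3 (D.z f) = ψ 3 f⁻¹ → ψ 1 (D.z y) = ψ 1 y⁻¹ → ⁅f, y⁆ ∈ H :=
    fun f y hf e1 e2 => by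
      show ψ 4 (D.z ⁅f, y⁆) = ψ 4 ⁅f, y⁆
      rw [aut_comm D.z hf e1 e2, comm_inv_left hf, comm_inv_right hf, inv_inv]
  refine (D.succ_le (H := H) (fun w hw => ?_) (s := {D.f1, D.f2}) ?_ D.gen_two ?_ ?_) hx
  · show ψ 4 (D.z w) = ψ 4 w
    exact ((QuotientGroup.eq_one_iff _).2 (aut_lcs D.z hw)).trans ((QuotientGroup.eq_one_iff _).2 hw).symm
  · rintro w (rfl | rfl)
    exacts [D.f1_mem, D.f2_mem]
  · rintro w (rfl | rfl)
    exacts [hf _ _ D.f1_mem D.z_f1 D.za, hf _ _ D.f2_mem D.z_f2 D.za]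
  · rintro w (rfl | rfl)
    exacts [hf _ _ D.f1_mem D.z_f1 D.zb, hf _ _ D.f2_mem D.z_f2 D.zb]

theorem z_inv_two {x : E} (hx : x ∈ Γ 2) : ψ 3 (D.z x) = ψ 3 x⁻¹ := by
  let H : Subgroup E :=
    { carrier := {w | w ∈ Γ 2 ∧ ψ 3 (D.z w) = ψ 3 w⁻¹}
      one_mem' := ⟨one_mem _, by simp⟩
      mul_mem' := fun {u v} hu hv => ⟨mul_mem hu.1 hv.1, by
        rw [map_mul D.z, map_mul, hu.2, hv.2, mul_inv_rev, map_mul]
        exact (psi_central (inv_mem hu.1) v⁻¹).eq⟩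
      inv_mem' := fun {u} hu => ⟨inv_mem hu.1, by rw [map_inv D.z, map_inv, hu.2, ← map_inv]⟩ }
  have hle : Γ 2 ≤ H := D.gen_two.trans (sup_le ((closure_le _).2 ?_) fun w hw => ?_)
  · exact (hle hx).2
  · rintro w (rfl | rfl)
    exacts [⟨D.f1_mem, D.z_f1⟩, ⟨D.f2_mem, D.z_f2⟩]
  · exact ⟨lcs_anti (by norm_num) hw, ((QuotientGroup.eq_one_iff _).2 (aut_lcs D.z hw)).trans
      ((QuotientGroup.eq_one_iff _).2 (inv_mem hw)).symm⟩

/-- The fourth term is trivial. -/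
theorem four_eq_bot (hE : IsPGroup p E) (hr : RankThreeLE p E) (hp2 : p ≠ 2) : Γ 3 = ⊥ := by
  by_cases h2 : Γ 2 = ⊥
  · exact le_bot_iff.1 (h2 ▸ lcs_anti (by norm_num))
  have hpw : ∀ x ∈ Γ 2, x ^ p ∈ Γ 4 := fun x hx =>
    D.inverted_pow hE hp2 hx (D.z_inv_two hx) (D.z_fix_three (D.pow_mem 2 x hx))
  have hsec := hr (Γ 2) (Γ 4) (lcs_anti (by norm_num))
    (fun x hx y hy => lcs_anti (by norm_num) (lcs_le 2 2 (commutator_mem_commutator hx hy))) hpw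
  have hbig := D.big_two hE h2
  have hsmall : Nat.card (Γ 3) ≤ p * Nat.card (Γ 4) := by
    obtain ⟨a2, ha2⟩ := IsPGroup.iff_card.1 (hE.to_subgroup (Γ 2))
    obtain ⟨a3, ha3⟩ := IsPGroup.iff_card.1 (hE.to_subgroup (Γ 3))
    obtain ⟨a4, ha4⟩ := IsPGroup.iff_card.1 (hE.to_subgroup (Γ 4))
    rw [ha2, ha4, ← pow_add, Nat.pow_le_pow_iff_right hp.out.one_lt] at hsec
    rw [ha2, ha3, ← pow_succ', Nat.pow_lt_pow_iff_right hp.out.one_lt] at hbig
    rw [ha3, ha4, ← pow_succ']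
    exact Nat.pow_le_pow_right hp.out.pos (by omega)
  have hfix : ∀ f : MulAut E, (∃ k : ℕ, f ^ p ^ k = 1) → ∀ w ∈ Γ 3, ψ 4 (f w) = ψ 4 w :=
    fun f hf w hw => D.fixed_of_small f hf hE hsmall hw
  have hu := comm_mem D.f1_mem D.a
  have hv1 := comm_mem D.f1_mem D.b
  have hv2 := comm_mem D.f2_mem D.a
  have hw := comm_mem D.f2_mem D.b
  have t1 : ψ 3 (D.t D.f1) = ψ 3 (D.f1 * D.f2) := D.t_f1.trans (map_mul _ _ _).symm
  have s2 : ψ 3 (D.s D.f2) = ψ 3 (D.f2 * D.f1⁻¹) := D.s_f2.trans (by rw [map_mul, map_inv])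
  have w1 : ψ 4 ⁅D.f2, D.b⁆ = 1 := by
    have h := (aut_comm D.t D.f2_mem D.t_f2 D.ta).symm.trans (hfix _ D.tord _ hv2)
    rwa [comm_right D.f2_mem, mul_eq_left] at h
  have u1 : ψ 4 ⁅D.f1, D.a⁆ = 1 := by
    have h := (aut_comm D.s D.f1_mem D.s_f1 D.sb).symm.trans (hfix _ D.sord _ hv1)
    rwa [comm_right D.f1_mem, mul_eq_left, comm_inv_right D.f1_mem, inv_eq_one] at h
  have hvv : ψ 4 ⁅D.f1, D.b⁆ * ψ 4 ⁅D.f1, D.b⁆ = 1 := by
    have h := (aut_comm D.t D.f1_mem t1 D.ta).symm.trans (hfix _ D.tord _ hu)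
    rwa [comm_left D.f1_mem D.f2_mem, comm_right D.f1_mem, comm_right D.f2_mem, w1, mul_one, ← D.jacobi,
      mul_assoc, mul_eq_left] at h
  have v1 : ψ 4 ⁅D.f1, D.b⁆ = 1 := by
    obtain ⟨m, hm⟩ := hE ⁅D.f1, D.b⁆
    refine orderOf_eq_one_iff.1 (Nat.eq_one_of_dvd_coprimes
      (Nat.Coprime.pow_right m ((Nat.coprime_primes Nat.prime_two hp.out).2 (Ne.symm hp2)))
      (orderOf_dvd_of_pow_eq_one (by rw [sq]; exact hvv)) (orderOf_dvd_of_pow_eq_one (by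
        rw [← map_pow, hm, map_one])))
  refine D.lcs_eq_bot hE (D.succ_le le_rfl (s := {D.f1, D.f2}) ?_ D.gen_two ?_ ?_)
  · rintro w (rfl | rfl)
    exacts [D.f1_mem, D.f2_mem]
  · rintro w (rfl | rfl)
    exacts [(QuotientGroup.eq_one_iff _).1 u1, (QuotientGroup.eq_one_iff _).1 (D.jacobi.symm.trans v1)]
  · rintro w (rfl | rfl)
    exacts [(QuotientGroup.eq_one_iff _).1 v1, (QuotientGroup.eq_one_iff _).1 w1]

/-- A nontrivial third term gives a moved element there. -/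
theorem f2_ne (hE : IsPGroup p E) (hr : RankThreeLE p E) (hp2 : p ≠ 2) (h2 : Γ 2 ≠ ⊥) : D.f2 ≠ 1 := by
  intro e
  have h3 := D.four_eq_bot hE hr hp2
  refine h2 (D.lcs_eq_bot hE (D.gen_two.trans (sup_le ((closure_le _).2 ?_) le_rfl)))
  have e2 := D.s_f2
  rw [e, map_one, map_one, one_mul, eq_comm, inv_eq_one] at e2
  rintro x (rfl | rfl)
  exacts [(QuotientGroup.eq_one_iff _).1 e2, e ▸ one_mem _]

/-- Class at most two forces exponent `p` and order at most `p ^ 3`. -/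
theorem small_of_two (hE : IsPGroup p E) (hp2 : p ≠ 2) (hidx : (Γ 1).index = p ^ 2) (h2 : Γ 2 = ⊥) :
    (∀ x : E, x ^ p = 1) ∧ ((Nat.card E = p ^ 2 ∧ ∀ x y : E, Commute x y) ∨
      (Nat.card E = p ^ 3 ∧ ¬ Commute D.a D.b)) := by
  have hc : D.c ^ p = 1 := by
    have := D.pow_mem 1 D.c D.c_mem
    rwa [h2, mem_bot] at this
  have h1 : Γ 1 = zpowers D.c := by
    refine le_antisymm ?_ (zpowers_le.2 D.c_mem)
    have := D.gen_one
    rwa [h2, sup_bot_eq, ← zpowers_eq_closure] at this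
  have hzall : ∀ x, ψ 1 (D.z x) = ψ 1 x⁻¹ := fun x => by
    have hab : ∀ u v : E, Commute (ψ 1 u) (ψ 1 v) := fun u v => psi_central (mem_top u) v
    let H : Subgroup E :=
      { carrier := {w | ψ 1 (D.z w) = ψ 1 w⁻¹}
        one_mem' := by simp
        mul_mem' := fun {u v} hu hv => by
          show ψ 1 (D.z (u * v)) = ψ 1 (u * v)⁻¹
          rw [map_mul D.z, map_mul, hu, hv, mul_inv_rev, map_mul]
          exact (hab u⁻¹ v⁻¹).eq
        inv_mem' := fun {u} hu => by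
          show ψ 1 (D.z u⁻¹) = ψ 1 u⁻¹⁻¹
          rw [map_inv D.z, map_inv, hu, ← map_inv] }
    have hle : closure ({D.a, D.b} : Set E) ≤ H := (closure_le _).2 (by
      rintro w (rfl | rfl)
      exacts [D.za, D.zb])
    exact hle (D.gen.ge (mem_top x))
  have hexp : ∀ x : E, x ^ p = 1 := fun x => by
    have hz1 : ∀ w ∈ Γ 1, ψ 2 (D.z w) = ψ 2 w := fun w hw => by
      rw [h1] at hw
      obtain ⟨j, rfl⟩ := hw
      simp only [map_zpow, D.z_c]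
    have := D.inverted_pow hE hp2 (i := 0) (mem_top x) (hzall x) (hz1 _ (D.pow x))
    rwa [h2, mem_bot] at this
  refine ⟨hexp, ?_⟩
  have hcard := (Γ 1).card_mul_index
  rw [hidx, h1, Nat.card_zpowers] at hcard
  rcases (Nat.dvd_prime hp.out).1 (orderOf_dvd_of_pow_eq_one hc) with e | e
  · rw [e, one_mul] at hcard
    exact Or.inl ⟨hcard.symm, fun x y => IsPGroup.commutative_of_card_eq_prime_sq hcard.symm x y⟩
  · rw [e, ← pow_succ'] at hcard
    refine Or.inr ⟨hcard.symm, fun hab => ?_⟩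
    have : D.c = 1 := commutatorElement_eq_one_iff_commute.2 hab
    rw [this, orderOf_one] at e
    exact hp.out.ne_one e.symm

end Nat2

end Cfsg.Lib.Fusion.RankThreePair
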