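import Cfsg.Agent.Fusion.RankThreePair.PearlFrame
import Cfsg.Agent.Fusion.RankThree.Main
import Cfsg.Agent.Fusion.EssentialSylow
import Cfsg.Agent.Fusion.ExceptionShape

/-!
In sectional rank three an essential subgroup that is not normal is a pearl, for `p ≥ 5`.
-/

set_option autoImplicit false
set_option linter.unusedSectionVars false
set_option linter.style.haveILetI false

namespace Cfsg.Lib.Fusion.RankThreePair

open Subgroup Cfsg Cfsg.FusionSystem Cfsg.Lib.Fusion Cfsg.Lib.Fusion.RankThree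
open scoped commutatorElement

universe u

variable {p : ℕ} [hp : Fact p.Prime]

/-- A commutator subgroup lies in a normal subgroup as soon as the generators' commutators do. -/
theorem commutator_le_of_gen {G : Type u} [Group G] {X Y H : Subgroup G} [H.Normal] {sX sY : Set G}
    (hX : X ≤ closure sX) (hY : Y ≤ closure sY) (h : ∀ x ∈ sX, ∀ y ∈ sY, ⁅x, y⁆ ∈ H) : ⁅X, Y⁆ ≤ H := by
  refine (commutator_mono hX hY).trans ?_
  set π := QuotientGroup.mk' H
  suffices hs : (⁅closure sX, closure sY⁆).map π = ⊥ by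
    rwa [Subgroup.map_eq_bot_iff, QuotientGroup.ker_mk'] at hs
  rw [map_commutator, MonoidHom.map_closure, MonoidHom.map_closure, commutator_eq_bot_iff_le_centralizer,
    closure_le]
  rintro _ ⟨x, hx, rfl⟩
  rw [centralizer_closure]
  refine mem_centralizer_iff.2 ?_
  rintro _ ⟨y, hy, rfl⟩
  have h1 : ⁅π x, π y⁆ = 1 := by
    rw [← map_commutatorElement]; exact (QuotientGroup.eq_one_iff _).2 (h x hx y hy)
  exact (commutatorElement_eq_one_iff_mul_comm.1 h1).symm

variable {Ω : Type u} [Group Ω] {S : Subgroup Ω} {F : FusionSystem S}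

/-- An essential subgroup that is not normal is a pearl. -/
theorem pearl_of_not_normal [Finite S] (hp5 : 5 ≤ p) (hS : IsPGroup p S) (hrS : RankThreeLE p S)
    (hF : F.IsSaturated p) {E : Subgroup Ω} (hE : F.IsEssential p E)
    (hnn : ¬ S ≤ Subgroup.normalizer (E : Set Ω)) :
    (Cfsg.IsElementaryAbelian p E ∧ Nat.card E = p ^ 2) ∨
      (Cfsg.IsExtraspecial p E ∧ Nat.card E = p ^ 3 ∧ ∀ x ∈ E, x ^ p = 1) := by
  classical
  have hp2 : p ≠ 2 := by omega
  have hES := hE.1.1
  haveI : Finite E := finite_of_le hES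
  haveI : Finite (MulAut E) :=
    Finite.of_injective (fun f : MulAut E => (f : E → E)) DFunLike.coe_injective
  have hEp : IsPGroup p E := hS.of_injective _ (Subgroup.inclusion_injective hES)
  have hCE : centralizerIn S E ≤ E := hE.1.2 E (isConj_refl hES)
  set A := F.autGroup E with hAdef
  obtain ⟨R₁, R₂, hR⟩ := exists_two_sylow_of_essential hS hE
  have hA : ¬ Subsingleton (Sylow p A) := fun h => hR (Subsingleton.elim R₁ R₂)
  have hrE : RankThreeLE p E := by
    intro X K hKX hc hpw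
    have h := hrS (X.map (Subgroup.inclusion hES)) (K.map (Subgroup.inclusion hES))
      (Subgroup.map_mono hKX)
      (by rintro _ ⟨x, hx, rfl⟩ _ ⟨y, hy, rfl⟩
          rw [← map_commutatorElement]; exact mem_map_of_mem _ (hc x hx y hy))
      (by rintro _ ⟨x, hx, rfl⟩; rw [← map_pow]; exact mem_map_of_mem _ (hpw x hx))
    rwa [Subgroup.card_map_of_injective (Subgroup.inclusion_injective _),
      Subgroup.card_map_of_injective (Subgroup.inclusion_injective _)] at h
  -- two generators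
  obtain ⟨i, hi⟩ : ∃ i, (frattini E).index = p ^ i := by
    obtain ⟨n, hn⟩ := IsPGroup.iff_card.1 hEp
    obtain ⟨i, -, hi⟩ := (Nat.dvd_prime_pow hp.out).1 (hn ▸ (frattini E).index_dvd_card)
    exact ⟨i, hi⟩
  have hidx : (frattini E).index = p ^ 2 := by
    have h3 : i ≤ 3 := by
      have h := hrE ⊤ (frattini E) le_top
        (fun x _ y _ => Cfsg.Lib.PGroups.commutator_le_frattini hEp (commutator_mem_commutator (mem_top x) (mem_top y)))
        (fun x _ => Cfsg.Lib.PGroups.pow_mem_frattini hEp x)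
      rw [card_top, ← (frattini E).card_mul_index, hi, mul_comm (Nat.card (frattini E))] at h
      exact (Nat.pow_le_pow_iff_right hp.out.one_lt).1 (Nat.le_of_mul_le_mul_right h Nat.card_pos)
    have hne3 : i ≠ 3 := fun e => hnn (le_normalizer_of_rank_three hp5 hS hrS hF hE (e ▸ hi))
    rcases (show i ≤ 1 ∨ i = 2 by omega) with h | h
    · exfalso
      haveI : IsCyclic (E ⧸ frattini E) := by
        rcases (show i = 0 ∨ i = 1 by omega) with h | h
        · haveI : Subsingleton (E ⧸ frattini E) := (Nat.card_eq_one_iff_unique.1 (by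
            rw [← Subgroup.index_eq_card, hi, h, pow_zero])).1
          exact isCyclic_of_subsingleton
        · exact isCyclic_of_prime_card (p := p) (by rw [← Subgroup.index_eq_card, hi, h, pow_one])
      haveI : IsCyclic E := Cfsg.Lib.PGroups.isCyclic_of_isCyclic_quotient_frattini
      exact hA (subsingleton_sylow_aut_of_cyclic A)
    · rw [hi, h]
  have hcore : ∀ α ∈ A, (∀ x, α x * x⁻¹ ∈ frattini E) → ∃ g, α = MulAut.conj g := by
    intro α hα hx
    let K : Subgroup A :=
      { carrier := {c | ∀ x, (c : MulAut E) x * x⁻¹ ∈ frattini E}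
        one_mem' := fun x => by simp
        mul_mem' := fun {c d} hc hd x => by
          have h := (frattini E).mul_mem (hc ((d : MulAut E) x)) (hd x)
          simpa [MulAut.mul_apply, mul_assoc] using h
        inv_mem' := fun {c} hc x => by simpa using (frattini E).inv_mem (hc ((c : MulAut E)⁻¹ x)) }
    have hKn : K.Normal := ⟨fun c hc d x => by
      have h := hc ((d : MulAut E)⁻¹ x)
      have hcd : (d : MulAut E) ((c : MulAut E) ((d : MulAut E)⁻¹ x) * ((d : MulAut E)⁻¹ x)⁻¹) ∈ frattini E :=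
        (Subgroup.characteristic_iff_map_eq.1 (inferInstance : (frattini E).Characteristic) (d : MulAut E)).le
          (mem_map_of_mem _ h)
      rw [map_mul, map_inv, MulAut.apply_inv_self] at hcd
      exact hcd⟩
    have hKp : IsPGroup p K := fun c => by
      obtain ⟨k, hk⟩ := pow_eq_one_of_frattini hEp ((c : A) : MulAut E) c.2
      exact ⟨k, Subtype.ext (Subtype.ext hk)⟩
    have hle : (⟨α, hα⟩ : A) ∈ pCore p A := (le_sSup ⟨hKn, hKp⟩ : K ≤ pCore p A) hx
    obtain ⟨g, hg⟩ := (radical_of_stronglyEmbedded hS hE).2.le (mem_map_of_mem A.subtype hle)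
    exact ⟨g, hg.symm⟩
  -- the normalizer
  have hlt : E < normalizerIn S E := lt_normalizerIn hS
    (lt_of_le_of_ne hES fun h => hnn (h ▸ Subgroup.le_normalizer))
  set N := normalizerIn S E with hN
  obtain ⟨n₀, hn₀, hn₀E⟩ := SetLike.exists_of_lt hlt
  have hTne : ∃ α ∈ autInducedBy S E, ∀ g, α ≠ MulAut.conj g :=
    ⟨conjAut E n₀ hn₀.2, conjAut_mem_autInducedBy hn₀.2 hn₀.1, fun g h =>
      hn₀E (mem_of_inn hCE hn₀.1 hn₀.2 ⟨g, h.symm⟩ hES)⟩
  obtain ⟨D, hab, htT, ⟨gp, hgp⟩, hgenT⟩ := exists_nat2 hEp hp5 hidx A hA hcore (autInducedBy S E)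
    (autInducedBy_le hES) (isPGroup_autInducedBy hS E) hTne
  by_cases h2 : (⊤ : Subgroup E).lowerCentralSeries 2 = ⊥
  · obtain ⟨hexp, ⟨hc, hcomm⟩ | ⟨hc, hne⟩⟩ := D.small_of_two hEp hp2 hab h2
    · refine Or.inl ⟨⟨⟨⟨fun x y => hcomm x y⟩⟩, fun x hx => ?_⟩, hc⟩
      exact congrArg Subtype.val (hexp ⟨x, hx⟩)
    · exact Or.inr ⟨isExtraspecial_of_cube hc (a := D.a) (b := D.b) hne, hc,
        fun x hx => congrArg Subtype.val (hexp ⟨x, hx⟩)⟩
  exfalso
  haveI : Finite N := finite_of_le inf_le_left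
  obtain ⟨g, hgS, hgt⟩ := mem_autInducedBy.1 htT
  have hgN : g ∈ N := ⟨hgS, mem_normalizer_of_maps_finite fun x hx => by
    rw [← hgt ⟨x, hx⟩]; exact SetLike.coe_mem _⟩
  set n : N := ⟨g, hgN⟩ with hn
  set ι : E →* N := Subgroup.inclusion hlt.le with hι
  have hconj : ∀ x : E, n * ι x * n⁻¹ = ι (D.t x) := fun x => Subtype.ext (hgt x).symm
  -- the layers
  let J : ℕ → Subgroup N := fun k => ((⊤ : Subgroup E).lowerCentralSeries k).map ι
  have hnor : ∀ m : N, ∀ x : E, ∃ c : MulAut E, m * ι x * m⁻¹ = ι (c x) := fun m x =>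
    ⟨conjAut E m m.2.2, Subtype.ext rfl⟩
  have hJn : ∀ k, (J k).Normal := fun k => ⟨by
    rintro _ ⟨x, hx, rfl⟩ m
    exact ⟨conjAut E m m.2.2 x, aut_lcs _ hx, Subtype.ext rfl⟩⟩
  have hgenN : ∀ m : N, ∃ (i : ℕ) (e : E), m = n ^ i * ι e := fun m => by
    obtain ⟨i, e, he⟩ := hgenT _ (conjAut_mem_autInducedBy m.2.2 m.2.1)
    have hpow : ∀ (j : ℕ) (x : E), ι ((D.t ^ j) x) = n ^ j * ι x * (n ^ j)⁻¹ := by
      intro j
      induction j with
      | zero => intro x; simp
      | succ j ih =>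
        intro x
        rw [pow_succ', MulAut.mul_apply, ← hconj, ih, pow_succ']
        group
    have h1 : ((n ^ i * ι e)⁻¹ * m : N).1 ∈ E := by
      have hmem : ((n ^ i * ι e)⁻¹ * m : N).1 ∈ centralizerIn S E := by
        refine mem_centralizerIn.2 ⟨((n ^ i * ι e)⁻¹ * m).2.1, fun x hx => ?_⟩
        have h : m * ι ⟨x, hx⟩ * m⁻¹ = (n ^ i * ι e) * ι ⟨x, hx⟩ * (n ^ i * ι e)⁻¹ := by
          have h1 : m * ι ⟨x, hx⟩ * m⁻¹ = ι ((D.t ^ i * MulAut.conj e) ⟨x, hx⟩) := by
            rw [← he]; exact Subtype.ext rfl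
          rw [h1, MulAut.mul_apply, hpow, MulAut.conj_apply, map_mul, map_mul, map_inv]
          group
        have h' : ((n ^ i * ι e)⁻¹ * m) * ι ⟨x, hx⟩ * ((n ^ i * ι e)⁻¹ * m)⁻¹ = ι ⟨x, hx⟩ := by
          calc ((n ^ i * ι e)⁻¹ * m) * ι ⟨x, hx⟩ * ((n ^ i * ι e)⁻¹ * m)⁻¹
              = (n ^ i * ι e)⁻¹ * (m * ι ⟨x, hx⟩ * m⁻¹) * (n ^ i * ι e) := by group
            _ = ι ⟨x, hx⟩ := by rw [h]; group
        exact congrArg Subtype.val h'
      exact hCE hmem
    refine ⟨i, e * ⟨_, h1⟩, ?_⟩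
    rw [map_mul, show ι ⟨_, h1⟩ = (n ^ i * ι e)⁻¹ * m from Subtype.ext rfl, ← mul_assoc, mul_inv_cancel_left]
  set sN : Set N := {n, ι D.a, ι D.b}
  have hnS : n ∈ sN := Or.inl rfl
  have haS : ι D.a ∈ sN := Or.inr (Or.inl rfl)
  have hbS : ι D.b ∈ sN := Or.inr (Or.inr rfl)
  have htop : (⊤ : Subgroup N) ≤ closure sN := fun m _ => by
    obtain ⟨i, e, rfl⟩ := hgenN m
    refine mul_mem (pow_mem (Subgroup.subset_closure hnS) i) ?_
    have hle : closure ({D.a, D.b} : Set E) ≤ (closure sN).comap ι := (closure_le _).2 (by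
      rintro w (rfl | rfl)
      exacts [Subgroup.subset_closure haS, Subgroup.subset_closure hbS])
    exact hle (D.gen.ge (mem_top e))
  have hιmem : ∀ {k : ℕ} {x : E}, x ∈ (⊤ : Subgroup E).lowerCentralSeries k → ι x ∈ J k :=
    fun hx => mem_map_of_mem _ hx
  have hcn : ∀ x : E, ⁅n, ι x⁆ = ι (D.t x * x⁻¹) := fun x => by
    rw [commutatorElement_def, hconj, map_mul, map_inv]
  have hcn' : ∀ x : E, ⁅ι x, n⁆ = ι (x * (D.t x)⁻¹) := fun x => by
    rw [← commutatorElement_inv, hcn, ← map_inv, mul_inv_rev, inv_inv]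
  have hψ : ∀ {k : ℕ} {x y : E}, QuotientGroup.mk' ((⊤ : Subgroup E).lowerCentralSeries k) x =
      QuotientGroup.mk' ((⊤ : Subgroup E).lowerCentralSeries k) y → x * y⁻¹ ∈ (⊤ : Subgroup E).lowerCentralSeries k :=
    fun {k x y} e => by
      rw [← QuotientGroup.eq_one_iff]
      show QuotientGroup.mk' _ _ = 1
      rw [map_mul, map_inv, e, mul_inv_cancel]
  -- the commutator
  set B := zpowers (ι D.b) ⊔ J 1 with hB
  have hbB : ι D.b ∈ B := mem_sup_left (mem_zpowers _)
  have hJB : J 1 ≤ B := le_sup_right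
  have haB : ι (D.t D.a * D.a⁻¹) ∈ B := by
    have h := hψ D.ta
    rw [show D.t D.a * D.a⁻¹ = (D.t D.a * (D.a * D.b)⁻¹) * ⁅D.a, D.b⁆ * D.b by
      simp only [commutatorElement_def]; group, map_mul]
    exact mul_mem (hJB (hιmem (mul_mem h (comm_mem (mem_top D.a) D.b)))) hbB
  haveI hBn : B.Normal := by
    haveI := hJn 1
    refine normalizer_eq_top_iff.1 (eq_top_iff.2 (htop.trans ((closure_le _).2 ?_)))
    intro m hm
    refine mem_normalizer_of_maps_finite fun x hx => ?_
    have hle : B ≤ B.comap (MulAut.conj m).toMonoidHom := by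
      refine sup_le (zpowers_le.2 ?_) fun y hy => hJB ((hJn 1).conj_mem y hy m)
      show m * ι D.b * m⁻¹ ∈ B
      rw [show m * ι D.b * m⁻¹ = ⁅m, ι D.b⁆ * ι D.b by simp only [commutatorElement_def]; group]
      refine mul_mem (hJB ?_) hbB
      rcases hm with rfl | rfl | rfl
      · rw [hcn]; exact hιmem (hψ D.tb)
      · rw [← map_commutatorElement]; exact hιmem (comm_mem (mem_top D.a) D.b)
      · rw [← map_commutatorElement]; exact hιmem (comm_mem (mem_top D.b) D.b)
    exact hle hx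
  have g1 : (⊤ : Subgroup N).lowerCentralSeries 1 ≤ B := by
    refine commutator_le_of_gen htop htop ?_
    have hna : ⁅n, ι D.a⁆ ∈ B := hcn D.a ▸ haB
    have hnb : ⁅n, ι D.b⁆ ∈ B := hcn D.b ▸ hJB (hιmem (hψ D.tb))
    have hab' : ⁅ι D.a, ι D.b⁆ ∈ B := by
      rw [← map_commutatorElement]; exact hJB (hιmem (comm_mem (mem_top D.a) D.b))
    rintro x (rfl | rfl | rfl) y (rfl | rfl | rfl) <;>
      first
        | (rw [commutatorElement_self]; exact one_mem _)
        | assumption
        | (rw [← commutatorElement_inv]; exact inv_mem ‹_›)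
  have g2 : (⊤ : Subgroup N).lowerCentralSeries 2 ≤ J 1 := by
    haveI := hJn 1
    rw [Subgroup.lowerCentralSeries_succ]
    refine commutator_le_of_gen (sX := {ι D.b} ∪ (J 1 : Set N)) (g1.trans (sup_le
      (zpowers_le.2 (Subgroup.subset_closure (Or.inl rfl))) fun y hy => Subgroup.subset_closure (Or.inr hy))) htop ?_
    rintro x (hx | hx) y hy
    · rw [Set.mem_singleton_iff] at hx
      subst hx
      rcases hy with rfl | rfl | rfl
      · rw [← commutatorElement_inv, hcn]; exact inv_mem (hιmem (hψ D.tb))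
      · rw [← map_commutatorElement]; exact hιmem (comm_mem (mem_top D.b) D.a)
      · rw [commutatorElement_self]; exact one_mem _
    · exact commutator_le_left (J 1) ⊤ (commutator_mem_commutator hx (mem_top y))
  have g3 : (⊤ : Subgroup N).lowerCentralSeries 3 ≤ J 2 := by
    haveI := hJn 2
    rw [Subgroup.lowerCentralSeries_succ]
    refine commutator_le_of_gen (sX := {ι D.c} ∪ (J 2 : Set N)) (g2.trans ?_) htop ?_
    · refine (Subgroup.map_mono D.gen_one).trans ?_
      rw [Subgroup.map_sup, MonoidHom.map_closure, Set.image_singleton, sup_le_iff]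
      exact ⟨Subgroup.closure_mono Set.subset_union_left, fun y hy => Subgroup.subset_closure (Or.inr hy)⟩
    rintro x (hx | hx) y hy
    · rw [Set.mem_singleton_iff] at hx
      subst hx
      rcases hy with rfl | rfl | rfl
      · rw [← commutatorElement_inv, hcn]; exact inv_mem (hιmem (hψ D.t_c))
      · rw [← map_commutatorElement]; exact hιmem (comm_mem D.c_mem D.a)
      · rw [← map_commutatorElement]; exact hιmem (comm_mem D.c_mem D.b)
    · exact commutator_le_left (J 2) ⊤ (commutator_mem_commutator hx (mem_top y))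
  -- the moved element
  have h3 := D.four_eq_bot hEp hrE hp2
  have heq3 : ∀ {x y : E}, QuotientGroup.mk' ((⊤ : Subgroup E).lowerCentralSeries 3) x =
      QuotientGroup.mk' ((⊤ : Subgroup E).lowerCentralSeries 3) y → x = y := fun {x y} e => by
    have := psi_eq.1 e
    rwa [h3, mem_bot, inv_mul_eq_one] at this
  have hf1 : ι D.f1 ∈ (⊤ : Subgroup N).lowerCentralSeries 3 := by
    have hq : ⁅⁅⁅n, ι D.a⁆, ι D.a⁆, ι D.a⁆ ∈ (⊤ : Subgroup N).lowerCentralSeries 3 :=
      commutator_mem_commutator (commutator_mem_commutator (commutator_mem_commutator (mem_top _) (mem_top _))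
        (mem_top _)) (mem_top _)
    rw [hcn, ← map_commutatorElement, ← map_commutatorElement] at hq
    have e1 : QuotientGroup.mk' ((⊤ : Subgroup E).lowerCentralSeries 1) (D.t D.a * D.a⁻¹) =
        QuotientGroup.mk' ((⊤ : Subgroup E).lowerCentralSeries 1) D.b := by
      rw [map_mul, D.ta, ← map_mul]
      exact (psi_eq.2 (by
        rw [show (D.a * D.b * D.a⁻¹)⁻¹ * D.b = ⁅D.a, D.b⁻¹⁆ by simp only [commutatorElement_def]; group]
        exact comm_mem (mem_top _) _))
    have e2 : QuotientGroup.mk' ((⊤ : Subgroup E).lowerCentralSeries 2) ⁅D.t D.a * D.a⁻¹, D.a⁆ =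
        QuotientGroup.mk' ((⊤ : Subgroup E).lowerCentralSeries 2) D.c⁻¹ := by
      rw [comm_congr (i := 0) (mem_top _) e1 (rfl : QuotientGroup.mk' _ D.a = _), Nat2.c, commutatorElement_inv]
    have e3 : ⁅⁅D.t D.a * D.a⁻¹, D.a⁆, D.a⁆ = D.f1⁻¹ := by
      refine heq3 ?_
      rw [comm_congr (i := 1) (comm_mem (mem_top _) _) e2 (rfl : QuotientGroup.mk' _ D.a = _),
        comm_inv_left D.c_mem, map_inv]
      rfl
    rw [e3, map_inv, inv_mem_iff] at hq
    exact hq
  set C := centralizer (((⊤ : Subgroup N).lowerCentralSeries 3 : Subgroup N) : Set N) with hCdef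
  have hEC : ∀ x : E, ι x ∈ C := fun x => mem_centralizer_iff.2 fun y hy => by
    obtain ⟨w, hw, rfl⟩ := g3 hy
    rw [← map_mul, ← map_mul]
    refine congrArg ι (commutatorElement_eq_one_iff_mul_comm.1 ?_)
    have := comm_mem hw x
    rwa [h3, mem_bot] at this
  have hnC : n ∉ C := fun hC => by
    have h : n * ι D.f1 * n⁻¹ = ι D.f1 := by
      rw [← mem_centralizer_iff.1 hC _ hf1, mul_inv_cancel_right]
    rw [hconj] at h
    have h1 := D.t_f1
    rw [Subgroup.inclusion_injective _ h, ← map_mul] at h1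
    exact D.f2_ne hEp hrE hp2 h2 (mul_eq_left.1 (heq3 h1).symm)
  have hnp : (n : N) ^ p ∈ ι.range := by
    have hpow : ∀ (j : ℕ) (x : E), ((((D.t ^ j) x : E)) : Ω) = g ^ j * x * (g ^ j)⁻¹ := by
      intro j
      induction j with
      | zero => intro x; simp
      | succ j ih =>
        intro x
        rw [pow_succ', MulAut.mul_apply, hgt, ih, pow_succ']
        group
    have hgn : g ^ p ∈ Subgroup.normalizer (E : Set Ω) := pow_mem hgN.2 p
    have hmem : g ^ p ∈ E := mem_of_inn hCE (pow_mem hgS p) hgn ⟨gp, MulEquiv.ext fun x => Subtype.ext (by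
      rw [← hgp, hpow, conjAut_apply])⟩ hES
    exact ⟨⟨_, hmem⟩, Subtype.ext rfl⟩
  have hCE' : C = ι.range := by
    refine le_antisymm (fun m hm => ?_) (by rintro _ ⟨x, rfl⟩; exact hEC x)
    obtain ⟨i, e, rfl⟩ := hgenN m
    have hi : n ^ i ∈ C := by
      have := mul_mem hm (inv_mem (hEC e))
      rwa [mul_inv_cancel_right] at this
    by_cases hpi : p ∣ i
    · obtain ⟨d, rfl⟩ := hpi
      rw [pow_mul]
      exact mul_mem (pow_mem hnp d) ⟨e, rfl⟩
    · exfalso
      refine hnC ?_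
      have hcop : Nat.Coprime i p := ((Nat.Prime.coprime_iff_not_dvd hp.out).2 hpi).symm
      have hnpC : n ^ p ∈ C := by obtain ⟨x, hx⟩ := hnp; exact hx ▸ hEC x
      have := Nat.gcd_eq_gcd_ab i p
      rw [hcop, Nat.cast_one] at this
      have h1 : n ^ (1 : ℤ) ∈ C := by
        rw [this, zpow_add, zpow_mul, zpow_mul, zpow_natCast, zpow_natCast]
        exact mul_mem (zpow_mem hi _) (zpow_mem hnpC _)
      rwa [zpow_one] at h1
  -- so the normalizer is not grown
  refine hnn fun s hs => ?_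
  by_contra hsn
  have hNS : N < S := lt_of_le_of_ne inf_le_left fun h => hsn (show s ∈ N from h.symm ▸ hs).2
  obtain ⟨w, hwS, hwN⟩ := SetLike.exists_of_lt (lt_normalizerIn hS hNS)
  refine hwN ⟨hwS.1, mem_normalizer_of_maps_finite fun x hx => ?_⟩
  set γ : MulAut N := conjAut N w hwS.2
  have h1 : γ (ι ⟨x, hx⟩) ∈ C := by
    haveI : C.Characteristic := Subgroup.characteristic_centralizer
    refine (Subgroup.characteristic_iff_map_eq.1 (inferInstance : C.Characteristic) γ).le ?_
    exact mem_map_of_mem _ (hEC _)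
  obtain ⟨y, hy⟩ := hCE'.le h1
  have h2' : (y : Ω) = w * x * w⁻¹ := congrArg Subtype.val hy
  exact h2' ▸ y.2

end Cfsg.Lib.Fusion.RankThreePair
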