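import Cfsg.Prelude.Def_CaseTheorems
import Mathlib

/-!
A group that is not of sectional rank two is nontrivial, and abelian when it has order `p ^ 3`.
-/

set_option autoImplicit false

namespace Cfsg.Lib.Fusion.RankThreePair

open Subgroup

variable {p : ℕ} [hp : Fact p.Prime] {G : Type*} [Group G] [Finite G]

theorem nontrivial_and_commute (h : ¬ Cfsg.SectionalPRankLE p 2 G) :
    Nontrivial G ∧ (Nat.card G = p ^ 3 → ∀ x y : G, Commute x y) := by
  simp only [Cfsg.SectionalPRankLE, Cfsg.PRankLE, not_forall, not_le, exists_prop] at h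
  obtain ⟨H, N, hN, A, hA, hexp, hc⟩ := h
  haveI := hN
  have hq : Nat.card A ≤ Nat.card (H ⧸ N) := card_le_card_group A
  have hm : Nat.card (H ⧸ N) * Nat.card N = Nat.card H := (card_eq_card_quotient_mul_card_subgroup N).symm
  have hN1 : 0 < Nat.card N := Nat.card_pos
  have hHG : Nat.card H ≤ Nat.card G := card_le_card_group H
  refine ⟨?_, fun hG x y => ?_⟩
  · rw [← Finite.one_lt_card_iff_nontrivial]
    have : 1 ≤ p ^ 2 := Nat.one_le_pow _ _ hp.out.pos
    have h2 : Nat.card (H ⧸ N) ≤ Nat.card H := hm ▸ Nat.le_mul_of_pos_right _ hN1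
    omega
  · obtain ⟨a, ha⟩ : ∃ a, Nat.card A = p ^ a := by
      obtain ⟨a, -, ha⟩ := (Nat.dvd_prime_pow hp.out).1 (show Nat.card A ∣ p ^ 3 from
        hG ▸ (A.card_subgroup_dvd_card.trans (Dvd.intro _ hm)).trans H.card_subgroup_dvd_card)
      exact ⟨a, ha⟩
    have h3 : p ^ 3 ≤ Nat.card A := by
      rw [ha] at hc ⊢
      exact Nat.pow_le_pow_right hp.out.pos ((Nat.pow_lt_pow_iff_right hp.out.one_lt).1 hc)
    have hNb : N = ⊥ := card_eq_one.1 (by
      by_contra hne
      have : Nat.card (H ⧸ N) * 2 ≤ Nat.card H := hm ▸ Nat.mul_le_mul_left _ (by omega)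
      have : 1 ≤ p ^ 3 := Nat.one_le_pow _ _ hp.out.pos
      omega)
    subst hNb
    have hqc : Nat.card (H ⧸ (⊥ : Subgroup H)) = Nat.card H := Nat.card_congr (QuotientGroup.quotientBot (G := H)).toEquiv
    have hH : H = ⊤ := eq_top_of_le_card H (by omega)
    have hAt : A = ⊤ := eq_top_of_le_card A (by omega)
    have e := hA.is_comm.comm ⟨QuotientGroup.mk ⟨x, hH ▸ mem_top x⟩, hAt ▸ mem_top _⟩
      ⟨QuotientGroup.mk ⟨y, hH ▸ mem_top y⟩, hAt ▸ mem_top _⟩
    have e' := congrArg Subtype.val e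
    rw [coe_mul, coe_mul, ← QuotientGroup.mk_mul, ← QuotientGroup.mk_mul] at e'
    exact congrArg Subtype.val ((QuotientGroup.quotientBot (G := H)).symm.injective e')

end Cfsg.Lib.Fusion.RankThreePair
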