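import Cfsg.Agent.Fusion.RankThreePair.System
import Cfsg.Agent.Classical.Symp.Matrix
import Cfsg.Agent.Fusion.RankThreePair.Bridge

/-!
A group of the shape of a Sylow subgroup of `Sp 4` over a prime field is isomorphic to such a subgroup.
-/

set_option autoImplicit false
set_option linter.unusedSectionVars false
set_option linter.unusedSimpArgs false
set_option linter.style.haveILetI false

namespace Cfsg.Lib.Fusion.RankThreePair

open Subgroup
open scoped commutatorElement Pointwise

universe u v

variable {p : ℕ} [hp : Fact p.Prime]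

/-- The unipotent block. -/
def stepMap (y : Fin 3 → ZMod p) : Fin 3 → ZMod p := ![y 0, y 1 + y 0, y 2 + y 1]

/-- Every group of the shape has the same multiplication in suitable coordinates. -/
theorem exists_coords {T : Type u} [Group T] [Finite T] (h : Shape p T) :
    ∃ φ : (Fin 3 → ZMod p) × ZMod p → T, Function.Bijective φ ∧
      ∀ x y k l, φ (x, k) * φ (y, l) = φ (x + (stepMap)^[k.val] y, k + l) := by
  classical
  obtain ⟨hT, V, hVn, hV, hab, hexp, b, hbV, hbp, v, hv, hne⟩ := h
  haveI := hVn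
  letI : CommGroup V :=
    { (inferInstance : Group V) with mul_comm := fun x y => Subtype.ext (hab x x.2 y y.2).eq }
  have hexp' : ∀ x : V, x ^ p = 1 := fun x => Subtype.ext (by rw [coe_pow]; exact hexp _ x.2)
  letI : Module (ZMod p) (Additive V) :=
    AddCommGroup.zmodModule (n := p) fun x => congrArg Additive.ofMul (hexp' (Additive.toMul x))
  let cv : V → V := fun x => ⟨b * x * b⁻¹, hVn.conj_mem _ x.2 b⟩
  have hcv : ∀ x y, cv (x * y) = cv x * cv y := fun x y => Subtype.ext (by
    show b * ((x : T) * y) * b⁻¹ = b * x * b⁻¹ * (b * y * b⁻¹)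
    group)
  let τ : Module.End (ZMod p) (Additive V) :=
    { toFun := fun w => Additive.ofMul (cv (Additive.toMul w))
      map_add' := fun x y => congrArg Additive.ofMul (hcv (Additive.toMul x) (Additive.toMul y))
      map_smul' := fun c w => ZMod.map_smul (AddMonoidHom.mk' (fun w : Additive V => Additive.ofMul (cv (Additive.toMul w)))
        fun x y => congrArg Additive.ofMul (hcv (Additive.toMul x) (Additive.toMul y))) c w }
  have hτn : ∀ (n : ℕ) (w : Additive V),
      ((Additive.toMul ((τ ^ n) w) : V) : T) = b ^ n * (Additive.toMul w : V) * (b ^ n)⁻¹ := by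
    intro n
    induction n with
    | zero => intro w; simp
    | succ n ih =>
      intro w
      rw [pow_succ, Module.End.mul_apply, ih]
      show b ^ n * (b * _ * b⁻¹) * (b ^ n)⁻¹ = _
      group
  have hτp : τ ^ p = 1 := LinearMap.ext fun w => Additive.toMul.injective (Subtype.ext (by
    rw [hτn, hbp, one_mul, inv_one, mul_one]; rfl))
  set δ := τ - 1 with hδ
  haveI : Nontrivial V := by
    rw [← Finite.one_lt_card_iff_nontrivial, hV]
    exact Nat.one_lt_pow (by norm_num) hp.out.one_lt
  haveI : CharP (Module.End (ZMod p) (Additive V)) p :=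
    charP_of_injective_algebraMap (algebraMap (ZMod p) (Module.End (ZMod p) (Additive V))).injective p
  have hδp : δ ^ p = 0 := by
    rw [hδ, sub_pow_char_of_commute _ (Commute.one_right τ), hτp, one_pow, sub_self]
  set v₀ : Additive V := Additive.ofMul (⟨v, hv⟩ : V)
  set v₁ := δ v₀
  set v₂ := δ v₁
  have hδval : ∀ w : Additive V, ((Additive.toMul (δ w) : V) : T) = ⁅b, ((Additive.toMul w : V) : T)⁆ :=
    fun w => by
      rw [commutatorElement_def]
      show ((Additive.toMul (τ w - w) : V) : T) = _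
      rw [toMul_sub]
      show (cv (Additive.toMul w) : T) / (Additive.toMul w : V) = _
      rw [div_eq_mul_inv]
  have h2 : v₂ ≠ 0 := fun e => hne (by
    have := hδval v₁
    rw [hδval v₀] at this
    show ⁅b, ⁅b, ((Additive.toMul v₀ : V) : T)⁆⁆ = 1
    rw [← this, show δ v₁ = 0 from e]
    rfl)
  obtain ⟨m, hm, hm'⟩ : ∃ m, (δ ^ m) v₀ ≠ 0 ∧ (δ ^ (m + 1)) v₀ = 0 := by
    have hex : ∃ n, (δ ^ n) v₀ = 0 := ⟨p, by rw [hδp]; rfl⟩
    have h0 : Nat.find hex ≠ 0 := fun e => by
      have := Nat.find_spec hex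
      rw [e, pow_zero] at this
      exact h2 (by show δ (δ v₀) = 0; rw [show v₀ = 0 from this, map_zero, map_zero])
    refine ⟨Nat.find hex - 1, Nat.find_min hex (by omega), ?_⟩
    rw [Nat.sub_add_cancel (by omega)]
    exact Nat.find_spec hex
  have hzero : ∀ n, m < n → (δ ^ n) v₀ = 0 := fun n hn => by
    obtain ⟨j, rfl⟩ : ∃ j, n = j + (m + 1) := ⟨n - (m + 1), by omega⟩
    rw [pow_add, Module.End.mul_apply, hm', map_zero]
  have hpv : ∀ n, (δ ^ n) v₁ = (δ ^ (n + 1)) v₀ ∧ (δ ^ n) v₂ = (δ ^ (n + 2)) v₀ := fun n =>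
    ⟨by rw [pow_succ, Module.End.mul_apply], by rw [pow_succ, pow_succ, Module.End.mul_apply, Module.End.mul_apply]⟩
  have hm2 : 2 ≤ m := by
    by_contra hlt
    have := (hpv 0).2
    rw [pow_zero, Module.End.one_apply] at this
    exact h2 (this.trans (hzero 2 (by omega)))
  let L : (Fin 3 → ZMod p) →ₗ[ZMod p] Additive V := Fintype.linearCombination (ZMod p) ![v₀, v₁, v₂]
  have hL : ∀ x, L x = x 0 • v₀ + x 1 • v₁ + x 2 • v₂ := fun x => by
    simp [L, Fintype.linearCombination_apply, Fin.sum_univ_three]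
  have hLapp : ∀ x n, (δ ^ n) (L x) =
      x 0 • (δ ^ n) v₀ + x 1 • (δ ^ (n + 1)) v₀ + x 2 • (δ ^ (n + 2)) v₀ := fun x n => by
    rw [hL, map_add, map_add, map_smul, map_smul, map_smul, (hpv n).1, (hpv n).2]
  have hLinj : Function.Injective L := by
    refine (injective_iff_map_eq_zero L).2 fun x hx => ?_
    have h0 : x 0 = 0 := by
      have := hLapp x m
      rw [hx, map_zero, hm', hzero (m + 2) (by omega), smul_zero, smul_zero, add_zero, add_zero] at this
      exact (smul_eq_zero.1 this.symm).resolve_right hm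
    have h1 : x 1 = 0 := by
      have := hLapp x (m - 1)
      rw [hx, map_zero, h0, zero_smul, zero_add, show m - 1 + 1 = m by omega,
        hzero (m - 1 + 2) (by omega), smul_zero, add_zero] at this
      exact (smul_eq_zero.1 this.symm).resolve_right hm
    have h2' : x 2 = 0 := by
      have := hLapp x (m - 2)
      rw [hx, map_zero, h0, h1, zero_smul, zero_smul, zero_add, zero_add,
        show m - 2 + 2 = m by omega] at this
      exact (smul_eq_zero.1 this.symm).resolve_right hm
    funext i
    fin_cases i <;> assumption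
  have hLbij : Function.Bijective L := by
    refine ⟨hLinj, (Function.Injective.bijective_of_nat_card_le hLinj ?_).2⟩
    rw [Nat.card_congr Additive.toMul, hV, Nat.card_fun, Nat.card_zmod, Nat.card_fin]
  have hm3 : m = 2 := by
    by_contra hne'
    obtain ⟨x, hx⟩ := hLbij.2 (δ v₂)
    have key : ∀ n, (δ ^ n) (L x) = (δ ^ (n + 3)) v₀ := fun n => by
      rw [hx, ← Module.End.mul_apply, ← pow_succ, (hpv (n + 1)).2]
    have h0 : x 0 = 0 := by
      have := hLapp x m
      rw [key, hzero (m + 3) (by omega), hm', hzero (m + 2) (by omega), smul_zero, smul_zero, add_zero,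
        add_zero] at this
      exact (smul_eq_zero.1 this.symm).resolve_right hm
    have h1 : x 1 = 0 := by
      have := hLapp x (m - 1)
      rw [key, hzero (m - 1 + 3) (by omega), h0, zero_smul, zero_add, show m - 1 + 1 = m by omega,
        hzero (m - 1 + 2) (by omega), smul_zero, add_zero] at this
      exact (smul_eq_zero.1 this.symm).resolve_right hm
    have h2' : x 2 = 0 := by
      have := hLapp x (m - 2)
      rw [key, hzero (m - 2 + 3) (by omega), h0, h1, zero_smul, zero_smul, zero_add, zero_add,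
        show m - 2 + 2 = m by omega] at this
      exact (smul_eq_zero.1 this.symm).resolve_right hm
    have hx0 : L x = 0 := by rw [hL, h0, h1, h2']; simp
    have := key (m - 3)
    rw [hx0, map_zero, show m - 3 + 3 = m by omega] at this
    exact hm this.symm
  have hτL : ∀ y, τ (L y) = L (stepMap y) := fun y => by
    have hd : ∀ w, τ w = w + δ w := fun w => by
      rw [hδ, LinearMap.sub_apply, Module.End.one_apply, add_sub_cancel]
    have h3 : δ v₂ = 0 := by
      have := (hpv 1).2
      rw [pow_one, hzero (1 + 2) (by omega)] at this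
      exact this
    rw [hd, hL, hL, map_add, map_add, map_smul, map_smul, map_smul, h3, smul_zero]
    simp only [stepMap, Matrix.cons_val_zero, Matrix.cons_val_one, Matrix.cons_val]
    show _ + (y 0 • v₁ + y 1 • v₂ + 0) = _
    rw [add_smul, add_smul]
    abel
  have hτLn : ∀ (n : ℕ) y, (τ ^ n) (L y) = L ((stepMap)^[n] y) := by
    intro n
    induction n with
    | zero => intro y; rfl
    | succ n ih => intro y; rw [pow_succ, Module.End.mul_apply, hτL, ih, Function.iterate_succ_apply]
  let φ : (Fin 3 → ZMod p) × ZMod p → T := fun z => ((Additive.toMul (L z.1) : V) : T) * b ^ z.2.val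
  have hbo : orderOf b = p := orderOf_eq_prime hbp fun e => hbV (e ▸ one_mem V)
  refine ⟨φ, ?_, fun x y k l => ?_⟩
  · have hinj : Function.Injective φ := by
      rintro ⟨x, k⟩ ⟨y, l⟩ e
      have e' : ((Additive.toMul (L y) : V) : T)⁻¹ * (Additive.toMul (L x) : V) =
          b ^ l.val * (b ^ k.val)⁻¹ := by
        have e1 : ((Additive.toMul (L x) : V) : T) * b ^ k.val = (Additive.toMul (L y) : V) * b ^ l.val := e
        rw [eq_mul_inv_iff_mul_eq, mul_assoc, e1, inv_mul_cancel_left]
      have hkl : k = l := by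
        by_contra hkl
        have hmem : b ^ ((l - k : ZMod p)).val ∈ V := by
          have h1 : b ^ ((l - k : ZMod p)).val * b ^ k.val = b ^ l.val := by
            rw [← pow_add, ← pow_mod_orderOf, hbo, ← ZMod.val_add, sub_add_cancel]
          rw [eq_mul_inv_of_mul_eq h1, ← e']
          exact V.mul_mem (V.inv_mem (SetLike.coe_mem _)) (SetLike.coe_mem _)
        refine hbV ?_
        have h1 := V.pow_mem hmem ((l - k : ZMod p)⁻¹).val
        rwa [← pow_mul, ← pow_mod_orderOf, hbo, ← ZMod.val_mul, mul_inv_cancel₀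
          (sub_ne_zero.2 (Ne.symm hkl)), ZMod.val_one, pow_one] at h1
      subst hkl
      rw [mul_inv_cancel, inv_mul_eq_one] at e'
      rw [hLinj (Additive.toMul.injective (Subtype.ext e'.symm))]
    refine ⟨hinj, (Function.Injective.bijective_of_nat_card_le hinj ?_).2⟩
    rw [hT, Nat.card_prod, Nat.card_fun, Nat.card_zmod, Nat.card_fin, ← pow_succ]
  · show _ * _ * (_ * _) = _ * _
    have e : b ^ (k + l).val = b ^ (k.val + l.val) := by
      rw [ZMod.val_add]; exact (pow_eq_pow_mod _ hbp).symm
    rw [map_add, ← hτLn, toMul_add, coe_mul, hτn, e, pow_add]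
    group

theorem nonempty_mulEquiv_of_shape {T : Type u} [Group T] [Finite T] {P : Type v} [Group P] [Finite P]
    (h : Shape p T) (h' : Shape p P) : Nonempty (T ≃* P) := by
  obtain ⟨φ, hφ, hφm⟩ := exists_coords h
  obtain ⟨ψ, hψ, hψm⟩ := exists_coords h'
  let e := (Equiv.ofBijective φ hφ).symm.trans (Equiv.ofBijective ψ hψ)
  have he : ∀ z, e (φ z) = ψ z := fun z => by
    show ψ ((Equiv.ofBijective φ hφ).symm (Equiv.ofBijective φ hφ z)) = _
    rw [Equiv.symm_apply_apply]
  refine ⟨{ e with map_mul' := fun a b => ?_ }⟩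
  obtain ⟨⟨x, k⟩, rfl⟩ := hφ.2 a
  obtain ⟨⟨y, l⟩, rfl⟩ := hφ.2 b
  show e _ = e _ * e _
  rw [hφm, he, he, he, hψm]

open Matrix in
/-- A Sylow subgroup of the four-dimensional symplectic group has the shape. -/
theorem exists_sylow_shape (hp2 : p ≠ 2) :
    ∃ P : Sylow p (Matrix.symplecticGroup (Fin 2) (ZMod p)), Shape p ↥(P : Subgroup (Matrix.symplecticGroup (Fin 2) (ZMod p))) := by
  classical
  set G := Matrix.symplecticGroup (Fin 2) (ZMod p)
  let sym : (Fin 3 → ZMod p) → Matrix (Fin 2) (Fin 2) (ZMod p) := fun s => !![s 0, s 1; s 1, s 2]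
  have hsymT : ∀ s, (sym s)ᵀ = sym s := fun s => by
    ext i j; fin_cases i <;> fin_cases j <;> rfl
  have hsym : ∀ s t, sym (s + t) = sym s + sym t := fun s t => by
    ext i j; fin_cases i <;> fin_cases j <;> rfl
  have hsinj : Function.Injective sym := fun s t e => by
    funext i
    have h0 := congrFun (congrFun e 0) 0
    have h1 := congrFun (congrFun e 0) 1
    have h2 := congrFun (congrFun e 1) 1
    fin_cases i <;> assumption
  let vv : Multiplicative (Fin 3 → ZMod p) →* G :=
    { toFun := fun s => ⟨fromBlocks 1 (sym (Multiplicative.toAdd s)) 0 1,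
        SymplecticGroup.fromBlocks_mem_iff.mpr ⟨by simp, by simp [hsymT], by simp⟩⟩
      map_one' := Subtype.ext (by
        have : sym 0 = 0 := by ext i j; fin_cases i <;> fin_cases j <;> rfl
        simp [this])
      map_mul' := fun s t => Subtype.ext (by
        simp [fromBlocks_multiply, hsym, add_comm]) }
  have hvinj : Function.Injective vv := fun s t e => by
    have := congrArg Subtype.val e
    exact Multiplicative.toAdd.injective (hsinj (fromBlocks_inj.1 this).2.1)
  let mq : ℤ → Matrix (Fin 2) (Fin 2) (ZMod p) := fun n => !![1, (n : ZMod p); 0, 1]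
  let nq : ℤ → Matrix (Fin 2) (Fin 2) (ZMod p) := fun n => !![1, 0; -(n : ZMod p), 1]
  have hmn : ∀ n, (mq n)ᵀ * nq n = 1 := fun n => by
    ext i j; fin_cases i <;> fin_cases j <;> simp [mq, nq, Matrix.mul_apply]
  let bb : Multiplicative ℤ →* G :=
    { toFun := fun n => ⟨fromBlocks (mq (Multiplicative.toAdd n)) 0 0 (nq (Multiplicative.toAdd n)),
        SymplecticGroup.fromBlocks_mem_iff.mpr ⟨by simp, by simp, by simp [hmn]⟩⟩
      map_one' := Subtype.ext (by
        simp [mq, nq, ← one_fin_two])
      map_mul' := fun s t => Subtype.ext (by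
        simp [fromBlocks_multiply, mq, nq, add_comm]) }
  set b := bb (Multiplicative.ofAdd 1) with hb
  have hbp : b ^ p = 1 := by
    rw [hb, ← map_pow]
    refine Subtype.ext ?_
    show fromBlocks _ _ _ _ = (1 : Matrix (Fin 2 ⊕ Fin 2) (Fin 2 ⊕ Fin 2) (ZMod p))
    simp [mq, nq, ← one_fin_two]
  have hconj : ∀ s : Fin 3 → ZMod p, b * vv (Multiplicative.ofAdd s) =
      vv (Multiplicative.ofAdd ![s 0 + 2 * s 1 + s 2, s 1 + s 2, s 2]) * b := fun s => Subtype.ext (by
    show fromBlocks _ _ _ _ * fromBlocks _ _ _ _ = fromBlocks _ _ _ _ * fromBlocks _ _ _ _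
    simp only [fromBlocks_multiply, mul_zero, zero_mul, add_zero, zero_add, one_mul, mul_one]
    congr 1
    ext i j
    fin_cases i <;> fin_cases j <;> simp [mq, nq, sym, Matrix.mul_apply] <;> ring)
  set W := vv.range with hW
  have hcardW : Nat.card W = p ^ 3 := by
    rw [hW, ← Nat.card_congr (MonoidHom.ofInjective hvinj).toEquiv, Nat.card_congr Multiplicative.toAdd,
      Nat.card_fun, Nat.card_zmod, Nat.card_fin]
  set H := W ⊔ zpowers b with hH
  have hbW : b ∉ W := fun ⟨s, e⟩ => by
    have := (fromBlocks_inj.1 (congrArg Subtype.val e)).1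
    have h01 := congrFun (congrFun this 0) 1
    simp [mq] at h01
  have hnorm : H ≤ normalizer (W : Set G) := sup_le le_normalizer (zpowers_le.2 (by
    refine Cfsg.Lib.Fusion.mem_normalizer_of_maps_finite fun x hx => ?_
    obtain ⟨s, rfl⟩ := hx
    refine ⟨Multiplicative.ofAdd ![(Multiplicative.toAdd s) 0 + 2 * (Multiplicative.toAdd s) 1 + (Multiplicative.toAdd s) 2,
      (Multiplicative.toAdd s) 1 + (Multiplicative.toAdd s) 2, (Multiplicative.toAdd s) 2], ?_⟩
    rw [eq_mul_inv_iff_mul_eq, ← hconj]; rfl))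
  haveI hWn : (W.subgroupOf H).Normal := ⟨fun x hx n => by
    have := (Subgroup.mem_normalizer_iff.1 (hnorm n.2) x).1 hx
    exact this⟩
  have hcardH : Nat.card H = p ^ 4 := by
    let f : W × Fin p → H := fun z => ⟨(z.1 : G) * b ^ (z.2 : ℕ),
      mul_mem (mem_sup_left z.1.2) (mem_sup_right (pow_mem (mem_zpowers b) _))⟩
    have hf : Function.Bijective f := by
      constructor
      · rintro ⟨⟨_, s, rfl⟩, i⟩ ⟨⟨_, t, rfl⟩, k⟩ e
        have e' : vv s * b ^ (i : ℕ) = vv t * b ^ (k : ℕ) := congrArg Subtype.val e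
        have hik : i = k := by
          have e1 := e'
          rw [hb, ← map_pow bb, ← map_pow bb] at e1
          have e2 : fromBlocks _ _ _ _ * fromBlocks _ _ _ _ = fromBlocks _ _ _ _ * fromBlocks _ _ _ _ :=
            congrArg Subtype.val e1
          simp only [fromBlocks_multiply, mul_zero, zero_mul, add_zero, zero_add, one_mul] at e2
          have h01 := congrFun (congrFun (fromBlocks_inj.1 e2).1 0) 1
          simp [mq] at h01
          refine Fin.ext ?_
          have := congrArg ZMod.val h01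
          rwa [ZMod.val_natCast_of_lt i.2, ZMod.val_natCast_of_lt k.2] at this
        subst hik
        rw [mul_right_cancel_iff] at e'
        simp [hvinj e']
      · rintro ⟨x, hx⟩
        have hx' : x ∈ (W : Set G) * (zpowers b : Set G) := by
          rw [← coe_mul_of_right_le_normalizer_left W (zpowers b) (le_sup_right.trans hnorm)]
          exact hx
        obtain ⟨w, hw, z, ⟨j, rfl⟩, rfl⟩ := Set.mem_mul.1 hx'
        have hj := Int.emod_lt_of_pos j (by exact_mod_cast hp.out.pos : (0 : ℤ) < p)
        have hj0 := Int.emod_nonneg j (by exact_mod_cast hp.out.pos.ne' : (p : ℤ) ≠ 0)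
        refine ⟨(⟨w, hw⟩, ⟨(j % (p : ℤ)).toNat, by omega⟩), Subtype.ext ?_⟩
        show w * b ^ (j % (p : ℤ)).toNat = w * b ^ j
        rw [← zpow_natCast, Int.toNat_of_nonneg hj0, ← zpow_eq_zpow_emod' j hbp]
    rw [← Nat.card_congr (Equiv.ofBijective f hf), Nat.card_prod, hcardW, Nat.card_fin, ← pow_succ]
  have hfact : (Nat.card G).factorization p = 4 := by
    have h1 : Nat.card G = p ^ 4 * ((p ^ 2 - 1) * (p ^ 4 - 1)) := by
      rw [Cfsg.Lib.Classical.card_symplecticGroup, Finset.prod_range_succ, Finset.prod_range_one, Nat.card_zmod]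
      norm_num
    have hnd : ∀ k, 0 < k → ¬ p ∣ p ^ k - 1 := fun k hk hd => by
      have h2 : p ∣ p ^ k := dvd_pow_self p hk.ne'
      have h3 := Nat.dvd_sub h2 hd
      rw [Nat.sub_sub_self (Nat.one_le_pow _ _ hp.out.pos)] at h3
      exact hp.out.ne_one (Nat.dvd_one.1 h3)
    have h0 : (p ^ 2 - 1) * (p ^ 4 - 1) ≠ 0 := fun e => by
      rcases Nat.mul_eq_zero.1 e with e | e <;> exact (hnd _ (by norm_num)) (e ▸ dvd_zero p)
    rw [h1, Nat.factorization_mul (pow_ne_zero _ hp.out.ne_zero) h0, Finsupp.add_apply,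
      hp.out.factorization_pow, Finsupp.single_eq_same, Nat.factorization_eq_zero_of_not_dvd]
    exact fun hd => ((Nat.Prime.dvd_mul hp.out).1 hd).elim (hnd 2 (by norm_num)) (hnd 4 (by norm_num))
  refine ⟨Sylow.ofCard H (by rw [hfact]; exact hcardH), ?_⟩
  show Shape p H
  refine ⟨hcardH, W.subgroupOf H, hWn, ?_, ?_, ?_, ⟨b, mem_sup_right (mem_zpowers b)⟩, hbW,
    Subtype.ext hbp, ⟨vv (Multiplicative.ofAdd ![0, 0, 1]), mem_sup_left ⟨_, rfl⟩⟩, ⟨_, rfl⟩, ?_⟩
  · rw [Nat.card_congr (subgroupOfEquivOfLe (le_sup_left : W ≤ H)).toEquiv, hcardW]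
  · rintro ⟨x, _⟩ ⟨s, e⟩ ⟨y, _⟩ ⟨t, e'⟩
    refine Subtype.ext (show x * y = y * x from ?_)
    rw [show x = vv s from e.symm, show y = vv t from e'.symm, ← map_mul, ← map_mul, mul_comm]
  · rintro ⟨x, _⟩ ⟨s, e⟩
    refine Subtype.ext (show x ^ p = 1 from ?_)
    rw [show x = vv s from e.symm, ← map_pow, show s ^ p = 1 from Multiplicative.toAdd.injective (by
      rw [toAdd_pow, toAdd_one]; funext i; simp), map_one]
  · intro e
    have e' : ⁅b, ⁅b, vv (Multiplicative.ofAdd ![0, 0, 1])⁆⁆ = 1 := congrArg Subtype.val e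
    have hc : ∀ s, ⁅b, vv (Multiplicative.ofAdd s)⁆ = vv (Multiplicative.ofAdd (![s 0 + 2 * s 1 + s 2, s 1 + s 2, s 2] - s)) := fun s => by
      rw [commutatorElement_def, hconj, mul_inv_cancel_right, ← map_inv, ← map_mul, sub_eq_add_neg]
      rfl
    rw [hc, hc, ← map_one vv] at e'
    have h0 := congrFun (Multiplicative.ofAdd.injective (hvinj e')) 0
    simp at h0
    exact hp2 ((Nat.prime_dvd_prime_iff_eq hp.out Nat.prime_two).1
      ((ZMod.natCast_eq_zero_iff 2 p).1 (by exact_mod_cast (by linear_combination h0 : (2 : ZMod p) = 0))))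

end Cfsg.Lib.Fusion.RankThreePair
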