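import Cfsg.Agent.Fusion.RankThreePair.Tools

/-!
Families of models with a group of automorphisms of the `p`-group and a trivial core.
-/

set_option autoImplicit false
set_option linter.unusedSectionVars false

namespace Cfsg.Lib.Fusion.RankThreePair

open Subgroup Cfsg.Lib.Fusion.RankThree
open scoped commutatorElement

universe u v

/-- A family of models with its compatible automorphisms. -/
structure Sys (p : ℕ) (T : Type u) [Group T] where
  /-- The index type. -/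
  Idx : Type v
  /-- The models. -/
  mdl : Idx → Mdl p T
  /-- The automorphisms. -/
  B : Subgroup (MulAut T)
  inner : ∀ b ∈ B, (∃ k : ℕ, b ^ p ^ k = 1) → ∃ s : T, ∀ t, b t = s * t * s⁻¹
  norm : ∀ (i : Idx) (g : (mdl i).G), (∀ t, ∃ t', (mdl i).ι t' = g * (mdl i).ι t * g⁻¹) →
    ∃ b ∈ B, ∀ t, (mdl i).ι (b t) = g * (mdl i).ι t * g⁻¹
  move : ∀ b ∈ B, ∀ i, ∃ j, (mdl j).E = (mdl i).E.map b.toMonoidHom ∧
    ∀ X : Subgroup T, (mdl i).Inv X → (mdl j).Inv (X.map b.toMonoidHom)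
  core : ∀ R : Subgroup T, (∀ i, (mdl i).Inv R) → (∀ b ∈ B, R.map b.toMonoidHom = R) → R = ⊥

/-- The shape of a Sylow subgroup of the four-dimensional symplectic group. -/
def Shape (p : ℕ) (T : Type u) [Group T] : Prop :=
  Nat.card T = p ^ 4 ∧ ∃ V : Subgroup T, V.Normal ∧ Nat.card V = p ^ 3 ∧
    (∀ x ∈ V, ∀ y ∈ V, Commute x y) ∧ (∀ x ∈ V, x ^ p = 1) ∧
    ∃ b, b ∉ V ∧ b ^ p = 1 ∧ ∃ v ∈ V, ⁅b, ⁅b, v⁆⁆ ≠ 1

/-- A subgroup of order `p ^ 3`, exponent `p`, and class two. -/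
def IsPearlShape (p : ℕ) {T : Type u} [Group T] (E : Subgroup T) : Prop :=
  Nat.card E = p ^ 3 ∧ (∀ x ∈ E, x ^ p = 1) ∧ ∃ x ∈ E, ∃ y ∈ E, ¬ Commute x y

variable {p : ℕ} {T : Type u} [Group T]

theorem Sys.char_center (b : MulAut T) : (center T).map b.toMonoidHom = center T :=
  Subgroup.characteristic_iff_map_eq.1 inferInstance b

theorem Sys.char_zOmega (b : MulAut T) : (zOmega p T).map b.toMonoidHom = zOmega p T := by
  have h : ∀ c : MulAut T, ∀ x ∈ zOmega p T, c x ∈ zOmega p T := fun c x hx =>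
    ⟨(Sys.char_center c).le (mem_map_of_mem _ hx.1), by rw [← map_pow, hx.2, map_one]⟩
  refine le_antisymm ?_ fun x hx => ⟨b⁻¹ x, h b⁻¹ x hx, MulAut.apply_inv_self _ b x⟩
  rintro _ ⟨x, hx, rfl⟩
  exact h b x hx

end Cfsg.Lib.Fusion.RankThreePair
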