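import Cfsg.Agent.Fusion.RankThreePair.Basic

/-!
Counting tools, central commutators and the isotropic plane.
-/

set_option autoImplicit false
set_option linter.unusedSectionVars false
set_option linter.style.haveILetI false

namespace Cfsg.Lib.Fusion.RankThreePair

open Subgroup Cfsg.Lib.Fusion.RankThree
open scoped commutatorElement

universe u

variable {p : ℕ} [hp : Fact p.Prime] {T : Type u} [Group T] [Finite T]

theorem exists_mem_zOmega (hT : IsPGroup p T) {N : Subgroup T} [N.Normal] (hN : N ≠ ⊥) :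
    ∃ z ∈ N, z ∈ zOmega p T ∧ z ≠ 1 := by
  obtain ⟨z, hzN, hzc, hz⟩ := Cfsg.Lib.PGroups.exists_mem_center_of_normal_ne_bot hT hN
  exact ⟨z, hzN, ⟨hzc, orderOf_dvd_iff_pow_eq_one.1 hz.dvd⟩, fun e => by
    rw [e, orderOf_one] at hz; exact hp.out.ne_one hz.symm⟩

theorem card_sup (A B : Subgroup T) [A.Normal] :
    Nat.card (A ⊔ B : Subgroup T) * Nat.card (A ⊓ B : Subgroup T) = Nat.card A * Nat.card B := by
  have h1 := Subgroup.relIndex_mul_relIndex ⊥ A (A ⊔ B) bot_le le_sup_left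
  have h2 := Subgroup.relIndex_mul_relIndex ⊥ (A ⊓ B) B bot_le inf_le_right
  rw [Subgroup.relIndex_bot_left, Subgroup.relIndex_bot_left] at h1 h2
  rw [sup_comm A B, Subgroup.relIndex_sup_right] at h1
  rw [Subgroup.inf_relIndex_right] at h2
  rw [sup_comm A B, ← h1, ← h2]
  ring

theorem card_eq_pow (hT : IsPGroup p T) (A : Subgroup T) : ∃ n, Nat.card A = p ^ n :=
  IsPGroup.iff_card.1 (hT.to_subgroup A)

omit [Finite T] in
theorem mem_sup_zpowers {A : Subgroup T} [A.Normal] {x t : T} (h : t ∈ A ⊔ zpowers x) :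
    ∃ i : ℤ, ∃ a ∈ A, t = x ^ i * a := by
  rw [sup_comm] at h
  obtain ⟨_, ⟨i, rfl⟩, a, ha, e⟩ := mem_sup_of_normal_right.1 h
  exact ⟨i, a, ha, e.symm⟩

theorem exists_decomp (M : Mdl p T) {x : T} (hx : x ∉ M.E) (t : T) :
    ∃ i : ℤ, ∃ a ∈ M.E, t = x ^ i * a := by
  haveI := M.E_normal
  exact mem_sup_zpowers ((M.eq_top_of_lt (le_sup_left : M.E ≤ M.E ⊔ zpowers x)
    (mem_sup_right (mem_zpowers x)) hx).ge (mem_top t))

omit [Finite T] in
theorem zpow_eq_one_iff {x : T} (hx : x ^ p = 1) (hx1 : x ≠ 1) (i : ℤ) :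
    x ^ i = 1 ↔ (p : ℤ) ∣ i := by
  rw [← orderOf_dvd_iff_zpow_eq_one, orderOf_eq_prime hx hx1]

omit [Finite T] in
theorem mem_of_zpow_mem {U : Subgroup T} {x : T} (hx : x ^ p ∈ U) {i : ℤ} (hi : ¬ (p : ℤ) ∣ i)
    (h : x ^ i ∈ U) : x ∈ U := by
  obtain ⟨u, v, huv⟩ :=
    (((Nat.prime_iff_prime_int.1 hp.out).coprime_iff_not_dvd.2 hi).symm : IsCoprime i (p : ℤ))
  rw [← zpow_one x, ← huv, zpow_add, mul_comm u, mul_comm v, zpow_mul, zpow_mul, zpow_natCast]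
  exact mul_mem (zpow_mem h u) (zpow_mem hx v)

theorem card_zpowers_eq {x : T} (hx : x ^ p = 1) (hx1 : x ≠ 1) : Nat.card (zpowers x) = p := by
  rw [Nat.card_zpowers, orderOf_eq_prime hx hx1]

theorem lt_card_sup (hT : IsPGroup p T) {A : Subgroup T} {x : T} (hx : x ∉ A) :
    p * Nat.card A ≤ Nat.card (A ⊔ zpowers x : Subgroup T) :=
  card_mul_le hT (lt_of_le_of_ne le_sup_left fun e => hx (e.ge (mem_sup_right (mem_zpowers x))))

theorem exists_not_mem_of_card {A B : Subgroup T} (h : Nat.card A < Nat.card B) : ∃ x ∈ B, x ∉ A := by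
  by_contra hh
  push Not at hh
  exact absurd (Subgroup.card_le_of_le hh) (not_le.2 h)

omit [Finite T] hp in
/-- The commutator with a fixed element, when commutators are central in the subgroup. -/
def comR {U : Subgroup T} (hc : ∀ a ∈ U, ∀ b ∈ U, ∀ c ∈ U, Commute ⁅a, b⁆ c) (x : U) : U →* T where
  toFun y := ⁅(x : T), (y : T)⁆
  map_one' := by simp
  map_mul' y z := by
    rw [Subgroup.coe_mul, Cfsg.Lib.PGroups.mul_right_commutator,
      ((hc x x.2 z z.2 y y.2).symm).eq, mul_inv_cancel_right]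

theorem sup_pair_abelian {U : Subgroup T} (hU : ∀ a ∈ U, ∀ b ∈ U, Commute a b) {a : T}
    (ha : ∀ b ∈ U, Commute a b) : ∀ x ∈ U ⊔ zpowers a, ∀ y ∈ U ⊔ zpowers a, Commute x y := by
  have hle : U ⊔ zpowers a ≤ centralizer (U : Set T) ⊓ centralizer {a} := sup_le
    (fun u hu => ⟨mem_centralizer_iff.2 fun b hb => hU b hb u hu,
      mem_centralizer_singleton_iff.2 (ha u hu).eq.symm⟩)
    (zpowers_le.2 ⟨mem_centralizer_iff.2 fun b hb => (ha b hb).eq.symm,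
      mem_centralizer_singleton_iff.2 rfl⟩)
  intro x hx y hy
  have h1 : U ⊔ zpowers a ≤ centralizer ({x} : Set T) := sup_le
    (fun u hu => mem_centralizer_singleton_iff.2 (mem_centralizer_iff.1 (hle hx).1 u hu))
    (zpowers_le.2 (mem_centralizer_singleton_iff.2 (mem_centralizer_singleton_iff.1 (hle hx).2).symm))
  exact (mem_centralizer_singleton_iff.1 (h1 hy)).symm

theorem sup_pair_pow {U : Subgroup T} (hU : ∀ a ∈ U, ∀ b ∈ U, Commute a b) {a : T}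
    (ha : ∀ b ∈ U, Commute a b) (hUp : ∀ u ∈ U, u ^ p = 1) (hap : a ^ p = 1) :
    ∀ x ∈ U ⊔ zpowers a, x ^ p = 1 := by
  intro x hx
  let K : Subgroup T :=
    { carrier := {y | y ∈ U ⊔ zpowers a ∧ y ^ p = 1}
      one_mem' := ⟨one_mem _, one_pow _⟩
      mul_mem' := fun {y z} hy hz => ⟨mul_mem hy.1 hz.1, by
        rw [(sup_pair_abelian hU ha y hy.1 z hz.1).mul_pow, hy.2, hz.2, mul_one]⟩
      inv_mem' := fun {y} hy => ⟨inv_mem hy.1, by rw [inv_pow, hy.2, inv_one]⟩ }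
  exact ((sup_le (fun y hy => ⟨mem_sup_left hy, hUp y hy⟩)
    (zpowers_le.2 ⟨mem_sup_right (mem_zpowers a), hap⟩) : U ⊔ zpowers a ≤ K) hx).2

/-- A group of class two, exponent `p` and order at least `p ^ 5` over a central subgroup of order
`p ^ 2` containing its commutators has an elementary abelian subgroup of order `p ^ 4`. -/
theorem false_of_isotropic (hT : IsPGroup p T) (hr : RankThreeLE p T) {U V : Subgroup T}
    (hVU : V ≤ U) (hV : Nat.card V = p ^ 2) (hcen : ∀ v ∈ V, ∀ u ∈ U, Commute v u)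
    (hcomm : ∀ a ∈ U, ∀ b ∈ U, ⁅a, b⁆ ∈ V) (hexp : ∀ u ∈ U, u ^ p = 1)
    (hU : p ^ 5 ≤ Nat.card U) : False := by
  have hc : ∀ a ∈ U, ∀ b ∈ U, ∀ c ∈ U, Commute ⁅a, b⁆ c := fun a ha b hb c hc =>
    hcen _ (hcomm a ha b hb) c hc
  -- two commuting elements outside give the contradiction
  have key : ∀ a ∈ U, ∀ b ∈ U, a ∉ V → b ∉ V ⊔ zpowers a → ⁅a, b⁆ = 1 → False := by
    intro a ha b hb haV hbA hab
    have hA := sup_pair_abelian (U := V) (fun x hx y hy => hcen x hx y (hVU hy)) (a := a)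
      fun v hv => (hcen v hv a ha).symm
    have hAp := sup_pair_pow (U := V) (fun x hx y hy => hcen x hx y (hVU hy)) (a := a)
      (fun v hv => (hcen v hv a ha).symm) (fun v hv => hexp v (hVU hv)) (hexp a ha)
    have hbc : ∀ x ∈ V ⊔ zpowers a, Commute b x := by
      have hle : V ⊔ zpowers a ≤ centralizer ({b} : Set T) := sup_le
        (fun v hv => mem_centralizer_singleton_iff.2 (hcen v hv b hb).eq)
        (zpowers_le.2 (mem_centralizer_singleton_iff.2 (commutatorElement_eq_one_iff_commute.1 hab).eq))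
      exact fun x hx => (mem_centralizer_singleton_iff.1 (hle hx)).symm
    have h1 := elem_card_le hr _ (sup_pair_abelian hA hbc) (sup_pair_pow hA hbc hAp (hexp b hb))
    have h2 := lt_card_sup hT haV
    have h3 := lt_card_sup hT hbA
    rw [hV] at h2
    have h4 : p * (p * p ^ 2) ≤ p ^ 3 := (Nat.mul_le_mul_left p h2).trans (h3.trans h1)
    rw [← pow_succ', ← pow_succ'] at h4
    exact absurd ((Nat.pow_le_pow_iff_right hp.out.one_lt).1 h4) (by norm_num)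
  have hlt : ∀ A : Subgroup T, Nat.card A ≤ p ^ 4 → Nat.card A < Nat.card U := fun A hA =>
    (hA.trans_lt (Nat.pow_lt_pow_right hp.out.one_lt (by norm_num))).trans_le hU
  have hsup : ∀ (A : Subgroup T) (n : ℕ), Nat.card A ≤ p ^ n → (∀ x ∈ A, ∀ u ∈ U, x ∈ U) →
      V ≤ A → A ≤ U → ∀ u ∈ U, Nat.card (A ⊔ zpowers u : Subgroup T) ≤ p ^ (n + 1) := by
    intro A n hA _ hVA hAU u hu
    have hn : (A.subgroupOf U).Normal := ⟨fun x hx g => mem_subgroupOf.2 (by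
      have h1 : ⁅(g : T), (x : T)⁆ * x ∈ A := mul_mem (hVA (hcomm g g.2 x x.2)) hx
      rwa [commutatorElement_def, inv_mul_cancel_right] at h1)⟩
    have h1 := card_sup (T := U) (A.subgroupOf U) (zpowers ⟨u, hu⟩)
    have h2 : Nat.card (A.subgroupOf U ⊔ zpowers (⟨u, hu⟩ : U) : Subgroup U) =
        Nat.card (A ⊔ zpowers u : Subgroup T) := by
      rw [← Subgroup.card_map_of_injective U.subtype_injective, Subgroup.map_sup,
        Subgroup.map_subgroupOf_eq_of_le hAU, MonoidHom.map_zpowers]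
      rfl
    have h3 : Nat.card (zpowers (⟨u, hu⟩ : U)) ≤ p := by
      rw [Nat.card_zpowers]; exact orderOf_le_of_pow_eq_one hp.out.pos (Subtype.ext (hexp u hu))
    rw [h2, Nat.card_congr (subgroupOfEquivOfLe hAU).toEquiv] at h1
    rw [pow_succ]
    exact (Nat.le_mul_of_pos_right _ Nat.card_pos).trans (h1.le.trans (Nat.mul_le_mul hA h3))
  obtain ⟨u1, h1U, h1⟩ := exists_not_mem_of_card (hlt V (hV.le.trans
    (Nat.pow_le_pow_right hp.out.pos (by norm_num))))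
  have hA1 := hsup V 2 hV.le (fun _ hx _ _ => hVU hx) le_rfl hVU u1 h1U
  obtain ⟨u2, h2U, h2⟩ := exists_not_mem_of_card (hlt (V ⊔ zpowers u1)
    (hA1.trans (Nat.pow_le_pow_right hp.out.pos (by norm_num))))
  have hA1U : V ⊔ zpowers u1 ≤ U := sup_le hVU (zpowers_le.2 h1U)
  have hA2 := hsup _ 3 hA1 (fun _ hx _ _ => hA1U hx) le_sup_left hA1U u2 h2U
  obtain ⟨u3, h3U, h3⟩ := exists_not_mem_of_card (hlt (V ⊔ zpowers u1 ⊔ zpowers u2) hA2)
  set A1 := V ⊔ zpowers u1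
  have hV3 : V ≤ A1 ⊔ zpowers u2 := le_sup_left.trans le_sup_left
  have h31 : u3 ∉ V ⊔ zpowers u1 := fun h => h3 (mem_sup_left h)
  set f1 := comR hc ⟨u1, h1U⟩
  set f2 := comR hc ⟨u2, h2U⟩
  have hV' : ∀ v ∈ V, v ^ p = 1 := fun v hv => hexp v (hVU hv)
  by_cases hα : ⁅u1, u2⁆ ∈ zpowers ⁅u1, u3⁆
  · obtain ⟨k, hk⟩ := hα
    refine key u1 h1U (u2 * u3 ^ (-k)) (mul_mem h2U (zpow_mem h3U _)) h1 (fun h => ?_) ?_
    · by_cases hdvd : (p : ℤ) ∣ k
      · obtain ⟨j, rfl⟩ := hdvd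
        rw [show -((p : ℤ) * j) = (p : ℤ) * -j by ring, zpow_mul, zpow_natCast, hexp u3 h3U,
          one_zpow, mul_one] at h
        exact h2 h
      · have h' : u3 ^ (-k) ∈ A1 ⊔ zpowers u2 := by
          have := mul_mem (inv_mem (mem_sup_right (mem_zpowers u2) : u2 ∈ A1 ⊔ zpowers u2))
            (mem_sup_left h : u2 * u3 ^ (-k) ∈ A1 ⊔ zpowers u2)
          rwa [inv_mul_cancel_left] at this
        exact h3 (mem_of_zpow_mem (by rw [hexp u3 h3U]; exact one_mem _) (by rwa [dvd_neg]) h')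
    · show f1 (⟨u2, h2U⟩ * ⟨u3, h3U⟩ ^ (-k)) = 1
      rw [map_mul, map_zpow]
      show ⁅u1, u2⁆ * ⁅u1, u3⁆ ^ (-k) = 1
      rw [← hk]
      exact (by group : ⁅u1, u3⁆ ^ k * ⁅u1, u3⁆ ^ (-k) = 1)
  · have hβ1 : ⁅u1, u3⁆ ≠ 1 := fun h => key u1 h1U u3 h3U h1 h31 h
    have hle : zpowers ⁅u1, u3⁆ ⊔ zpowers ⁅u1, u2⁆ ≤ V :=
      sup_le (zpowers_le.2 (hcomm _ h1U _ h3U)) (zpowers_le.2 (hcomm _ h1U _ h2U))
    have heq : zpowers ⁅u1, u3⁆ ⊔ zpowers ⁅u1, u2⁆ = V := by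
      refine Subgroup.eq_of_le_of_card_ge hle ?_
      have h4 := lt_card_sup hT hα
      rw [card_zpowers_eq (hV' _ (hcomm _ h1U _ h3U)) hβ1, ← sq] at h4
      rw [hV]
      exact h4
    obtain ⟨r, s, hrs⟩ : ∃ r s : ℤ, ⁅u2, u3⁆ = ⁅u1, u2⁆ ^ r * ⁅u1, u3⁆ ^ s := by
      have hγ := hcomm _ h2U _ h3U
      rw [← heq] at hγ
      have hcm : ∀ y ∈ zpowers ⁅u1, u3⁆, Commute ⁅u1, u2⁆ y := fun y hy =>
        hc _ h1U _ h2U y (hVU (hle (mem_sup_left hy)))
      let W : Subgroup T :=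
        { carrier := {y | ∃ r s : ℤ, y = ⁅u1, u2⁆ ^ r * ⁅u1, u3⁆ ^ s}
          one_mem' := ⟨0, 0, by simp⟩
          mul_mem' := by
            rintro _ _ ⟨a, b, rfl⟩ ⟨a', b', rfl⟩
            refine ⟨a + a', b + b', ?_⟩
            rw [zpow_add, zpow_add, mul_assoc, ← mul_assoc (⁅u1, u3⁆ ^ b),
              ← ((hcm _ (zpow_mem (mem_zpowers _) b)).zpow_left a').eq]
            group
          inv_mem' := by
            rintro _ ⟨a, b, rfl⟩
            refine ⟨-a, -b, ?_⟩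
            rw [mul_inv_rev, zpow_neg, zpow_neg,
              ((hcm _ (zpow_mem (mem_zpowers _) b)).zpow_left a).inv_inv.symm.eq] }
      exact (sup_le (zpowers_le.2 ⟨0, 1, by simp⟩) (zpowers_le.2 ⟨1, 0, by simp⟩) :
        zpowers ⁅u1, u3⁆ ⊔ zpowers ⁅u1, u2⁆ ≤ W) hγ
    have h21 : ⁅u2, u1⁆ = ⁅u1, u2⁆⁻¹ := (commutatorElement_inv u1 u2).symm
    -- the plane
    refine key (u2 * u1 ^ (-s)) (mul_mem h2U (zpow_mem h1U _)) (u3 * u1 ^ r)
      (mul_mem h3U (zpow_mem h1U _)) (fun h => h2 ?_) (fun h => h3 ?_) ?_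
    · have h' := mul_mem (mem_sup_left h : u2 * u1 ^ (-s) ∈ A1)
        (mem_sup_right (zpow_mem (mem_zpowers u1) s) : u1 ^ s ∈ A1)
      rwa [mul_assoc, ← zpow_add, neg_add_cancel, zpow_zero, mul_one] at h'
    · have hle2 : V ⊔ zpowers (u2 * u1 ^ (-s)) ≤ A1 ⊔ zpowers u2 := sup_le hV3 (zpowers_le.2
        (mul_mem (mem_sup_right (mem_zpowers u2))
          (mem_sup_left (mem_sup_right (zpow_mem (mem_zpowers u1) _)))))
      have h' := mul_mem (hle2 h)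
        (inv_mem (mem_sup_left (mem_sup_right (zpow_mem (mem_zpowers u1) r)) : u1 ^ r ∈ A1 ⊔ zpowers u2))
      rwa [mul_inv_cancel_right] at h'
    · have e : ⁅u2 * u1 ^ (-s), u3 * u1 ^ r⁆ =
          ⁅u2, u3⁆ * ⁅u2, u1⁆ ^ r * (⁅u1, u3⁆ ^ (-s)) := by
        set a : U := ⟨u1, h1U⟩
        set b : U := ⟨u2, h2U⟩
        set c : U := ⟨u3, h3U⟩
        have hz : ∀ x y : U, ⁅x, y⁆ ∈ center U := fun x y => mem_center_iff.2 fun z =>
          Subtype.ext (hc x x.2 y y.2 z z.2).eq.symm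
        have h' : ⁅b * a ^ (-s), c * a ^ r⁆ = ⁅b, c⁆ * ⁅b, a⁆ ^ r * ⁅a, c⁆ ^ (-s) := by
          rw [Cfsg.Lib.PGroups.commutator_mul_left_of_central (hz _ _),
            Cfsg.Lib.PGroups.commutator_mul_right_of_central (hz _ _),
            Cfsg.Lib.PGroups.commutator_mul_right_of_central (hz _ _)]
          have hl : ∀ (x y : U) (n : ℤ), ⁅x, y ^ n⁆ = ⁅x, y⁆ ^ n := fun x y n =>
            commutator_zpow_right (hz x y) n
          have hl' : ∀ (x y : U) (n : ℤ), ⁅x ^ n, y⁆ = ⁅x, y⁆ ^ n := fun x y n => by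
            rw [← commutatorElement_inv y (x ^ n), hl, ← inv_zpow, commutatorElement_inv]
          rw [hl b a r, hl' a c (-s), hl (a ^ (-s)) a r,
            commutatorElement_eq_one_iff_commute.2 ((Commute.refl a).zpow_left _), one_zpow, mul_one]
        exact congrArg Subtype.val h'
      rw [e, hrs, h21]
      have hcm : Commute (⁅u1, u2⁆ ^ r) (⁅u1, u3⁆ ^ s) :=
        ((hc _ h1U _ h2U ⁅u1, u3⁆ (hVU (hcomm _ h1U _ h3U))).zpow_left r).zpow_right s
      rw [hcm.eq, inv_zpow, mul_inv_cancel_right, ← zpow_add, add_neg_cancel, zpow_zero]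

/-- Two normalising elementary abelian subgroups sharing an index `p` subgroup. -/
theorem sup_elem_props {A B : Subgroup T} (hp2 : p ≠ 2) (hA : ∀ a ∈ A, ∀ b ∈ A, Commute a b)
    (hB : ∀ a ∈ B, ∀ b ∈ B, Commute a b) (hAp : ∀ a ∈ A, a ^ p = 1) (hBp : ∀ a ∈ B, a ^ p = 1)
    (hAn : ∀ b ∈ B, ∀ a ∈ A, b * a * b⁻¹ ∈ A) (hBn : ∀ a ∈ A, ∀ b ∈ B, a * b * a⁻¹ ∈ B) :
    (∀ x ∈ A ⊔ B, ∀ y ∈ A ⊔ B, ⁅x, y⁆ ∈ A ⊓ B) ∧
      (∀ v ∈ A ⊓ B, ∀ u ∈ A ⊔ B, Commute v u) ∧ ∀ u ∈ A ⊔ B, u ^ p = 1 := by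
  have hcen : ∀ v ∈ A ⊓ B, ∀ u ∈ A ⊔ B, Commute v u := fun v hv u hu => by
    have hle : A ⊔ B ≤ centralizer ({v} : Set T) := sup_le
      (fun a ha => mem_centralizer_singleton_iff.2 (hA a ha v hv.1).eq)
      (fun b hb => mem_centralizer_singleton_iff.2 (hB b hb v hv.2).eq)
    exact (mem_centralizer_singleton_iff.1 (hle hu)).symm
  have hAB : ∀ a ∈ A, ∀ b ∈ B, ⁅a, b⁆ ∈ A ⊓ B := fun a ha b hb => by
    constructor
    · rw [commutatorElement_def, mul_assoc, mul_assoc, ← mul_assoc b]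
      exact mul_mem ha (hAn b hb a⁻¹ (inv_mem ha))
    · exact B.mul_mem (hBn a ha b hb) (inv_mem hb)
  let X : Subgroup T :=
    { carrier := {x | x ∈ A ⊔ B ∧ (∀ a ∈ A, ⁅x, a⁆ ∈ A ⊓ B) ∧ ∀ b ∈ B, ⁅x, b⁆ ∈ A ⊓ B}
      one_mem' := ⟨one_mem _, fun _ _ => by rw [commutatorElement_one_left]; exact one_mem _,
        fun _ _ => by rw [commutatorElement_one_left]; exact one_mem _⟩
      mul_mem' := fun {x y} hx hy => by
        refine ⟨mul_mem hx.1 hy.1, fun a ha => ?_, fun b hb => ?_⟩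
        · rw [Cfsg.Lib.PGroups.mul_left_commutator, ← (hcen _ (hy.2.1 a ha) x hx.1).eq,
            mul_inv_cancel_right]
          exact mul_mem (hy.2.1 a ha) (hx.2.1 a ha)
        · rw [Cfsg.Lib.PGroups.mul_left_commutator, ← (hcen _ (hy.2.2 b hb) x hx.1).eq,
            mul_inv_cancel_right]
          exact mul_mem (hy.2.2 b hb) (hx.2.2 b hb)
      inv_mem' := fun {x} hx => by
        refine ⟨inv_mem hx.1, fun a ha => ?_, fun b hb => ?_⟩
        · rw [show ⁅x⁻¹, a⁆ = x⁻¹ * ⁅x, a⁆⁻¹ * x by simp only [commutatorElement_def]; group,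
            ← (hcen _ (inv_mem (hx.2.1 a ha)) x⁻¹ (inv_mem hx.1)).eq, inv_mul_cancel_right]
          exact inv_mem (hx.2.1 a ha)
        · rw [show ⁅x⁻¹, b⁆ = x⁻¹ * ⁅x, b⁆⁻¹ * x by simp only [commutatorElement_def]; group,
            ← (hcen _ (inv_mem (hx.2.2 b hb)) x⁻¹ (inv_mem hx.1)).eq, inv_mul_cancel_right]
          exact inv_mem (hx.2.2 b hb) }
  have hX : A ⊔ B ≤ X := sup_le
    (fun a ha => ⟨mem_sup_left ha, fun a' ha' => by
      rw [commutatorElement_eq_one_iff_commute.2 (hA a ha a' ha')]; exact one_mem _, hAB a ha⟩)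
    (fun b hb => ⟨mem_sup_right hb, fun a ha => by
      rw [← commutatorElement_inv]; exact inv_mem (hAB a ha b hb), fun b' hb' => by
      rw [commutatorElement_eq_one_iff_commute.2 (hB b hb b' hb')]; exact one_mem _⟩)
  have hcomm : ∀ x ∈ A ⊔ B, ∀ y ∈ A ⊔ B, ⁅x, y⁆ ∈ A ⊓ B := fun x hx y hy => by
    obtain ⟨-, h1, h2⟩ := hX hx
    let Y : Subgroup T :=
      { carrier := {y | y ∈ A ⊔ B ∧ ⁅x, y⁆ ∈ A ⊓ B}
        one_mem' := ⟨one_mem _, by rw [commutatorElement_one_right]; exact one_mem _⟩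
        mul_mem' := fun {y z} hy hz => ⟨mul_mem hy.1 hz.1, by
          rw [Cfsg.Lib.PGroups.mul_right_commutator, ← (hcen _ hz.2 y hy.1).eq, mul_inv_cancel_right]
          exact mul_mem hy.2 hz.2⟩
        inv_mem' := fun {y} hy => ⟨inv_mem hy.1, by
          rw [show ⁅x, y⁻¹⁆ = y⁻¹ * ⁅x, y⁆⁻¹ * y by simp only [commutatorElement_def]; group,
            ← (hcen _ (inv_mem hy.2) y⁻¹ (inv_mem hy.1)).eq, inv_mul_cancel_right]
          exact inv_mem hy.2⟩ }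
    exact ((sup_le (fun a ha => ⟨mem_sup_left ha, h1 a ha⟩) (fun b hb => ⟨mem_sup_right hb, h2 b hb⟩) :
      A ⊔ B ≤ Y) hy).2
  exact ⟨hcomm, hcen, pow_p_of_sup hp2 hAp hBp fun x hx y hy z hz => hcen _ (hcomm x hx y hy) z hz⟩

end Cfsg.Lib.Fusion.RankThreePair
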